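import Cfsg.Agent.H75.T3Good
import Cfsg.Agent.S0249
import Cfsg.Agent.S0296

/-!
# The models of types `A_n` and `D_n`
-/

set_option autoImplicit false

namespace Cfsg.Agent.H72.T3M

open Equiv H34 H75 H75.T3G H78 H78.Frame H80 H26 H30 Lead.T3 Module

section Ord

variable {ι Φ : Type*} (S : SignedSys ι Φ) {i j : ι}

theorem s_mul_ne (h : i ≠ j) : S.s i * S.s j ≠ 1 := fun e => by
  have h1 : S.s i (S.α j) = S.neg (S.α j) := by
    rw [← S.s_α, eq_inv_of_mul_eq_one_left e, inv_eq_of_mul_eq_one_left (S.s_mul_self j)]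
  have h2 := S.s_pos i _ (S.pos_α j) fun e => h (S.α_inj e).symm
  exact (S.pos_neg _).1 (h1 ▸ h2) (S.pos_α j)

theorem ord_one : orderOf (S.s i * S.s i) = 1 := by rw [S.s_mul_self, orderOf_one]

theorem ord_two (h : i ≠ j) (e : S.s i (S.α j) = S.α j) : orderOf (S.s i * S.s j) = 2 := by
  have h1 := S.conj _ (Subgroup.subset_closure ⟨i, rfl⟩) _ _ e
  refine orderOf_eq_prime ?_ (s_mul_ne S h)
  rw [sq]
  nth_rewrite 1 [h1]
  rw [mul_assoc, ← mul_assoc (S.s i), S.s_mul_self, one_mul, S.s_mul_self]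

theorem ord_three (h : i ≠ j) (e : S.s j (S.α i) = S.s i (S.α j)) :
    orderOf (S.s i * S.s j) = 3 := by
  have h1 := S.conj (S.s i * S.s j) (mul_mem (Subgroup.subset_closure ⟨i, rfl⟩)
    (Subgroup.subset_closure ⟨j, rfl⟩)) i j (by
      rw [Perm.mul_apply, e, ← Perm.mul_apply, S.s_mul_self, Perm.one_apply])
  haveI : Fact (Nat.Prime 3) := ⟨by norm_num⟩
  refine orderOf_eq_prime ?_ (s_mul_ne S h)
  rw [show (S.s i * S.s j) ^ 3 = S.s i * S.s j * S.s i * (S.s j * (S.s i * S.s j)) by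
    simp only [pow_succ, pow_zero, one_mul, mul_assoc], ← h1,
    show ∀ a b : Perm Φ, a * b * a * (a * b * a) = a * (b * (a * a) * b) * a by
      intros; simp only [mul_assoc], S.s_mul_self, mul_one, S.s_mul_self, mul_one, S.s_mul_self]

/-- The Coxeter matrix of a simply laced tree. -/
theorem ord_tm {n : ℕ} (par : ℕ → ℕ) (e : Fin n → ι) (he : Function.Injective e)
    (h3 : ∀ a b : Fin n, b.1 ≠ 0 → par b = a → a ≠ b →
      S.s (e b) (S.α (e a)) = S.s (e a) (S.α (e b)))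
    (h2 : ∀ a b : Fin n, ¬ (b.1 ≠ 0 ∧ par b = a) → ¬ (a.1 ≠ 0 ∧ par a = b) → a ≠ b →
      S.s (e a) (S.α (e b)) = S.α (e b)) (a b : Fin n) :
    orderOf (S.s (e a) * S.s (e b)) = tm n par 0 a b := by
  unfold tm
  split_ifs with h k l
  · rw [h, ord_one]
  · exact absurd (Fin.ext (by omega)) h
  · rcases k with k | k
    · exact ord_three S (he.ne h) (h3 a b k.1 k.2 h)
    · exact ord_three S (he.ne h) (h3 b a k.1 k.2 (Ne.symm h)).symm
  · exact ord_two S (he.ne h) (h2 a b (fun x => k (Or.inl x)) (fun x => k (Or.inr x)) h)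

end Ord

theorem ordA (m : ℕ) (a b : Fin m) :
    orderOf ((sysA m).s a * (sysA m).s b) = tm m Lead.T3.parA 0 a b := by
  refine ord_tm (sysA m) _ id Function.injective_id (fun a b h1 h2 h3 => ?_)
    (fun a b h1 h2 h3 => ?_) a b
  all_goals
    simp only [Lead.T3.parA, ne_eq, Fin.ext_iff] at *
    simp only [sysA, rhoA_apply, id, Subtype.mk.injEq, Prod.mk.injEq, swap_apply_def, Fin.ext_iff,
      apply_ite Fin.val, Fin.val_castSucc, Fin.val_succ]
    constructor <;> split_ifs <;> omega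

theorem ht_rfun' {n : ℕ} (a b c : BI n) : ht c = ht a ∧ ht (rfun a b c) = -ht b ∨
    ht c = -ht b ∧ ht (rfun a b c) = ht a ∨ ht c = -ht a ∧ ht (rfun a b c) = ht b ∨
    ht c = ht b ∧ ht (rfun a b c) = -ht a ∨ ht c ≠ ht a ∧ ht c ≠ -ht b ∧ ht c ≠ -ht a ∧
      ht c ≠ ht b ∧ ht (rfun a b c) = ht c := by
  rw [ht_rfun]
  split_ifs <;> omega

theorem ordD {n : ℕ} {d : Prop} (hn : d ∨ 2 ≤ n) (hd : ¬ d) (h4 : 4 ≤ n) (a b : Fin n) :
    orderOf ((H78.bcSys hn).s a.rev * (H78.bcSys hn).s b.rev) = tm n (parD n) 0 a b := by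
  refine ord_tm (H78.bcSys hn) _ Fin.rev Fin.rev_injective (fun a b h1 h2 h3 => ?_)
    (fun a b h1 h2 h3 => ?_) a b
  all_goals
    have k1 := ht_sB hn a.rev
    have k2 := ht_sB hn b.rev
    have := a.2
    have := b.2
    have k3 : parD n a = n - 3 ∧ a.1 = n - 1 ∨ parD n a = a - 1 ∧ a.1 ≠ n - 1 := by
      unfold parD; split_ifs <;> omega
    have k4 : parD n b = n - 3 ∧ b.1 = n - 1 ∨ parD n b = b - 1 ∧ b.1 ≠ n - 1 := by
      unfold parD; split_ifs <;> omega
    have k5 := ht_rfun' (a.rev, false) (sB hn a.rev) (b.rev, false)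
    have k6 := ht_rfun' (a.rev, false) (sB hn a.rev) (sB hn b.rev)
    have k7 := ht_rfun' (b.rev, false) (sB hn b.rev) (a.rev, false)
    have k8 := ht_rfun' (b.rev, false) (sB hn b.rev) (sB hn a.rev)
    simp only [bc_s, bc_α, smul_rt, rt_eq_iff, rf_apply, ← ht_inj]
    rw [ne_eq, Fin.ext_iff] at h3
    generalize ht (rfun (a.rev, false) (sB hn a.rev) (b.rev, false)) = r5 at *
    generalize ht (rfun (a.rev, false) (sB hn a.rev) (sB hn b.rev)) = r6 at *
    generalize ht (rfun (b.rev, false) (sB hn b.rev) (a.rev, false)) = r7 at *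
    generalize ht (rfun (b.rev, false) (sB hn b.rev) (sB hn a.rev)) = r8 at *
    generalize ht (sB hn a.rev) = x at *
    generalize ht (sB hn b.rev) = y at *
    generalize parD n a = pa at *
    generalize parD n b = pb at *
    simp only [hd, false_and, and_false, false_or, not_false_eq_true, true_and,
      ht_false] at k1 k2 k5 k6 k7 k8 ⊢
    have l1 : a.rev.1 + a.1 + 1 = n := by rw [Fin.val_rev]; omega
    have l2 : b.rev.1 + b.1 + 1 = n := by rw [Fin.val_rev]; omega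
    generalize a.rev.1 = i at *
    generalize b.rev.1 = j at *
  · have l3 : i = 2 ∧ j = 0 ∨ i = j + 1 ∧ j ≠ 0 := by clear k1 k2 k5 k6 k7 k8; omega
    clear k3 k4 h1 h2 h3 l1 l2
    rcases l3 with ⟨rfl, rfl⟩ | ⟨rfl, l3⟩ <;> omega
  · have l3 : i ≠ j ∧ ¬ (i = 2 ∧ j = 0) ∧ ¬ (j = 2 ∧ i = 0) ∧ ¬ (i = j + 1 ∧ j ≠ 0) ∧
        ¬ (j = i + 1 ∧ i ≠ 0) := by clear k1 k2 k5 k6 k7 k8; omega
    clear k3 k4 h1 h2 h3 l1 l2 k7 k8
    obtain ⟨l1, l2, l3, l4, l5⟩ := l3
    rcases k1 with ⟨k1, rfl⟩ | ⟨rfl, rfl⟩ <;> rcases k2 with ⟨k2, rfl⟩ | ⟨rfl, rfl⟩ <;>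
      rcases k5 with ⟨k5, rfl⟩ | ⟨k5, rfl⟩ | ⟨k5, rfl⟩ | ⟨k5, rfl⟩ | ⟨m1, m2, m3, m4, rfl⟩ <;>
      omega

theorem maStmt : MaStmt := fun F _ _ n hn => by
  obtain ⟨p, hp⟩ := CharP.exists F
  haveI : Fact p.Prime := ⟨CharP.char_is_prime F p⟩
  haveI := S0249.result (F := F) (n + 1) (by omega)
  have h : MD (modelSL n F p (by omega)) (tm n Lead.T3.parA 0) (fun _ => Fintype.card F) id :=
    MD.of_one rfl Function.surjective_id (ordA n) fun a => by
      rw [← Nat.card_eq_fintype_card]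
      exact (Nat.card_eq_of_bijective (fun t : F => (⟨xA _ t, xA_mem _ t⟩ : (rdA F n).X _))
        ⟨fun s t e => sub_eq_zero.1 (xA_inj ((sysA n).α a) _ (by
          rw [sub_eq_add_neg, xA_add, par_neg (x := xA (K := F) _) (xA_add _), mul_inv_eq_one]
          exact congrArg Subtype.val e)), fun x => by
          obtain ⟨t, e⟩ := (mem_parHom_range _ _).1 x.2
          exact ⟨t, Subtype.ext e⟩⟩).symm
  exact ⟨Matrix.ProjectiveSpecialLinearGroup (Fin (n + 1)) F, inferInstance,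
    (h.quotZ fun _ h => h).isMod (fun _ _ => tm_eq_one)
      (Or.inl ⟨F, inferInstance, inferInstance, n + 1, by omega, fun e => by omega, ⟨.refl _⟩⟩)⟩

theorem card_XS {F V : Type*} [Field F] [AddCommGroup V] [Module F V] {P : PForm F V} {n : ℕ}
    (Fr : Frame P n) {a b : BI n} (h : a.1 ≠ b.1) : Nat.card (Fr.X a b) = Nat.card F := by
  refine (Nat.card_eq_of_bijective (fun t : F => (⟨Fr.xs a b t, (mem_XS h).2 ⟨t, rfl⟩⟩ : Fr.X a b))
    ⟨fun s t e => ?_, fun x => ?_⟩).symm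
  · have e' : Fr.xs a b s (Fr.e (ng a)) = Fr.xs a b t (Fr.e (ng a)) :=
      congrArg (fun x : Fr.X a b => x.1 (Fr.e (ng a))) e
    rw [xs_apply_ng h, xs_apply_ng h, add_right_inj] at e'
    exact mul_left_cancel₀ (Fr.pair' a) (smul_left_injective F (Fr.e_ne_zero b) e')
  · obtain ⟨t, e⟩ := (mem_XS h).1 x.2
    exact ⟨t, Subtype.ext e.symm⟩

theorem card_comap {Γ G : Type*} [Group Γ] [Group G] {j : Γ →* G} (hj : Function.Injective j)
    {K : Subgroup G} (hK : K ≤ j.range) : Nat.card (K.comap j) = Nat.card K := by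
  rw [← Subgroup.card_map_of_injective hj, Subgroup.map_comap_eq_self hK]

theorem mdStmt : MdStmt := fun F _ _ n hn => by
  obtain ⟨p, hp⟩ := CharP.exists F
  haveI : Fact p.Prime := ⟨CharP.char_is_prime F p⟩
  haveI : IsSimpleGroup (POmega F (qPlus F n)) := S0296.result (F := F) n hn
  have hV : finrank F (Fin n ⊕ Fin n → F) = 2 * n := by simp; omega
  let Fr := framePlus F n
  have hA : Fr.Aniso := Frame.aniso_of_finrank _ (by omega)
  have hd : ¬ Fr.V0 ≠ ⊥ := not_not.2 (Fr.V0_eq_bot hV)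
  have h2 : Fr.V0 ≠ ⊥ ∨ 2 ≤ n := Or.inr (by omega)
  have h0 : 0 < n := by omega
  haveI : Nonempty (Fin n) := ⟨⟨0, h0⟩⟩
  haveI : Finite ((Fin n ⊕ Fin n → F) ≃ₗ[F] (Fin n ⊕ Fin n → F)) :=
    Finite.of_injective _ DFunLike.coe_injective
  have hj := eichIncl_injective (Q := qPlus F n)
  have hr := range_eichIncl (qPlus_nondegenerate (F := F) n)
  have h : MD ((frameRDL hA h2 (quad_hd Fr) (quad_hd' Fr) _ hj hr h0 (quad_bcl Fr)).model1
      (coordBC_conn h2 h0 (Or.inr (by omega)) _ _)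
      (fun r _ => frameRD'_isPGroup hA h2 _ _ _ hj hr p r)
      (frameRD'_noTors hA h2 _ _ _ hj hr p (quad_hV Fr (by omega) p)))
      (tm n (parD n) 0) (fun _ => Fintype.card F) Fin.rev :=
    MD.of_one rfl Fin.rev_surjective (ordD h2 hd hn) fun a => by
      rw [← Nat.card_eq_fintype_card, ← card_XS Fr (a := (a.rev, false)) (b := sB h2 a.rev)
        (fst_ne_iff.2 ⟨fun e => hd ((sB_ok h2 _).2 e), (sB_ok h2 _).1⟩)]
      exact card_comap hj (hr ▸ X_le_E _ _)
  haveI : Finite (POmega F (qPlus F n)) := Finite.of_equiv _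
    (pomegaEquivEich (qPlus_nondegenerate n) (not_isExc_of_finrank (by omega))
      (by simp; omega)).toEquiv.symm
  exact ⟨POmega F (qPlus F n), inferInstance,
    ((h.quotZ fun _ h => h).ofEquiv (pomegaEquivEich (qPlus_nondegenerate n)
      (not_isExc_of_finrank (by omega)) (by simp; omega))).isMod (fun _ _ => tm_eq_one)
      (Or.inr (Or.inr (Or.inr (Or.inr (Or.inl
        ⟨F, inferInstance, inferInstance, n, hn, ⟨.refl _⟩⟩)))))⟩

end Cfsg.Agent.H72.T3M
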