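import Cfsg.Agent.H17.KnDef2

/-! # Project KN, piece FFC: `f` normalises `E` -/

set_option autoImplicit false

namespace Cfsg.Agent.H72.KnFfc

open Equiv Subgroup Cfsg.Agent.H11.A16 Cfsg.Agent.H63 Cfsg.Agent.H17.Kn

universe u

theorem mem_E1 {u : N2} (hu : u ∈ FF) (h : Commute u (xe 0 1)) : u ∈ E1 := by
  have h1 : u.σ = 1 := Equiv.ext fun p => by
    have h2 : bit p 0 + u.f p = u.f p + bit (u.σ p) 0 := congrArg (fun a : N2 => a.f p) h.eq
    rw [add_comm, add_right_inj] at h2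
    refine (mem_JJ.1 hu.1 p).elim id fun e => ?_
    rw [e] at h2
    exact absurd h2 (by clear e h2; revert p; decide)
  refine ⟨⟨h1, ?_⟩, hu⟩
  have h2 : u.f 1 = u.f 0 := hu.2.2 0
  have h3 : u.f 3 = u.f 2 := hu.2.2 2
  have h4 : u.f 5 = u.f 4 := hu.2.2 4
  have h5 : u.f 7 = u.f 6 := hu.2.2 6
  change par u = 0
  rw [par, Fin.sum_univ_eight, h2, h3, h4, h5]
  generalize u.f 0 = a; generalize u.f 2 = b; generalize u.f 4 = c; generalize u.f 6 = d
  revert a b c d; decide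

theorem ffc (hB : Base.{u}) : FfcStmt.{u} := by
  intro G _ _ J φ h F f s hF hE
  have m2 := hB.m2
  obtain ⟨-, -, -, -, -, lE, -, -, -, -, lP, lJ, -⟩ := m2.le
  have emE : Em J EE := h.emE.mono lE
  have emU : Em J U1 := h.em.mono inf_le_left
  have em1 : Em J E1 := emE.mono inf_le_left
  have cE : ∀ a ∈ EE, ∀ b ∈ EE, Commute (J a) (J b) := fun a ha b hb => by
    rw [Commute, SemiconjBy, ← emE.mul a ha b hb, ← emE.mul b hb a ha, (m2.ab.1 a ha.1 b hb.1).eq]
  let K : Subgroup G :=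
    { carrier := {g | ∃ u ∈ U1, ∃ c ∈ E1, g = J u * J c}
      one_mem' := ⟨1, one_mem _, 1, one_mem _, by rw [emE.one, mul_one]⟩
      mul_mem' := by
        rintro _ _ ⟨u, hu, c, hc, rfl⟩ ⟨v, hv, d, hd, rfl⟩
        exact ⟨u * v, mul_mem hu hv, c * d, mul_mem hc hd, by
          rw [emU.mul u hu v hv, em1.mul c hc d hd, (h.cm v hv c hc).symm.mul_mul_mul_comm]⟩
      inv_mem' := by
        rintro _ ⟨u, hu, c, hc, rfl⟩
        exact ⟨u⁻¹, inv_mem hu, c⁻¹, inv_mem hc, by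
          rw [emU.inv hu, em1.inv hc, ← _root_.mul_inv_rev, (h.cm u hu c hc).eq]⟩ }
  have hK : im J U1 ⊔ im J E1 ≤ K :=
    sup_le (im_le fun u hu => ⟨u, hu, 1, one_mem _, by rw [emE.one, mul_one]⟩)
      (im_le fun c hc => ⟨1, one_mem _, c, hc, by rw [emE.one, one_mul]⟩)
  have key : ∀ e ∈ EE, ∃ u ∈ U1, ∃ c ∈ E1, f * J e * f⁻¹ = J e * (J u * J c) := fun e he => by
    have ha : (J e)⁻¹ * f * J e ∈ F := by
      simpa using (mem_normalizer_iff.1 (inv_mem (hE e he)) f).1 hF.fF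
    rcases hF.idx _ ha with H | H
    · obtain ⟨u, hu, c, hc, e1⟩ := hK H
      refine absurd ?_ hF.nf
      have h1 : e * (u * e⁻¹ * u⁻¹) ∈ E1 := ⟨mul_mem he ((m2.nrm u).2.1 _ (inv_mem he)), by
        have := mul_mem (((m2.nrm e).2.2.1 (lJ (lP he.1))).1 u hu.2) (inv_mem hu.2)
        simp only [mul_assoc] at this ⊢
        exact this⟩
      have hz : z2 ∈ E1 := by decide
      obtain ⟨d, hd, e2⟩ : ∃ d ∈ E1, J e * (J u * J e⁻¹ * (J u)⁻¹) = J d := by
        have h2 := (m2.nrm u).2.1 _ (inv_mem he)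
        rcases h.act u hu.1 _ (inv_mem he) with e2 | e2
        · exact ⟨_, h1, by rw [e2, emE.mul _ he _ h2]⟩
        · exact ⟨_, mul_mem h1 hz, by rw [e2, mul_assoc e, emE.mul _ he _ (mul_mem h2 hz.1)]⟩
      have e3 : f = J d * J u * J c := by
        rw [← e2, emE.inv he, mul_assoc (J e), inv_mul_cancel_right, mul_assoc, mul_assoc,
          (cE e he c hc.1).inv_left.eq, ← mul_assoc (J u), ← e1]
        group
      rw [e3]
      exact mul_mem (mul_mem (mem_sup_right (mem_im hd)) (mem_sup_left (mem_im hu)))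
        (mem_sup_right (mem_im hc))
    · obtain ⟨u, hu, c, hc, e1⟩ := hK H
      refine ⟨u, hu, c, hc, ?_⟩
      rw [← e1, (hF.ab _ hF.fF _ ha).inv_left.eq]
      group
  have fin : ∀ u ∈ U1, Commute (J u) (J (xe 0 1)) → u ∈ E1 := fun u hu H => by
    have hx : xe 0 1 ∈ T0 := by decide
    refine mem_E1 hu.2 (h.em.inj _ (mul_mem hu.1 hx) _ (mul_mem hx hu.1) ?_)
    rw [h.em.mul _ hu.1 _ hx, h.em.mul _ hx _ hu.1, H.eq]
  have hx : xe 0 1 ∈ EE := by decide
  obtain ⟨v, hv, d, hd, e0⟩ := key _ hx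
  have hv1 : v ∈ E1 := fin v hv (by
    have x2 : J (xe 0 1) * J (xe 0 1) = 1 := by
      rw [← emE.mul _ hx _ hx, m2.ab.2.2.2.1 _ hx.1, emE.one]
    have h1 : J (xe 0 1) * (J v * J d) * (J (xe 0 1) * (J v * J d)) = 1 := by
      rw [← e0, conj_mul, x2, mul_one, mul_inv_cancel]
    have h2 := hF.sq _ (mul_mem (hF.le1 (mem_im hv)) (hF.le2 (mem_im hd)))
    have h3 : Commute (J v * J d) (J (xe 0 1)) := by
      have := inv_eq_of_mul_eq_one_right h1
      rwa [_root_.mul_inv_rev, inv_eq_of_mul_eq_one_right h2, inv_eq_of_mul_eq_one_right x2] at this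
    simpa using h3.mul_left (cE d hd.1 _ hx).inv_left)
  intro e he
  obtain ⟨u, hu, c, hc, e1⟩ := key e he
  have h1 : Commute (J e * (J u * J c)) (J (xe 0 1) * (J v * J d)) := by
    rw [← e0, ← e1]
    exact (cE e he _ hx).map (MulAut.conj f)
  have h2 : ∀ a ∈ EE, Commute (J a) (J (xe 0 1) * (J v * J d)) := fun a ha =>
    (cE a ha _ hx).mul_right ((cE a ha _ hv1.1).mul_right (cE a ha _ hd.1))
  have h3 : Commute (J u) (J (xe 0 1) * (J v * J d)) := by
    simpa using ((h2 e he).inv_left.mul_left h1).mul_left (h2 c hc.1).inv_left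
  have hu1 : u ∈ E1 := fin u hu (by
    have := h3.mul_right ((h.cm u hu v hv1).mul_right (h.cm u hu d hd)).inv_right
    rwa [mul_inv_cancel_right] at this)
  exact ⟨u * c, mul_mem hu1 hc, by
    rw [R, e1, emE.mul _ he _ (mul_mem hu1 hc).1, em1.mul _ hu1 _ hc]⟩

end Cfsg.Agent.H72.KnFfc
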