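import Mathlib
import Cfsg.Agent.H42.ASDefs
import Cfsg.Agent.H86.U3Base

/-! Basic consequences of the relations of `G₂(4)` (project AS). -/

set_option autoImplicit false

namespace Cfsg.Agent.H72.ASB

open Cfsg Subgroup Cfsg.Agent.H28 Cfsg.Agent.H42.AS

universe u

theorem f4_cases : ∀ t : F4, t = 0 ∨ t = 1 ∨ t = om ∨ t = om ^ 2 := by decide
theorem f4_add : ∀ t : F4, t + t = 0 := by decide
theorem om_cube : om ^ 3 = 1 := by decide
theorem om_sq : om ^ 2 = om + 1 := by decide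
theorem om_ne : om ≠ 0 := by decide
theorem om_fix : ∀ t : F4, om ^ 2 * t = t → t = 0 := by decide

variable {G : Type u} [Group G]

theorem one_of_add {x : F4 → G} (h : ∀ t u, x (t + u) = x t * x u) : x 0 = 1 := by
  simpa using h 0 0

theorem sq_of_add {x : F4 → G} (h : ∀ t u, x (t + u) = x t * x u) (t : F4) : x t * x t = 1 := by
  rw [← h, f4_add, one_of_add h]

theorem inv_of_add {x : F4 → G} (h : ∀ t u, x (t + u) = x t * x u) (t : F4) : (x t)⁻¹ = x t :=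
  inv_eq_of_mul_eq_one_right (sq_of_add h t)

theorem mem_closure_range {x : F4 → G} (h : ∀ t u, x (t + u) = x t * x u) {g : G} :
    g ∈ closure (Set.range x) ↔ ∃ t, g = x t := by
  refine ⟨fun hg => ?_, fun ⟨t, e⟩ => e ▸ subset_closure ⟨t, rfl⟩⟩
  induction hg using closure_induction with
  | mem _ hx => obtain ⟨t, rfl⟩ := hx; exact ⟨t, rfl⟩
  | one => exact ⟨0, (one_of_add h).symm⟩
  | mul _ _ _ _ h1 h2 =>
    obtain ⟨t, rfl⟩ := h1
    obtain ⟨u, rfl⟩ := h2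
    exact ⟨t + u, (h t u).symm⟩
  | inv _ _ h1 => obtain ⟨t, rfl⟩ := h1; exact ⟨t, inv_of_add h t⟩

/-- conjugation by `g` maps a closure into `H` if it does so on the generators -/
theorem conj_closure {S : Set G} {H : Subgroup G} {g : G} (h : ∀ x ∈ S, g * x * g⁻¹ ∈ H) :
    ∀ x ∈ closure S, g * x * g⁻¹ ∈ H := fun _ hx =>
  (closure_le (H.comap (MulAut.conj g).toMonoidHom)).2 h hx

theorem comm_closure {S : Set G} {g : G} (h : ∀ x ∈ S, x * g = g * x) :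
    ∀ x ∈ closure S, x * g = g * x := fun _ hx => mem_centralizer_singleton_iff.1
  ((closure_le (centralizer {g})).2 (fun y hy => mem_centralizer_singleton_iff.2 (h y hy)) hx)

theorem conj_of_eq {g x y : G} (h : g * x = y * g) : g * x * g⁻¹ = y := by
  rw [h, mul_inv_cancel_right]

variable {D : RD G}

theorem xa_A (t : F4) : D.xa t ∈ D.A := subset_closure (Or.inl (Or.inl ⟨t, rfl⟩))
theorem xb_A (t : F4) : D.xb t ∈ D.A := subset_closure (Or.inl (Or.inr ⟨t, rfl⟩))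
theorem na_A : D.na ∈ D.A := subset_closure (Or.inr (Or.inl rfl))
theorem nb_A : D.nb ∈ D.A := subset_closure (Or.inr (Or.inr rfl))
theorem ha_A : D.ha ∈ D.A :=
  mul_mem (mul_mem (mul_mem (mul_mem (mul_mem (xa_A _) na_A) (xa_A _)) na_A) (xa_A _)) na_A
theorem hb_A : D.hb ∈ D.A :=
  mul_mem (mul_mem (mul_mem (mul_mem (mul_mem (xb_A _) nb_A) (xb_A _)) nb_A) (xb_A _)) nb_A
theorem rho_A : D.rho ∈ D.A := mul_mem (mul_mem ha_A hb_A) hb_A
theorem xb_Q (t : F4) : D.xb t ∈ D.QA := subset_closure (by simp)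
theorem xc_Q (t : F4) : D.xc t ∈ D.QA := subset_closure (by simp)
theorem xd_Q (t : F4) : D.xd t ∈ D.QA := subset_closure (by simp)
theorem xe_Q (t : F4) : D.xe t ∈ D.QA := subset_closure (by simp)
theorem xv_Q (t : F4) : D.xv t ∈ D.QA := subset_closure (by simp)
theorem xv_V (t : F4) : D.xv t ∈ D.V := subset_closure ⟨t, rfl⟩
theorem xa_L (t : F4) : D.xa t ∈ D.L := subset_closure (Or.inl ⟨t, rfl⟩)
theorem na_L : D.na ∈ D.L := subset_closure (Or.inr rfl)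
theorem Q_P : D.QA ≤ D.P := le_sup_left
theorem L_P : D.L ≤ D.P := le_sup_right
theorem y5_P : D.y5 ∈ D.P := L_P (mul_mem na_L (xa_L _))

theorem K_comm {k a : G} (hk : k ∈ D.K) (ha : a ∈ D.A) : a * k = k * a :=
  mem_centralizer_iff.1 hk a ha

theorem Q_ind {H : Subgroup G} (hb : ∀ t, D.xb t ∈ H) (hc : ∀ t, D.xc t ∈ H)
    (hd : ∀ t, D.xd t ∈ H) (he : ∀ t, D.xe t ∈ H) (hv : ∀ t, D.xv t ∈ H) : D.QA ≤ H :=
  (closure_le H).2 (by
    rintro _ ((((⟨t, rfl⟩ | ⟨t, rfl⟩) | ⟨t, rfl⟩) | ⟨t, rfl⟩) | ⟨t, rfl⟩)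
    exacts [hb t, hc t, hd t, he t, hv t])

theorem L_ind {H : Subgroup G} (ha : ∀ t, D.xa t ∈ H) (hn : D.na ∈ H) : D.L ≤ H :=
  (closure_le H).2 (by
    rintro _ (⟨t, rfl⟩ | rfl)
    exacts [ha t, hn])

theorem P_ind {H : Subgroup G} (ha : ∀ t, D.xa t ∈ H) (hb : ∀ t, D.xb t ∈ H) (hc : ∀ t, D.xc t ∈ H)
    (hd : ∀ t, D.xd t ∈ H) (he : ∀ t, D.xe t ∈ H) (hv : ∀ t, D.xv t ∈ H) (hn : D.na ∈ H) :
    D.P ≤ H := sup_le (Q_ind hb hc hd he hv) (L_ind ha hn)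

variable (h : D.Rel)
include h

theorem v0 : D.xv 0 = 1 := one_of_add h.vv
theorem v_sq (t : F4) : D.xv t * D.xv t = 1 := sq_of_add h.vv t
theorem v_inv (t : F4) : (D.xv t)⁻¹ = D.xv t := inv_of_add h.vv t

theorem v_eq_one {t : F4} (e : D.xv t = 1) : t = 0 :=
  (h.nf 0 0 0 0 0 t (by rw [one_of_add h.aa, one_of_add h.bb, one_of_add h.cc, one_of_add h.dd,
    one_of_add h.ee, e]; simp)).2.2.2.2.2

theorem v_inj {t u : F4} (e : D.xv t = D.xv u) : t = u := by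
  have := v_eq_one h (t := t + u) (by rw [h.vv, e, v_sq h])
  rw [← add_zero t, ← f4_add u, ← add_assoc, this, zero_add]

theorem mem_V {g : G} : g ∈ D.V ↔ ∃ t, g = D.xv t := mem_closure_range h.vv

theorem V_sq {g : G} (hg : g ∈ D.V) : g * g = 1 := by
  obtain ⟨t, rfl⟩ := (mem_V h).1 hg; exact v_sq h t

theorem xc_A (t : F4) : D.xc t ∈ D.A :=
  conj_of_eq (h.nba t) ▸ mul_mem (mul_mem nb_A (xa_A t)) (inv_mem nb_A)
theorem xd_A (t : F4) : D.xd t ∈ D.A :=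
  conj_of_eq (h.nac t) ▸ mul_mem (mul_mem na_A (xc_A h t)) (inv_mem na_A)
theorem xe_A (t : F4) : D.xe t ∈ D.A :=
  conj_of_eq (h.nab t) ▸ mul_mem (mul_mem na_A (xb_A t)) (inv_mem na_A)
theorem xv_A (t : F4) : D.xv t ∈ D.A :=
  conj_of_eq (h.nbe t) ▸ mul_mem (mul_mem nb_A (xe_A h t)) (inv_mem nb_A)

theorem P_A : D.P ≤ D.A := P_ind xa_A xb_A (xc_A h) (xd_A h) (xe_A h) (xv_A h) na_A

theorem P_v {p : G} (hp : p ∈ D.P) (t : F4) : p * D.xv t = D.xv t * p :=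
  mem_centralizer_singleton_iff.1 (P_ind (H := centralizer {D.xv t})
    (fun u => mem_centralizer_singleton_iff.2 (h.av u t))
    (fun u => mem_centralizer_singleton_iff.2 (h.bv u t))
    (fun u => mem_centralizer_singleton_iff.2 (h.cv u t))
    (fun u => mem_centralizer_singleton_iff.2 (h.dv u t))
    (fun u => mem_centralizer_singleton_iff.2 (h.ev u t))
    (fun u => mem_centralizer_singleton_iff.2 (by rw [← h.vv, ← h.vv, add_comm]))
    (mem_centralizer_singleton_iff.2 (h.nav t)) hp)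

theorem P_V {p v : G} (hp : p ∈ D.P) (hv : v ∈ D.V) : p * v = v * p := by
  obtain ⟨t, rfl⟩ := (mem_V h).1 hv; exact P_v h hp t

theorem V_Q : D.V ≤ D.QA := fun _ hv => by obtain ⟨t, rfl⟩ := (mem_V h).1 hv; exact xv_Q t

theorem na_e (t : F4) : D.na * D.xe t = D.xb t * D.na := by
  calc _ = D.na * (D.xe t * D.na) * D.na := by rw [mul_assoc, mul_assoc, h.na2, mul_one]
    _ = _ := by rw [← h.nab, ← mul_assoc, h.na2, one_mul]

theorem na_d (t : F4) : D.na * D.xd t = D.xc t * D.na := by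
  calc _ = D.na * (D.xd t * D.na) * D.na := by rw [mul_assoc, mul_assoc, h.na2, mul_one]
    _ = _ := by rw [← h.nac, ← mul_assoc, h.na2, one_mul]

theorem rho_Q : ∀ q ∈ D.QA, D.rho * q * D.rho⁻¹ ∈ D.QA := fun _ hq =>
  Q_ind (H := D.QA.comap (MulAut.conj D.rho).toMonoidHom)
    (fun t => show _ * _ * _ ∈ _ from conj_of_eq (h.rb t) ▸ xb_Q _)
    (fun t => show _ * _ * _ ∈ _ from conj_of_eq (h.rc t) ▸ xc_Q _)
    (fun t => show _ * _ * _ ∈ _ from conj_of_eq (h.rd t) ▸ xd_Q _)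
    (fun t => show _ * _ * _ ∈ _ from conj_of_eq (h.re t) ▸ xe_Q _)
    (fun t => show _ * _ * _ ∈ _ from conj_of_eq (h.rv t) ▸ xv_Q _) hq

theorem rho_P : ∀ q ∈ D.P, D.rho * q * D.rho⁻¹ ∈ D.P := fun _ hq =>
  (sup_le (fun q hq => Q_P (rho_Q h q hq)) (L_ind
    (fun t => show _ * _ * _ ∈ _ from conj_of_eq (h.ra t) ▸ L_P (xa_L _))
    (show _ * _ * _ ∈ _ from conj_of_eq h.rn ▸ L_P na_L)) :
    D.P ≤ D.P.comap (MulAut.conj D.rho).toMonoidHom) hq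

theorem rho_y5 : D.rho * D.y5 = D.y5 * D.rho := by
  rw [RD.y5, ← mul_assoc, h.rn, mul_assoc, h.ra, mul_assoc]

/-- commutators of `Q_A` lie in `V` -/
theorem Q_comm {a b : G} (ha : a ∈ D.QA) (hb : b ∈ D.QA) : a * b * a⁻¹ * b⁻¹ ∈ D.V := by
  let M : G → Subgroup G := fun b =>
    { carrier := {a | a ∈ D.P ∧ a * b * a⁻¹ * b⁻¹ ∈ D.V}
      one_mem' := ⟨one_mem _, by simp⟩
      mul_mem' := fun {x y} hx hy => ⟨mul_mem hx.1 hy.1, by
        have := mul_mem hy.2 hx.2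
        rwa [show y * b * y⁻¹ * b⁻¹ * (x * b * x⁻¹ * b⁻¹) =
          (y * b * y⁻¹ * b⁻¹ * x) * b * x⁻¹ * b⁻¹ by group, ← P_V h hx.1 hy.2,
          show x * (y * b * y⁻¹ * b⁻¹) * b * x⁻¹ * b⁻¹ = x * y * b * (x * y)⁻¹ * b⁻¹ by group] at this⟩
      inv_mem' := fun {x} hx => ⟨inv_mem hx.1, by
        have := inv_mem hx.2
        rwa [show x⁻¹ * b * x⁻¹⁻¹ * b⁻¹ = x⁻¹ * ((x * b * x⁻¹ * b⁻¹)⁻¹ * x) by group,
          ← P_V h hx.1 this, inv_mul_cancel_left]⟩ }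
  have k0 : ∀ {x y : G}, x * y = y * x → x * y * x⁻¹ * y⁻¹ ∈ D.V := fun e => by
    rw [e]; simp
  have k1 : ∀ {x y : G} {t : F4}, y ∈ D.QA → x * y = y * D.xv t * x → x * y * x⁻¹ * y⁻¹ ∈ D.V :=
    fun {x y t} hy e => by
      rw [e, mul_inv_cancel_right, P_v h (Q_P hy), mul_inv_cancel_right]; exact xv_V t
  have k2 : ∀ {x y : G}, x * y * x⁻¹ * y⁻¹ ∈ D.V → y * x * y⁻¹ * x⁻¹ ∈ D.V := fun e => by
    simpa [mul_assoc] using inv_mem e
  have k3 : ∀ {x : F4 → G}, (∀ t u, x (t + u) = x t * x u) → ∀ t u, x t * x u = x u * x t :=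
    fun hx t u => by rw [← hx, ← hx, add_comm]
  have k4 : ∀ x ∈ D.QA, (∀ t, D.xb t * x * (D.xb t)⁻¹ * x⁻¹ ∈ D.V) →
      (∀ t, D.xc t * x * (D.xc t)⁻¹ * x⁻¹ ∈ D.V) → (∀ t, D.xd t * x * (D.xd t)⁻¹ * x⁻¹ ∈ D.V) →
      (∀ t, D.xe t * x * (D.xe t)⁻¹ * x⁻¹ ∈ D.V) → ∀ y ∈ D.QA, y * x * y⁻¹ * x⁻¹ ∈ D.V :=
    fun x hx h1 h2 h3 h4 y hy => (Q_ind (H := M x) (fun t => ⟨Q_P (xb_Q t), h1 t⟩)
      (fun t => ⟨Q_P (xc_Q t), h2 t⟩) (fun t => ⟨Q_P (xd_Q t), h3 t⟩)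
      (fun t => ⟨Q_P (xe_Q t), h4 t⟩) (fun t => ⟨Q_P (xv_Q t), k0 (P_v h (Q_P hx) t).symm⟩) hy).2
  refine k4 b hb (fun t => k2 (k4 _ (xb_Q t) (fun u => k0 (k3 h.bb u t)) (fun u => k0 (h.bc t u).symm)
    (fun u => k0 (h.bd t u).symm) (fun u => k2 (k1 (xe_Q u) (h.be t u))) b hb))
    (fun t => k2 (k4 _ (xc_Q t) (fun u => k0 (h.bc u t)) (fun u => k0 (k3 h.cc u t))
    (fun u => k2 (k1 (xd_Q u) (h.cd t u))) (fun u => k0 (h.ce t u).symm) b hb))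
    (fun t => k2 (k4 _ (xd_Q t) (fun u => k0 (h.bd u t)) (fun u => k1 (xd_Q t) (h.cd u t))
    (fun u => k0 (k3 h.dd u t)) (fun u => k0 (h.de t u).symm) b hb))
    (fun t => k2 (k4 _ (xe_Q t) (fun u => k1 (xe_Q t) (h.be u t)) (fun u => k0 (h.ce u t))
    (fun u => k0 (h.de u t)) (fun u => k0 (k3 h.ee u t)) b hb)) a ha

theorem Q_sq {a : G} (ha : a ∈ D.QA) : a * a ∈ D.V := by
  let M : Subgroup G :=
    { carrier := {a | a ∈ D.QA ∧ a * a ∈ D.V}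
      one_mem' := ⟨one_mem _, by simp⟩
      mul_mem' := fun {x y} hx hy => ⟨mul_mem hx.1 hy.1, by
        have := mul_mem (mul_mem hx.2 (Q_comm h (inv_mem hx.1) hy.1)) hy.2
        rwa [show x * x * (x⁻¹ * y * x⁻¹⁻¹ * y⁻¹) * (y * y) = x * y * (x * y) by group] at this⟩
      inv_mem' := fun {x} hx => ⟨inv_mem hx.1, by simpa using inv_mem hx.2⟩ }
  exact (Q_ind (H := M) (fun t => ⟨xb_Q t, by rw [sq_of_add h.bb]; exact one_mem _⟩)
    (fun t => ⟨xc_Q t, by rw [sq_of_add h.cc]; exact one_mem _⟩)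
    (fun t => ⟨xd_Q t, by rw [sq_of_add h.dd]; exact one_mem _⟩)
    (fun t => ⟨xe_Q t, by rw [sq_of_add h.ee]; exact one_mem _⟩)
    (fun t => ⟨xv_Q t, by rw [sq_of_add h.vv]; exact one_mem _⟩) ha).2

theorem V_two : IsPGroup 2 D.V := H86.U3.isPGroup_of_pow fun v hv =>
  ⟨1, by rw [pow_one, pow_two, V_sq h hv]⟩

theorem Q_two : IsPGroup 2 D.QA := H86.Dbl.isPGroup_of_sq (V_two h) fun _ => Q_sq h

variable [Finite G]

theorem P_Q {p : G} (hp : p ∈ D.P) : ∀ q ∈ D.QA, p * q * p⁻¹ ∈ D.QA := fun q hq =>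
  (mem_normalizer_iff.1 ((sup_le le_normalizer (L_ind (fun t => H86.mem_normalizer_of_conj_le
    fun _ hq => Q_ind (H := D.QA.comap (MulAut.conj (D.xa t)).toMonoidHom)
      (fun u => show _ * _ * _ ∈ _ from conj_of_eq (h.ab t u) ▸
        mul_mem (mul_mem (mul_mem (mul_mem (xb_Q _) (xc_Q _)) (xd_Q _)) (xe_Q _)) (xv_Q _))
      (fun u => show _ * _ * _ ∈ _ from conj_of_eq (h.ac t u) ▸
        mul_mem (mul_mem (xc_Q _) (xe_Q _)) (xv_Q _))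
      (fun u => show _ * _ * _ ∈ _ from conj_of_eq (h.ad t u) ▸ mul_mem (xd_Q _) (xe_Q _))
      (fun u => show _ * _ * _ ∈ _ from conj_of_eq (h.ae t u) ▸ xe_Q _)
      (fun u => show _ * _ * _ ∈ _ from conj_of_eq (h.av t u) ▸ xv_Q _) hq)
    (H86.mem_normalizer_of_conj_le
    fun _ hq => Q_ind (H := D.QA.comap (MulAut.conj D.na).toMonoidHom)
      (fun u => show _ * _ * _ ∈ _ from conj_of_eq (h.nab u) ▸ xe_Q _)
      (fun u => show _ * _ * _ ∈ _ from conj_of_eq (h.nac u) ▸ xd_Q _)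
      (fun u => show _ * _ * _ ∈ _ from conj_of_eq (na_d h u) ▸ xc_Q _)
      (fun u => show _ * _ * _ ∈ _ from conj_of_eq (na_e h u) ▸ xb_Q _)
      (fun u => show _ * _ * _ ∈ _ from conj_of_eq (h.nav u) ▸ xv_Q _) hq)) :
    D.P ≤ normalizer (D.QA : Set G)) hp) q).1 hq

omit h in
/-- tight embedding, elementwise -/
theorem te (hs : IsStandardSubgroup D.A) {k g : G} (hk : k ∈ D.K) (h1 : k ≠ 1) (h2 : k * k = 1)
    (hg : g * k * g⁻¹ ∈ D.K) : g ∈ normalizer (D.A : Set G) := by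
  rw [hs.2.2.2]
  by_contra hn
  have h3 : g * k * g⁻¹ ∈ D.K ⊓ D.K.map (MulAut.conj g).toMonoidHom := ⟨hg, k, hk, rfl⟩
  have h4 := (hs.2.1.2 g hn).of_dvd_nat (orderOf_dvd_natCard _ h3)
  exact h1 (by simpa using H86.U3.eq_one_of_odd_of_two h4 (n := 1) (by
    rw [pow_one, pow_two, H86.U3.conj_sq h2]))

omit h [Finite G] in
theorem K_norm (hs : IsStandardSubgroup D.A) {k g : G} (hg : g ∈ normalizer (D.A : Set G))
    (hk : k ∈ D.K) : g * k * g⁻¹ ∈ D.K := by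
  rw [hs.2.2.2] at hg
  exact (mem_normalizer_iff.1 hg k).1 hk

end Cfsg.Agent.H72.ASB
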