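import Mathlib
import Cfsg.Agent.H72.ASB

/-! The translations of `E = R V` (project AS). -/

set_option autoImplicit false

namespace Cfsg.Agent.H72.ASWA

open Cfsg Subgroup Cfsg.Agent.H28 Cfsg.Agent.H42.AS Cfsg.Agent.H72.ASB Cfsg.Agent.H86.U3
  Cfsg.Agent.H86.Dbl
open scoped commutatorElement

universe u

local instance factTwoWA : Fact (Nat.Prime 2) := ⟨Nat.prime_two⟩

theorem f4_lin : ∀ a b : F4, a ≠ 0 → a ≠ 1 → b ≠ 0 → b ≠ om → a + b ≠ 0 → a + b ≠ 1 + om →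
    (a = om ∧ b = om * om) ∨ (a = om ^ 2 ∧ b = om ^ 2 * om) := by decide

theorem f4_fpf (δ : F4 → F4) (h1 : ∀ s t, δ (s + t) = δ s + δ t) (h2 : ∀ t, δ t = 0 → t = 0)
    (h3 : ∀ t, δ t = t → t = 0) : (∀ t, δ t = om * t) ∨ ∀ t, δ t = om ^ 2 * t := by
  have h0 : δ 0 = 0 := by simpa using h1 0 0
  have key : ∀ c, δ 1 = c → δ om = c * om → ∀ t, δ t = c * t := fun c a b t => by
    rcases f4_cases t with rfl | rfl | rfl | rfl
    · rw [h0, mul_zero]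
    · rw [a, mul_one]
    · exact b
    · rw [om_sq, h1, a, b]; ring
  exact (f4_lin (δ 1) (δ om) (fun e => one_ne_zero (h2 _ e)) (fun e => one_ne_zero (h3 _ e))
    (fun e => om_ne (h2 _ e)) (fun e => om_ne (h3 _ e))
    (fun e => absurd (h2 _ ((h1 _ _).trans e)) (by decide))
    (fun e => absurd (h3 _ ((h1 _ _).trans e)) (by decide))).imp (fun e => key _ e.1 e.2)
    fun e => key _ e.1 e.2

variable {G : Type u} [Group G] {D : RD G} {R : Subgroup G}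

/-- the elements centralising `V` and `R V / V` -/
def WW (h : D.Rel) (R : Subgroup G) : Subgroup G where
  carrier := {y | (∀ t, y * D.xv t = D.xv t * y) ∧ ∀ x ∈ R, ∃ t, y * x * y⁻¹ = x * D.xv t}
  one_mem' := ⟨by simp, fun x _ => ⟨0, by simp [v0 h]⟩⟩
  mul_mem' := fun {a b} ha hb => ⟨fun t => (Commute.mul_left (ha.1 t) (hb.1 t)).eq, fun x hx => by
    obtain ⟨s, hs⟩ := ha.2 x hx
    obtain ⟨t, ht⟩ := hb.2 x hx
    refine ⟨s + t, ?_⟩
    calc _ = a * (b * x * b⁻¹) * a⁻¹ := by group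
      _ = a * x * a⁻¹ * (a * D.xv t * a⁻¹) := by rw [ht]; group
      _ = _ := by rw [hs, ha.1, h.vv]; group⟩
  inv_mem' := fun {a} ha => ⟨fun t => (Commute.inv_left (ha.1 t)).eq, fun x hx => by
    obtain ⟨s, hs⟩ := ha.2 x hx
    refine ⟨s, ?_⟩
    calc _ = a⁻¹ * (x * (D.xv s * D.xv s)) * a := by rw [v_sq h]; group
      _ = a⁻¹ * (x * D.xv s) * (D.xv s * a) := by group
      _ = _ := by rw [← ha.1]; nth_rewrite 1 [← hs]; group⟩

/-- the translation part -/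
noncomputable def th (D : RD G) (y x : G) : F4 :=
  Classical.epsilon fun t => y * x * y⁻¹ = x * D.xv t

theorem th_spec {h : D.Rel} {y x : G} (hy : y ∈ WW h R) (hx : x ∈ R) :
    y * x * y⁻¹ = x * D.xv (th D y x) := Classical.epsilon_spec (hy.2 x hx)

theorem th_eq (h : D.Rel) {y x : G} {t : F4} (e : y * x * y⁻¹ = x * D.xv t) : th D y x = t :=
  v_inj h (mul_left_cancel ((Classical.epsilon_spec
    (p := fun t => y * x * y⁻¹ = x * D.xv t) ⟨t, e⟩).symm.trans e))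

theorem th_mul {h : D.Rel} {x : G} (hx : x ∈ R) :
    ∀ a ∈ WW h R, ∀ b ∈ WW h R, th D (a * b) x = th D a x + th D b x := fun a ha b hb =>
  th_eq h (by
    calc _ = a * (b * x * b⁻¹) * a⁻¹ := by group
      _ = a * x * a⁻¹ * (a * D.xv (th D b x) * a⁻¹) := by rw [th_spec hb hx]; group
      _ = _ := by rw [th_spec ha hx, ha.1, h.vv]; group)

theorem th_odd {h : D.Rel} {x y : G} (hx : x ∈ R) (hy : y ∈ WW h R) {m : ℕ} (hm : Odd m) :
    th D (y ^ m) x = th D y x := by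
  obtain ⟨m, rfl⟩ := hm
  rw [on_pow (f := fun y => th D y x) (th_mul hx) hy, add_nsmul, one_nsmul, mul_nsmul, two_nsmul,
    f4_add, nsmul_zero, zero_add]

/-- the part of `K` which lies in all translates -/
def II (h : D.Rel) (R : Subgroup G) : Subgroup G where
  carrier := {k | ∀ y ∈ WW h R, y * k * y⁻¹ ∈ D.K}
  one_mem' := by simp
  mul_mem' := fun {a b} ha hb y hy => by
    simpa [mul_assoc] using mul_mem (ha y hy) (hb y hy)
  inv_mem' := fun {a} ha y hy => by simpa [mul_assoc] using inv_mem (ha y hy)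

theorem II_K {h : D.Rel} {k : G} (hk : k ∈ II h R) : k ∈ D.K := by simpa using hk 1 (one_mem _)

theorem II_conj {h : D.Rel} {k y : G} (hk : k ∈ II h R) (hy : y ∈ WW h R) :
    y * k * y⁻¹ ∈ II h R := fun z hz => by simpa [mul_assoc] using hk _ (mul_mem hz hy)

variable (hF : D.Fa) (hP : PD D R)
include hP

theorem KV {k : G} (hk : k ∈ D.K) (hv : k ∈ D.V) : k = 1 := hP.noD 1 k hk (by simpa using hv)

theorem R_comm {x y : G} (hx : x ∈ R) (hy : y ∈ R) : x * y = y * x := comm_of_sq hP.sq hx hy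

theorem RA {x a : G} (hx : x ∈ R) (ha : a ∈ D.A) : a * x = x * a := K_comm (hP.syl.le hx) ha

theorem exists_ne : ∃ x ∈ R, x ≠ 1 := by
  by_contra h
  push Not at h
  have := hP.card
  rw [(eq_bot_iff_forall R).2 h, card_bot] at this
  omega

include hF

theorem AK {a : G} (ha : a ∈ D.A) (hk : a ∈ D.K) : a = 1 :=
  KV hP hk (hF.par.cQA a (hF.glob.centV 1 one_ne_zero a ha (K_comm hk (xv_A hF.rel 1)).symm)
    fun _ hq => (K_comm hk (P_A hF.rel (Q_P hq))).symm)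

theorem th_add {y : G} (hy : y ∈ WW hF.rel R) :
    ∀ a ∈ R, ∀ b ∈ R, th D y (a * b) = th D y a + th D y b := fun a ha b hb =>
  th_eq hF.rel (by
    calc _ = y * a * y⁻¹ * (y * b * y⁻¹) := by group
      _ = a * (D.xv (th D y a) * b) * D.xv (th D y b) := by rw [th_spec hy ha, th_spec hy hb]; group
      _ = _ := by rw [RA hP hb (xv_A hF.rel _), hF.rel.vv]; group)

theorem rho_WW {y : G} (hy : y ∈ WW hF.rel R) : D.rho * y * D.rho⁻¹ ∈ WW hF.rel R ∧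
    ∀ x ∈ R, th D (D.rho * y * D.rho⁻¹) x = om ^ 2 * th D y x := by
  have h1 : ∀ x ∈ R, D.rho * y * D.rho⁻¹ * x * (D.rho * y * D.rho⁻¹)⁻¹ =
      x * D.xv (om ^ 2 * th D y x) := fun x hx => by
    calc _ = D.rho * (y * (D.rho⁻¹ * x) * D.rho * y⁻¹) * D.rho⁻¹ := by group
      _ = D.rho * x * D.xv (th D y x) * D.rho⁻¹ := by
        rw [RA hP hx (inv_mem rho_A), mul_assoc D.rho x, ← th_spec hy hx]; group
      _ = _ := by rw [RA hP hx rho_A, mul_assoc x, hF.rel.rv]; group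
  refine ⟨⟨fun t => ?_, fun x hx => ⟨_, h1 x hx⟩⟩, fun x hx => th_eq hF.rel (h1 x hx)⟩
  have h2 := conj_of_eq (hF.rel.rv (om * t))
  rw [← mul_assoc, ← pow_succ, om_cube, one_mul] at h2
  rw [← h2]
  exact conj_comm (hy.1 _) _

theorem P_WW {p : G} (hp : p ∈ D.P) : p ∈ WW hF.rel R ∧ ∀ x ∈ R, th D p x = 0 :=
  have h1 : ∀ x ∈ R, p * x * p⁻¹ = x * D.xv 0 := fun x hx => by
    rw [RA hP hx (P_A hF.rel hp), v0 hF.rel]; group
  ⟨⟨P_v hF.rel hp, fun x hx => ⟨0, h1 x hx⟩⟩, fun x hx => th_eq hF.rel (h1 x hx)⟩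

omit hP in
theorem cV {g : G} (hg : g ∈ normalizer (D.A : Set G)) (hv : ∀ t, g * D.xv t = D.xv t * g) :
    ∃ k ∈ D.K, ∃ p ∈ D.P, g = k * p := by
  obtain ⟨a, ha, h1 | h1⟩ := hF.glob.out g hg
  · refine ⟨_, h1, a⁻¹, inv_mem (hF.glob.centV 1 one_ne_zero a ha ?_), ?_⟩
    · have := K_comm h1 (xv_A hF.rel 1)
      rw [mul_assoc, hv, ← mul_assoc, ← mul_assoc, mul_left_inj] at this
      exact this.symm
    · rw [← K_comm h1 (inv_mem ha), inv_mul_cancel_left]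
  · have h2 : ∀ t, a * D.xv t * a⁻¹ = D.xv (t ^ 2) := fun t => by
      rw [← (h1.1 t).2.2.2.2.2, mul_assoc a g, hv]; group
    have h3 := hF.glob.centV 1 one_ne_zero a ha (by
      rw [← mul_inv_eq_iff_eq_mul, h2, one_pow])
    have h4 := h2 om
    rw [P_v hF.rel h3, mul_inv_cancel_right] at h4
    exact absurd (v_inj hF.rel h4) (by decide)

variable [Finite G]

omit hF in
theorem exists_O : ∃ O : Subgroup G, O ≤ D.K ∧ Odd (Nat.card O) ∧
    (∀ o ∈ O, ∀ x ∈ R, o * x = x * o) ∧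
    ∀ k ∈ D.K, (∀ x ∈ R, k * x = x * k) → ∃ x ∈ R, ∃ o ∈ O, k = x * o := by
  set C := D.K ⊓ centralizer (R : Set G) with hC
  have h1 : R ≤ C := fun x hx => ⟨hP.syl.le hx, mem_centralizer_iff.2 fun y hy => R_comm hP hy hx⟩
  have : (R.subgroupOf C).Normal := ⟨fun n hn g => by
    rw [mem_subgroupOf] at hn ⊢
    push_cast
    rwa [← mem_centralizer_iff.1 g.2.2 _ hn, mul_inv_cancel_right]⟩
  have h2 : Odd (R.subgroupOf C).index :=
    Nat.not_even_iff_odd.1 fun e => (hP.syl.mono h1 inf_le_left).not_dvd e.two_dvd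
  obtain ⟨H, hH⟩ := exists_right_complement'_of_coprime (N := R.subgroupOf C) (by
    rw [Nat.card_congr (subgroupOfEquivOfLe h1).toEquiv, hP.card]
    exact (Nat.coprime_two_left.2 h2).pow_left 2)
  refine ⟨H.map C.subtype, (map_subtype_le H).trans inf_le_left, ?_, fun o ho x hx =>
    (mem_centralizer_iff.1 (map_subtype_le H ho).2 x hx).symm, fun k hk hc => ?_⟩
  · rwa [card_map_of_injective C.subtype_injective, ← hH.symm.index_eq_card]
  · obtain ⟨⟨a, b⟩, e⟩ := (hH.existsUnique ⟨k, hk, mem_centralizer_iff.2 fun x hx =>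
      (hc x hx).symm⟩).exists
    exact ⟨_, a.2, _, ⟨_, b.2, rfl⟩, (congrArg Subtype.val e).symm⟩

theorem ker0 {y x : G} (hy : y ∈ WW hF.rel R) (hx : x ∈ R) (h1 : x ≠ 1) (e : th D y x = 0) :
    ∃ k ∈ D.K, (∀ x ∈ R, k * x = x * k) ∧ ∃ p ∈ D.P, y = k * p := by
  have h2 := th_spec hy hx
  rw [e, v0 hF.rel, mul_one] at h2
  obtain ⟨k, hk, p, hp, rfl⟩ := cV hF (te hP.std (hP.syl.le hx) h1 (hP.sq x hx)
    (h2.symm ▸ hP.syl.le hx)) hy.1
  refine ⟨k, hk, fun x hx => ?_, p, hp, rfl⟩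
  have h3 := th_spec hy hx
  rw [mul_assoc k p, RA hP hx (P_A hF.rel hp), show k * (x * p) * (k * p)⁻¹ = k * x * k⁻¹ by group]
    at h3
  have h4 := KV hP (mul_mem (inv_mem (hP.syl.le hx)) (mul_mem (mul_mem hk (hP.syl.le hx))
    (inv_mem hk))) (by rw [h3, inv_mul_cancel_left]; exact xv_V _)
  rw [inv_mul_eq_one] at h4
  exact mul_inv_eq_iff_eq_mul.1 h4.symm

theorem th_zero {y x : G} (hy : y ∈ WW hF.rel R) (hx : x ∈ R) (h1 : x ≠ 1) (e : th D y x = 0) :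
    ∀ x ∈ R, th D y x = 0 := fun x' hx' => by
  obtain ⟨k, -, h2, p, hp, rfl⟩ := ker0 hF hP hy hx h1 e
  exact th_eq hF.rel (by
    rw [mul_assoc k p, RA hP hx' (P_A hF.rel hp), ← mul_assoc, h2 x' hx', v0 hF.rel]; group)

/-- a 2-element of `C_K(R) P` lies in `R P` -/
theorem two_elt {k p : G} (hk : k ∈ D.K) (h1 : ∀ x ∈ R, k * x = x * k) (hp : p ∈ D.P) {n : ℕ}
    (hn : (k * p) ^ 2 ^ n = 1) : k ∈ R := by
  rw [(Commute.symm (K_comm hk (P_A hF.rel hp))).mul_pow] at hn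
  have h2 := AK hF hP (by
    rw [eq_inv_of_mul_eq_one_left hn]; exact inv_mem (pow_mem (P_A hF.rel hp) _)) (pow_mem hk (2 ^ n))
  exact hP.syl.le_of_le_normalizer' (H86.Dbl.isPGroup_zpowers h2) (zpowers_le.2 hk)
    (zpowers_le.2 (H86.mem_normalizer_of_conj_le fun x hx => by
      rwa [h1 x hx, mul_inv_cancel_right])) (mem_zpowers k)

theorem WW_P {y : G} (hy : y ∈ WW hF.rel R) : ∀ p ∈ D.P, y * p * y⁻¹ ∈ D.P := by
  let RP : Subgroup G :=
    { carrier := {g | ∃ x ∈ R, ∃ p ∈ D.P, g = x * p}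
      one_mem' := ⟨1, one_mem _, 1, one_mem _, (one_mul 1).symm⟩
      mul_mem' := by
        rintro _ _ ⟨x, hx, p, hp, rfl⟩ ⟨x', hx', p', hp', rfl⟩
        exact ⟨_, mul_mem hx hx', _, mul_mem hp hp', by
          rw [mul_assoc, ← mul_assoc p, RA hP hx' (P_A hF.rel hp)]; group⟩
      inv_mem' := by
        rintro _ ⟨x, hx, p, hp, rfl⟩
        exact ⟨_, inv_mem hx, _, inv_mem hp, by rw [← RA hP hx (P_A hF.rel hp), mul_inv_rev]⟩ }
  obtain ⟨x₀, h0, h1⟩ := exists_ne hP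
  have key : ∀ i ∈ D.P, i * i = 1 → i ∈ RP.comap (MulAut.conj y).toMonoidHom := fun i hi e => by
    have h2 := (P_WW hF hP hi)
    obtain ⟨k, hk, h3, p, hp, h4⟩ := ker0 hF hP (mul_mem (mul_mem hy h2.1) (inv_mem hy)) h0 h1 (by
      rw [on_conj (f := fun y => th D y x₀) (th_mul h0) hy h2.1, h2.2 _ h0])
    exact ⟨k, two_elt hF hP hk h3 hp (n := 1) (by rw [← h4, pow_one, pow_two, conj_sq e]), p, hp, h4⟩
  have h2 : D.P ≤ RP.comap (MulAut.conj y).toMonoidHom := P_ind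
    (fun t => key _ (L_P (xa_L t)) (sq_of_add hF.rel.aa t))
    (fun t => key _ (Q_P (xb_Q t)) (sq_of_add hF.rel.bb t))
    (fun t => key _ (Q_P (xc_Q t)) (sq_of_add hF.rel.cc t))
    (fun t => key _ (Q_P (xd_Q t)) (sq_of_add hF.rel.dd t))
    (fun t => key _ (Q_P (xe_Q t)) (sq_of_add hF.rel.ee t))
    (fun t => key _ (Q_P (xv_Q t)) (sq_of_add hF.rel.vv t)) (key _ (L_P na_L) hF.rel.na2)
  have h3 : ⁅D.P, D.P⁆ ≤ D.P.comap (MulAut.conj y).toMonoidHom := commutator_le.2 fun a ha b hb => by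
    obtain ⟨x, hx, p, hp, e⟩ := h2 ha
    obtain ⟨x', hx', p', hp', e'⟩ := h2 hb
    rw [mem_comap, map_commutatorElement, e, e', commutatorElement_def]
    have c1 : ∀ g ∈ RP, g * x = x * g := by
      rintro _ ⟨u, hu, q, hq, rfl⟩
      rw [mul_assoc, RA hP hx (P_A hF.rel hq), ← mul_assoc, R_comm hP hu hx, mul_assoc]
    have c2 := RA hP hx' (P_A hF.rel hp)
    have c3 := RA hP hx' (P_A hF.rel (mul_mem (mul_mem hp hp') (inv_mem hp)))
    have c4 := RA hP hx' (P_A hF.rel hp')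
    have c5 := c1 (p * (x' * p') * p⁻¹) (mul_mem (mul_mem ⟨1, one_mem _, p, hp, (one_mul p).symm⟩
      ⟨x', hx', p', hp', rfl⟩) ⟨1, one_mem _, _, inv_mem hp, (one_mul _).symm⟩)
    have : x * p * (x' * p') * (x * p)⁻¹ * (x' * p')⁻¹ = p * p' * p⁻¹ * p'⁻¹ := by
      calc _ = x * (p * (x' * p') * p⁻¹) * x⁻¹ * (x' * p')⁻¹ := by group
        _ = p * x' * p' * p⁻¹ * (x' * p')⁻¹ := by rw [← c5]; group
        _ = x' * (p * p' * p⁻¹) * (p' * x')⁻¹ := by rw [c2, c4]; group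
        _ = _ := by rw [← c3]; group
    rw [this]
    exact mul_mem (mul_mem (mul_mem hp hp') (inv_mem hp)) (inv_mem hp')
  exact fun p hp => h3 (hF.par.perfP.symm ▸ hp)

theorem WW_Q {y : G} (hy : y ∈ WW hF.rel R) : ∀ p ∈ D.QA, y * p * y⁻¹ ∈ D.QA :=
  cjs_le.1 (hF.par.o2P _ (cjs_le.2 fun q hq => WW_P hF hP hy q (Q_P hq))
    (fun p hp => H86.mem_normalizer_of_conj_le (forall_cjs.2 fun q hq => mem_cjs.2 (by
      have := P_Q hF.rel (conj_inv_mem (WW_P hF hP hy) hp) q hq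
      rwa [show y⁻¹ * p * y * q * (y⁻¹ * p * y)⁻¹ = y⁻¹ * (p * (y * q * y⁻¹) * p⁻¹) * y by group]
        at this))) (cjs_isPGroup (Q_two hF.rel) y))

theorem mem_II {k x : G} (hk : k ∈ D.K) (h1 : Odd (orderOf k)) (hx : x ∈ R) (h2 : x ≠ 1)
    (e : k * x = x * k) : k ∈ II hF.rel R := fun y hy => by
  obtain ⟨k', hk', p, hp, h3⟩ := cV hF (g := y * k * y⁻¹) (te hP.std (hP.syl.le hx) h2 (hP.sq x hx)
    (by
      have h3 := th_spec (inv_mem hy) hx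
      have h4 : k * (y⁻¹ * x * y⁻¹⁻¹) = y⁻¹ * x * y⁻¹⁻¹ * k := by
        rw [h3, ← mul_assoc, e, mul_assoc, ← K_comm hk (xv_A hF.rel _), mul_assoc]
      rw [show y * k * y⁻¹ * x * (y * k * y⁻¹)⁻¹ = y * (k * (y⁻¹ * x * y⁻¹⁻¹)) * k⁻¹ * y⁻¹ by group,
        h4, show y * (y⁻¹ * x * y⁻¹⁻¹ * k) * k⁻¹ * y⁻¹ = x by group]
      exact hP.syl.le hx))
    fun t => ((Commute.mul_left (hy.1 t) (K_comm hk (xv_A hF.rel t)).symm).mul_left
      (Commute.inv_left (hy.1 t))).eq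
  have h4 := hF.par.cQA p hp fun q hq => by
    have h4 := conj_comm (K_comm hk (P_A hF.rel (conj_inv_mem (WW_P hF hP hy) (Q_P hq)))) y
    rw [h3, show y * (y⁻¹ * q * y) * y⁻¹ = q by group, ← mul_assoc,
      K_comm hk' (P_A hF.rel (Q_P hq)), mul_assoc, mul_assoc] at h4
    exact (mul_left_cancel h4).symm
  have h5 : (k' * p) ^ orderOf k = 1 := by rw [← h3, conj_pow, pow_orderOf_eq_one]; group
  rw [(Commute.symm (K_comm hk' (P_A hF.rel hp))).mul_pow, odd_pow_of_sq (V_sq hF.rel h4) h1] at h5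
  rw [h3, KV hP (k := p) (by rw [eq_inv_of_mul_eq_one_right h5]; exact inv_mem (pow_mem hk' _)) h4,
    mul_one]
  exact hk'

theorem mem_E {g : G} (hg : g ∈ R ⊔ D.V) : ∃ x ∈ R, ∃ t, g = x * D.xv t := by
  let E : Subgroup G :=
    { carrier := {g | ∃ x ∈ R, ∃ t, g = x * D.xv t}
      one_mem' := ⟨1, one_mem _, 0, by rw [v0 hF.rel, one_mul]⟩
      mul_mem' := by
        rintro _ _ ⟨x, hx, p, rfl⟩ ⟨x', hx', p', rfl⟩
        exact ⟨_, mul_mem hx hx', p + p', by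
          rw [mul_assoc, ← mul_assoc (D.xv p), RA hP hx' (xv_A hF.rel _), hF.rel.vv]; group⟩
      inv_mem' := by
        rintro _ ⟨x, hx, p, rfl⟩
        exact ⟨_, inv_mem hx, p, by rw [← RA hP hx (xv_A hF.rel _), mul_inv_rev, v_inv hF.rel]⟩ }
  exact (sup_le (fun x hx => ⟨x, hx, 0, by rw [v0 hF.rel, mul_one]⟩) (fun v hv => by
    obtain ⟨t, rfl⟩ := (mem_V hF.rel).1 hv
    exact ⟨1, one_mem _, t, (one_mul _).symm⟩) : R ⊔ D.V ≤ E) hg

theorem exists_w0 : ∃ w ∈ WW hF.rel R, ∃ x ∈ R, th D w x ≠ 0 := by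
  obtain ⟨g, g1, g2, g3⟩ := hP.mov
  have hV : ∀ t, ∃ t', g * D.xv t * g⁻¹ = D.xv t' := fun t =>
    (mem_V hF.rel).1 ((mem_normalizer_iff.1 g2 _).1 (xv_V t))
  have hV' : ∀ t, ∃ t', D.xv t = g * D.xv t' * g⁻¹ := fun t => by
    obtain ⟨t', e⟩ := (mem_V hF.rel).1 ((mem_normalizer_iff.1 (inv_mem g2) _).1 (xv_V t))
    exact ⟨t', by rw [← e]; group⟩
  set ρ := g * D.rho * g⁻¹ with hρ
  have e1 : ∀ t, ρ * (g * D.xv t * g⁻¹) * ρ⁻¹ = g * D.xv (om ^ 2 * t) * g⁻¹ := fun t => by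
    rw [← conj_of_eq (hF.rel.rv t), hρ]; group
  have h1 : ∀ t, ∃ t', ρ * D.xv t * ρ⁻¹ = D.xv t' := fun t => by
    obtain ⟨s, hs⟩ := hV' t
    rw [hs, e1]; exact hV _
  have h2 : ∀ t, ρ * D.xv t * ρ⁻¹ = D.xv t → t = 0 := fun t e => by
    obtain ⟨s, hs⟩ := hV' t
    rw [hs, e1] at e
    rw [om_fix s (v_inj hF.rel (by simpa using e)), v0 hF.rel] at hs
    exact v_eq_one hF.rel (by simpa using hs)
  choose δ hδ using h1
  obtain ⟨u, u1, u2⟩ : ∃ u ∈ D.A, ∀ t, u * D.xv (δ t) * u⁻¹ = D.xv t := by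
    rcases f4_fpf δ (fun s t => v_inj hF.rel (by
      rw [hF.rel.vv, ← hδ, ← hδ, ← hδ, hF.rel.vv]; group)) (fun t e => v_eq_one hF.rel (by
        have := hδ t
        rw [e, v0 hF.rel] at this
        simpa using this)) (fun t e => h2 t (by rw [hδ, e])) with e | e
    · exact ⟨_, rho_A, fun t => by
        rw [conj_of_eq (hF.rel.rv _), e, ← mul_assoc, ← pow_succ, om_cube, one_mul]⟩
    · exact ⟨_, inv_mem rho_A, fun t => by rw [e, ← conj_of_eq (hF.rel.rv t)]; group⟩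
  have h3 : ∀ x ∈ R, ∃ t, ρ * x * ρ⁻¹ = x * D.xv t := fun x hx => by
    obtain ⟨x', hx', s, e⟩ := mem_E hF hP ((mem_normalizer_iff.1 (inv_mem g1) x).1 (mem_sup_left hx))
    obtain ⟨t, ht⟩ := hV (s + om ^ 2 * s)
    refine ⟨t, ?_⟩
    calc _ = g * (D.rho * (g⁻¹ * x * g⁻¹⁻¹) * D.rho⁻¹) * g⁻¹ := by rw [hρ]; group
      _ = g * (x' * (D.xv s * D.xv s) * (D.rho * D.xv s * D.rho⁻¹)) * g⁻¹ := by
        rw [e, ← mul_assoc D.rho, RA hP hx' rho_A, v_sq hF.rel]; group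
      _ = _ := by rw [← ht, hF.rel.vv, conj_of_eq (hF.rel.rv s), ← mul_assoc x', ← e]; group
  have h4 : ∀ x ∈ R, ∀ t, ρ * x * ρ⁻¹ = x * D.xv (δ t) → u * ρ * x * (u * ρ)⁻¹ = x * D.xv t :=
    fun x hx t e => by
      calc _ = u * (ρ * x * ρ⁻¹) * u⁻¹ := by group
        _ = _ := by rw [e, ← mul_assoc, RA hP hx u1, ← u2 t]; group
  have h5 : Function.Surjective δ := Finite.surjective_of_injective fun s t e => v_inj hF.rel (by
    rw [← u2 s, ← u2 t, e])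
  have h6 : u * ρ ∈ WW hF.rel R := ⟨fun t => by
    rw [← mul_inv_eq_iff_eq_mul, show u * ρ * D.xv t * (u * ρ)⁻¹ = u * (ρ * D.xv t * ρ⁻¹) * u⁻¹ by
      group, hδ, u2], fun x hx => by
    obtain ⟨t, ht⟩ := h3 x hx
    obtain ⟨t, rfl⟩ := h5 t
    exact ⟨t, h4 x hx t ht⟩⟩
  refine ⟨_, h6, ?_⟩
  by_contra h7
  push Not at h7
  refine g3 (H86.mem_normalizer_of_conj_le fun x hx => ?_)
  obtain ⟨x', hx', s, e⟩ := mem_E hF hP ((mem_normalizer_iff.1 g1 x).1 (mem_sup_left hx))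
  have h8 := th_spec h6 hx'
  rw [h7 x' hx', v0 hF.rel, mul_one] at h8
  have h9 : ρ * x' * ρ⁻¹ = x' := by
    calc _ = u⁻¹ * (u * ρ * x' * (u * ρ)⁻¹) * u := by group
      _ = _ := by rw [h8, mul_assoc, ← RA hP hx' u1, inv_mul_cancel_left]
  have h10 : ρ * (g * x * g⁻¹) * ρ⁻¹ = g * x * g⁻¹ := by
    calc _ = g * (D.rho * x) * D.rho⁻¹ * g⁻¹ := by rw [hρ]; group
      _ = _ := by rw [RA hP hx rho_A]; group
  rw [e, show ρ * (x' * D.xv s) * ρ⁻¹ = ρ * x' * ρ⁻¹ * (ρ * D.xv s * ρ⁻¹) by group, h9,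
    mul_right_inj] at h10
  rwa [e, h2 s h10, v0 hF.rel, mul_one]

theorem exists_w : ∃ w ∈ WW hF.rel R, (∃ n, w ^ 2 ^ n = 1) ∧ w * D.y5 = D.y5 * w ∧
    (∀ k ∈ II hF.rel R, w * k = k * w) ∧ ∃ x ∈ R, th D w x ≠ 0 := by
  obtain ⟨w, hw, x, hx, h0⟩ := exists_w0 hF hP
  have : Fact (Nat.Prime 5) := ⟨by norm_num⟩
  have h1 : D.y5 ≠ 1 := fun e => by
    obtain ⟨i, hi⟩ := hF.par.fy (D.xb 1) (xb_Q 1) fun hv => by
      obtain ⟨t, ht⟩ := (mem_V hF.rel).1 hv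
      have := (hF.rel.nf 0 1 0 0 0 t (by
        rw [one_of_add hF.rel.aa, one_of_add hF.rel.cc, one_of_add hF.rel.dd, one_of_add hF.rel.ee,
          ht]; simpa using v_sq hF.rel t)).2.1
      exact one_ne_zero this
    exact hi (by rw [e]; simpa using Commute.refl _)
  have h2 : Nat.card (zpowers D.y5) = 5 := by rw [Nat.card_zpowers, orderOf_eq_prime hF.rel.y55 h1]
  have h3 : H8.IsSylowIn 5 (zpowers D.y5) D.P := ⟨zpowers_le.2 y5_P, IsPGroup.of_card (n := 1) h2, by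
    have := H8.card_eq_card_mul_relIndex (zpowers_le.2 (y5_P (D := D)))
    rw [hF.par.cardP, h2] at this
    omega⟩
  obtain ⟨p, hp, n, hn, rfl⟩ := h3.frattini (H86.mem_normalizer_of_conj_le (WW_P hF hP hw))
  have h4 := P_WW hF hP hp
  have h5 : n ∈ WW hF.rel R := by simpa using mul_mem (inv_mem h4.1) hw
  rw [th_mul hx p h4.1 n h5, h4.2 x hx, zero_add] at h0
  have h6 := rho_WW hF hP h5
  have h7 := mul_mem (inv_mem h5) h6.1
  have key : ∀ a, D.rho⁻¹ * a = a * D.rho⁻¹ → D.rho * (n * a * n⁻¹) = n * a * n⁻¹ * D.rho →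
      n⁻¹ * (D.rho * n * D.rho⁻¹) * a = a * (n⁻¹ * (D.rho * n * D.rho⁻¹)) := fun a a1 a2 => by
    calc _ = n⁻¹ * D.rho * n * (D.rho⁻¹ * a) := by group
      _ = n⁻¹ * (D.rho * (n * a * n⁻¹)) * n * D.rho⁻¹ := by rw [a1]; group
      _ = _ := by rw [a2]; group
  obtain ⟨m, j, hm, h8⟩ := exists_two_part (n⁻¹ * (D.rho * n * D.rho⁻¹))
  refine ⟨_, pow_mem h7 m, ⟨j, h8⟩, (Commute.pow_left (key _
    (Commute.inv_left (rho_y5 hF.rel)).eq (comm_of_mem_zpowers ((mem_normalizer_iff.1 hn _).1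
      (mem_zpowers _)) (rho_y5 hF.rel).symm).symm) m).eq, fun k hk => (Commute.pow_left (key _
    (K_comm (II_K hk) (inv_mem rho_A)) (K_comm (II_K (II_conj hk h5)) rho_A)) m).eq, x, hx, ?_⟩
  rw [th_odd hx h7 hm, th_mul hx _ (inv_mem h5) _ h6.1, h6.2 x hx,
    on_inv (f := fun y => th D y x) (th_mul hx) h5]
  exact fun e => h0 (om_fix _ (neg_add_eq_zero.1 e).symm)

theorem cent_P {w : G} (hw : w ∈ WW hF.rel R) {n : ℕ} (hn : w ^ 2 ^ n = 1)
    (hy : w * D.y5 = D.y5 * w) : ∀ p ∈ D.P, w * p = p * w := by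
  have h := hF.rel
  have cl : ∀ a ∈ D.QA, ∀ b ∈ D.QA, ∀ c ∈ D.QA, ⁅a * b, c⁆ = ⁅a, c⁆ * ⁅b, c⁆ :=
    fun a ha b hb c hc => by
      have := P_V h (Q_P ha) (Q_comm h hb hc)
      have e := P_V h (Q_P (V_Q h (Q_comm h ha hc))) (Q_comm h hb hc)
      simp only [commutatorElement_def]
      calc _ = a * (b * c * b⁻¹ * c⁻¹) * c * a⁻¹ * c⁻¹ := by group
        _ = _ := by rw [this, e]; group
  have cr : ∀ c ∈ D.QA, ∀ a ∈ D.QA, ∀ b ∈ D.QA, ⁅c, a * b⁆ = ⁅c, a⁆ * ⁅c, b⁆ :=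
    fun c hc a ha b hb => by
      have := P_V h (Q_P ha) (Q_comm h hc hb)
      simp only [commutatorElement_def]
      calc _ = c * a * c⁻¹ * a⁻¹ * (a * (c * b * c⁻¹ * b⁻¹)) * a⁻¹ := by group
        _ = _ := by rw [this]; group
  have key : ∀ n : ℕ, (∀ q ∈ D.QA, w ^ 2 ^ n * q * (w ^ 2 ^ n)⁻¹ * q⁻¹ ∈ D.V) →
      ∀ q ∈ D.QA, w * q * w⁻¹ * q⁻¹ ∈ D.V := fun n => by
    induction n with
    | zero => simp
    | succ n ih =>
      refine fun h2 => ih fun a ha => ?_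
      by_contra h3
      have hu := pow_mem hw (2 ^ n)
      have hy' := (Commute.pow_left hy (2 ^ n))
      rw [pow_succ, pow_mul, pow_two] at h2
      set u := w ^ 2 ^ n
      have h4 := WW_Q hF hP hu
      have h5 : ∀ x ∈ D.QA, ∀ y ∈ D.QA, ⁅u * x * u⁻¹, u * y * u⁻¹⁆ = ⁅x, y⁆ := fun x hx y hy => by
        obtain ⟨t, ht⟩ := (mem_V h).1 (Q_comm h hx hy)
        simp only [commutatorElement_def]
        calc _ = u * (x * y * x⁻¹ * y⁻¹) * u⁻¹ := by group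
          _ = _ := by rw [ht, hu.1, mul_inv_cancel_right]
      have h6 : ∀ x ∈ D.QA, ∀ y ∈ D.QA, ⁅u * x * u⁻¹ * x⁻¹, u * y * u⁻¹ * y⁻¹⁆ = 1 :=
        fun x hx y hy => by
          have a1 : ⁅u * x * u⁻¹, y⁻¹⁆ = ⁅x⁻¹, u * y * u⁻¹⁆ := by
            have b1 := h2 x hx
            have b2 : ∀ c ∈ D.QA, ∀ c' ∈ D.QA, ⁅c, c'⁆ * ⁅c, c'⁆ = 1 := fun c hc c' hc' =>
              V_sq h (Q_comm h hc hc')
            have b3 := cl _ (V_Q h b1) _ hx _ (h4 y hy)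
            rw [(commutatorElement_eq_one_iff_mul_comm (g₁ := u * u * x * (u * u)⁻¹ * x⁻¹)).2
              (P_V h (Q_P (h4 y hy)) b1).symm, one_mul, show u * u * x * (u * u)⁻¹ * x⁻¹ * x =
                u * (u * x * u⁻¹) * u⁻¹ by group, h5 _ (h4 x hx) y hy] at b3
            have b4 := cr _ (h4 x hx) _ hy _ (inv_mem hy)
            have b5 := cl _ hx _ (inv_mem hx) _ (h4 y hy)
            rw [mul_inv_cancel, commutatorElement_one_right, b3] at b4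
            rw [mul_inv_cancel, commutatorElement_one_left] at b5
            exact mul_left_cancel (b4.symm.trans b5)
          have a2 : ⁅x⁻¹, y⁻¹⁆ = ⁅x, y⁆ := by
            have := h5 x hx y hy
            obtain ⟨t, ht⟩ := (mem_V h).1 (Q_comm h hx hy)
            simp only [commutatorElement_def]
            calc _ = (y * x)⁻¹ * (x * y * x⁻¹ * y⁻¹) * (y * x) := by group
              _ = _ := by rw [ht, P_v h (Q_P (inv_mem (mul_mem hy hx)))]; group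
          rw [cl _ (h4 x hx) _ (inv_mem hx) _ (mul_mem (h4 y hy) (inv_mem hy)),
            cr _ (h4 x hx) _ (h4 y hy) _ (inv_mem hy), cr _ (inv_mem hx) _ (h4 y hy) _ (inv_mem hy),
            h5 x hx y hy, a1, a2, mul_assoc, ← mul_assoc ⁅x⁻¹, _⁆,
            commutatorElement_def x⁻¹, V_sq h (Q_comm h (inv_mem hx) (h4 y hy)), one_mul,
            commutatorElement_def, V_sq h (Q_comm h hx hy)]
      obtain ⟨i, hi⟩ := hF.par.fy _ (mul_mem (h4 a ha) (inv_mem ha)) h3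
      refine hi (commutatorElement_eq_one_iff_mul_comm.1 ?_)
      rw [← h6 a ha _ (P_Q h (pow_mem y5_P i) a ha)]
      congr 1
      calc _ = D.y5 ^ i * u * a * (D.y5 ^ i * u)⁻¹ * (D.y5 ^ i * a * (D.y5 ^ i)⁻¹)⁻¹ := by group
        _ = _ := by rw [← (hy'.pow_right i).eq]; group
  have h1 := key n fun q _ => by rw [hn]; simp
  have h2 : ∀ q ∈ D.QA, w * q * w⁻¹ = q := fun q hq => by
    obtain ⟨x, hx, t, rfl⟩ := hF.par.cy q hq
    obtain ⟨s, hs⟩ := (mem_V h).1 (h1 x hx)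
    have a1 : w * x * w⁻¹ = D.xv s * x := by rw [← hs]; group
    calc _ = (w * x * w⁻¹)⁻¹ * (w * D.y5) * x * (w * D.y5)⁻¹ * (w * D.xv t * w⁻¹) := by group
      _ = (w * x * w⁻¹)⁻¹ * D.y5 * (w * x * w⁻¹) * D.y5⁻¹ * D.xv t := by rw [hy, hw.1]; group
      _ = x⁻¹ * (D.xv s)⁻¹ * (D.y5 * D.xv s) * x * D.y5⁻¹ * D.xv t := by rw [a1]; group
      _ = _ := by rw [P_v h y5_P]; group
  have h3 : ∀ p ∈ D.P, ∃ t, w * p * w⁻¹ = p * D.xv t := fun p hp => by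
    obtain ⟨t, ht⟩ := (mem_V h).1 (hF.par.cQA _ (mul_mem (inv_mem hp) (WW_P hF hP hw p hp))
      fun q hq => by
        have a1 := h2 _ (P_Q h hp q hq)
        have a2 := h2 q hq
        calc _ = p⁻¹ * w * p * (w⁻¹ * q * w) * w⁻¹ := by group
          _ = p⁻¹ * (w * (p * q * p⁻¹) * w⁻¹) * (w * p * w⁻¹) := by
            nth_rewrite 1 [← a2]; group
          _ = _ := by rw [a1]; group)
    exact ⟨t, by rw [← ht]; group⟩
  have h4 : ⁅D.P, D.P⁆ ≤ centralizer {w} := commutator_le.2 fun a ha b hb =>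
    mem_centralizer_singleton_iff.2 (by
      obtain ⟨s, hs⟩ := h3 a ha
      obtain ⟨t, ht⟩ := h3 b hb
      rw [eq_comm, ← mul_inv_eq_iff_eq_mul, commutatorElement_def]
      calc _ = w * a * w⁻¹ * (w * b * w⁻¹) * (w * a * w⁻¹)⁻¹ * (w * b * w⁻¹)⁻¹ := by group
        _ = a * (D.xv s * (b * D.xv t)) * (D.xv s)⁻¹ * (a⁻¹ * (D.xv t)⁻¹) * b⁻¹ := by
          rw [hs, ht]; group
        _ = _ := by
          rw [← P_V h (mul_mem hb (Q_P (xv_Q t))) (xv_V s), P_V h (inv_mem ha) (inv_mem (xv_V t))]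
          group)
  exact fun p hp => (mem_centralizer_singleton_iff.1 (h4 (hF.par.perfP.symm ▸ hp))).symm

theorem exists_g : ∃ g ∈ WW hF.rel R, (∀ p ∈ D.P, g * p = p * g) ∧
    (∀ k ∈ II hF.rel R, g * k = k * g) ∧ (∃ x ∈ R, th D g x ≠ 0) ∧ g * g ∈ D.V ∧
    g * (D.rho * g * D.rho⁻¹) = D.rho * g * D.rho⁻¹ * g ∧
    g * (D.rho * g * D.rho⁻¹) * (D.rho⁻¹ * g * D.rho) = 1 := by
  have h := hF.rel
  obtain ⟨w, w1, ⟨n, w2⟩, w3, w4, x, hx, w5⟩ := exists_w hF hP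
  obtain ⟨x₀, h0, h1⟩ := exists_ne hP
  set Z := WW h R ⊓ centralizer (D.P : Set G) ⊓ centralizer (II h R : Set G) with hZ
  have dec : ∀ y ∈ Z, ∀ x ∈ R, x ≠ 1 → th D y x = 0 →
      ∃ k ∈ D.K, (∀ x ∈ R, k * x = x * k) ∧ ∃ p ∈ D.V, y = k * p := fun y hy x hx a1 a2 => by
    obtain ⟨k, hk, a3, p, hp, rfl⟩ := ker0 hF hP hy.1.1 hx a1 a2
    refine ⟨k, hk, a3, p, hF.par.cQA p hp fun q hq => ?_, rfl⟩
    have := mem_centralizer_iff.1 hy.1.2 q (Q_P hq)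
    rw [← mul_assoc, K_comm hk (P_A h (Q_P hq)), mul_assoc, mul_assoc] at this
    exact (mul_left_cancel this).symm
  obtain ⟨W, hW⟩ := two_closed (N := Z) fun o ho a1 g hg => by
    obtain ⟨k, hk, a3, p, hp, e⟩ := dec o ho x₀ h0 h1 (by
      rw [← th_odd h0 ho.1.1 a1, pow_orderOf_eq_one]
      exact on_one (f := fun y => th D y x₀) (th_mul (h := h) h0))
    have a4 : (k * p) ^ orderOf o = 1 := by rw [← e, pow_orderOf_eq_one]
    rw [(Commute.symm (K_comm hk (P_A h (Q_P (V_Q h hp))))).mul_pow,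
      odd_pow_of_sq (V_sq h hp) a1] at a4
    rw [KV hP (k := p) (by rw [eq_inv_of_mul_eq_one_right a4]; exact inv_mem (pow_mem hk _)) hp,
      mul_one] at e
    exact mem_centralizer_iff.1 hg.2 o (mem_II hF hP (e ▸ hk) a1 h0 h1 (e ▸ a3 x₀ h0))
  have two : ∀ y ∈ W, ∀ x ∈ R, x ≠ 1 → th D y x = 0 → ∃ x ∈ R, ∃ p ∈ D.V, y = x * p :=
    fun y hy x hx a1 a2 => by
      obtain ⟨k, hk, a3, p, hp, e⟩ := dec y ((hW y).1 hy).1 x hx a1 a2
      obtain ⟨j, hj⟩ := ((hW y).1 hy).2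
      exact ⟨k, two_elt hF hP hk a3 (Q_P (V_Q h hp)) (e ▸ hj), p, hp, e⟩
  have hWV : ∀ y ∈ W, ∀ v ∈ D.V, y * v = v * y := fun y hy v hv =>
    (mem_centralizer_iff.1 ((hW y).1 hy).1.1.2 v (Q_P (V_Q h hv))).symm
  have hsq : ∀ y ∈ W, y * y ∈ D.V := fun y hy => by
    have a0 := ((hW y).1 hy).1.1.1
    obtain ⟨x, hx, p, hp, e⟩ := two _ (mul_mem hy hy) x₀ h0 h1 (by rw [th_mul h0 y a0 y a0, f4_add])
    by_cases a1 : x = 1
    · rwa [e, a1, one_mul]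
    obtain ⟨x', hx', p', hp', e'⟩ := two y hy x hx a1 (th_eq h (by
      have a2 : x = y * y * p⁻¹ := by rw [e, mul_inv_cancel_right]
      rw [v0 h, mul_one]
      calc _ = y * y * (y * p⁻¹) * y⁻¹ := by rw [a2]; group
        _ = _ := by rw [hWV y hy _ (inv_mem hp), a2]; group))
    rw [e', mul_assoc, ← mul_assoc p', RA hP hx' (P_A h (Q_P (V_Q h hp'))), mul_assoc, V_sq h hp',
      mul_one, hP.sq x' hx']
    exact one_mem _
  have hρ : ∀ y ∈ W, D.rho * y * D.rho⁻¹ ∈ W := fun y hy => by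
    obtain ⟨⟨⟨a1, a2⟩, a3⟩, j, a4⟩ := (hW y).1 hy
    refine (hW _).2 ⟨⟨⟨(rho_WW hF hP a1).1, mem_centralizer_iff.2 fun p hp => ?_⟩,
      mem_centralizer_iff.2 fun k hk => ?_⟩, j, by rw [conj_pow, a4]; group⟩
    · obtain ⟨p, hp', rfl⟩ := conj_surj (rho_P h) hp
      exact conj_comm (mem_centralizer_iff.1 a2 p hp') _
    · have := conj_comm (mem_centralizer_iff.1 a3 k hk) D.rho
      rwa [K_comm (II_K hk) rho_A, mul_inv_cancel_right] at this
  have hw : w ∈ W := (hW w).2 ⟨⟨⟨w1, mem_centralizer_iff.2 fun p hp =>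
    (cent_P hF hP w1 w2 w3 p hp).symm⟩, mem_centralizer_iff.2 fun k hk => (w4 k hk).symm⟩, n, w2⟩
  have fix : ∀ v ∈ D.V, D.rho * v * D.rho⁻¹ = v → v = 1 := fun v hv e => by
    obtain ⟨t, rfl⟩ := (mem_V h).1 hv
    rw [conj_of_eq (h.rv t)] at e
    rw [om_fix t (v_inj h e), v0 h]
  have r3 : D.rho * D.rho = D.rho⁻¹ := eq_inv_of_mul_eq_one_left (by rw [← h.r3, pow_three'])
  set g := w * (D.rho * w * D.rho⁻¹) with hg
  have g0 : g ∈ W := mul_mem hw (hρ w hw)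
  have g1 := hρ g g0
  have g2 : D.rho⁻¹ * g * D.rho ∈ W := conj_inv_mem hρ g0
  have e1 : D.rho * (D.rho * g * D.rho⁻¹) * D.rho⁻¹ = D.rho⁻¹ * g * D.rho := by
    calc _ = D.rho * D.rho * g * (D.rho * D.rho)⁻¹ := by group
      _ = _ := by rw [r3, inv_inv]
  have e2 : g * (D.rho * g * D.rho⁻¹) * (D.rho⁻¹ * g * D.rho) ∈ D.V := by
    have a1 := hsq _ (hρ w hw)
    have a2 := hsq _ (conj_inv_mem hρ hw)
    have a3 := mul_mem (mul_mem a1 a2) (hsq w hw)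
    rw [← mul_assoc, ← hWV w hw _ (mul_mem a1 a2)] at a3
    convert a3 using 1
    calc _ = w * (D.rho * w * D.rho⁻¹ * (D.rho * w * D.rho⁻¹) * (D.rho * D.rho * w *
          (D.rho * D.rho)⁻¹ * (D.rho⁻¹ * w * D.rho))) * w := by rw [hg]; group
      _ = _ := by rw [r3, inv_inv]
  have e3 : g * (D.rho * g * D.rho⁻¹) = D.rho * g * D.rho⁻¹ * g := by
    have a1 := comm_mem_of_sq hsq g0 g1
    rw [← mul_inv_eq_one, show g * (D.rho * g * D.rho⁻¹) * (D.rho * g * D.rho⁻¹ * g)⁻¹ =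
      g * (D.rho * g * D.rho⁻¹) * g⁻¹ * (D.rho * g * D.rho⁻¹)⁻¹ by group]
    refine fix _ a1 ?_
    have a2 := hWV _ (mul_mem g1 g0) _ a1
    have a3 := hWV _ (inv_mem g1) _ e2
    rw [← e1] at a3
    have a4 : ∀ a : G, D.rho * g * D.rho⁻¹ = a → D.rho * (g * a * g⁻¹ * a⁻¹) * D.rho⁻¹ =
        a * (D.rho * a * D.rho⁻¹) * a⁻¹ * (D.rho * a * D.rho⁻¹)⁻¹ := by rintro _ rfl; group
    rw [a4 _ rfl]
    generalize D.rho * g * D.rho⁻¹ = a at a2 a3 ⊢
    generalize D.rho * a * D.rho⁻¹ = b at a3 ⊢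
    calc _ = g⁻¹ * (g * a * b * a⁻¹) * b⁻¹ := by group
      _ = (a * g)⁻¹ * (g * a * g⁻¹ * a⁻¹ * (a * g)) := by rw [← a3]; group
      _ = _ := by rw [← a2, inv_mul_cancel_left]
  refine ⟨g, ((hW g).1 g0).1.1.1, fun p hp => (mem_centralizer_iff.1 ((hW g).1 g0).1.1.2 p hp).symm,
    fun p hp => (mem_centralizer_iff.1 ((hW g).1 g0).1.2 p hp).symm, ⟨x, hx, fun e => w5 ?_⟩,
    hsq g g0, e3, fix _ e2 ?_⟩
  · rw [hg, th_mul hx _ w1 _ (rho_WW hF hP w1).1, (rho_WW hF hP w1).2 x hx] at e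
    exact om_fix _ (by rw [← add_zero (om ^ 2 * _), ← f4_add (th D w x), ← add_assoc,
      add_comm (om ^ 2 * _), e, zero_add])
  · have a1 := hWV _ g0 _ e2
    calc _ = D.rho * g * D.rho⁻¹ * (D.rho * (D.rho * g * D.rho⁻¹) * D.rho⁻¹) * g := by group
      _ = g⁻¹ * (g * (D.rho * g * D.rho⁻¹) * (D.rho⁻¹ * g * D.rho) * g) := by rw [e1]; group
      _ = _ := by rw [← a1, inv_mul_cancel_left]

omit hP hF [Finite G] in
theorem f4_ind (Q : F4 → Prop) (h0 : Q 0) (h1 : Q 1) (h : ∀ t, Q t → Q (om ^ 2 * t)) (t : F4) :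
    Q t := by
  have h2 := h 1 h1
  have h3 := h _ h2
  rw [show om ^ 2 * (om ^ 2 * 1) = om by decide] at h3
  rw [mul_one] at h2
  rcases f4_cases t with rfl | rfl | rfl | rfl <;> assumption

theorem exists_wa : ∃ O r f c, WA D R O r f c := by
  have h := hF.rel
  obtain ⟨O, O1, O2, O3, O4⟩ := exists_O hP
  obtain ⟨g, g1, g2, g3, ⟨x₁, hx₁, g4⟩, g5, g6, g7⟩ := exists_g hF hP
  obtain ⟨c, hc⟩ := (mem_V h).1 g5
  have z1 : ∀ x ∈ R, th D g x = 0 → x = 1 := fun x hx e => by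
    by_contra h1
    exact g4 (th_zero hF hP g1 hx h1 e x₁ hx₁)
  have inj : ∀ x ∈ R, ∀ y ∈ R, th D g x = th D g y → x = y := fun x hx y hy e => by
    have := z1 _ (mul_mem hx hy) (by rw [th_add hF hP g1 x hx y hy, e, f4_add])
    exact mul_right_cancel (this.trans (hP.sq y hy).symm)
  have sur : Function.Surjective fun x : R => th D g x :=
    ((Nat.bijective_iff_injective_and_card _).2 ⟨fun x y e => Subtype.ext (inj _ x.2 _ y.2 e), by
      rw [hP.card, Nat.card_eq_fintype_card]; rfl⟩).2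
  choose r hr using sur
  beta_reduce at hr
  have r0 : ∀ s, (r s : G) = 1 → s = 0 := fun s e => by
    rw [← hr s, e]; exact th_eq h (by rw [v0 h]; group)
  have r3 : D.rho * D.rho = D.rho⁻¹ := eq_inv_of_mul_eq_one_left (by rw [← h.r3, pow_three'])
  have e1 : D.rho * (D.rho * g * D.rho⁻¹) * D.rho⁻¹ = D.rho⁻¹ * g * D.rho := by
    calc _ = D.rho * D.rho * g * (D.rho * D.rho)⁻¹ := by group
      _ = _ := by rw [r3, inv_inv]
  obtain ⟨f, f0, f1, f2, f3⟩ : ∃ f : F4 → G, f 0 = 1 ∧ f 1 = g ∧ f om = D.rho⁻¹ * g * D.rho ∧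
      f (om ^ 2) = D.rho * g * D.rho⁻¹ := by
    refine ⟨fun t => if t = 0 then 1 else if t = 1 then g else if t = om then D.rho⁻¹ * g * D.rho
      else D.rho * g * D.rho⁻¹, if_pos rfl, ?_, ?_, ?_⟩ <;> beta_reduce
    · rw [if_neg (by decide), if_pos rfl]
    · rw [if_neg (by decide), if_neg (by decide), if_pos rfl]
    · rw [if_neg (by decide), if_neg (by decide), if_neg (by decide)]
  have hf : ∀ t, f (om ^ 2 * t) = D.rho * f t * D.rho⁻¹ := fun t => by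
    rcases f4_cases t with rfl | rfl | rfl | rfl
    · rw [mul_zero, f0, mul_one, mul_inv_cancel]
    · rw [mul_one, f3, f1]
    · rw [← pow_succ, om_cube, f1, f2]; group
    · rw [show om ^ 2 * om ^ 2 = om by decide, f2, f3, e1]
  have fW : ∀ t, f t ∈ WW h R ∧ ∀ x ∈ R, th D (f t) x = t * th D g x := f4_ind _
    (by rw [f0]; exact ⟨one_mem _, fun x _ => th_eq h (by rw [zero_mul, v0 h]; group)⟩)
    (by rw [f1]; exact ⟨g1, fun x _ => (one_mul _).symm⟩) fun t ht => by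
      rw [hf]
      exact ⟨(rho_WW hF hP ht.1).1, fun x hx => by
        rw [(rho_WW hF hP ht.1).2 x hx, ht.2 x hx, mul_assoc]⟩
  have fr : ∀ t s, f t * r s * (f t)⁻¹ = r s * D.xv (s * t) := fun t s => by
    rw [th_spec (fW t).1 (r s).2, (fW t).2 _ (r s).2, hr, mul_comm t]
  have e2 : f om = (g * f (om ^ 2))⁻¹ := by rw [f2, f3]; exact eq_inv_of_mul_eq_one_right g7
  obtain ⟨x₀, h0, h1⟩ := exists_ne hP
  refine ⟨O, fun s => r s, f, c, O1, O2, O3, O4, fun y hy => te hP.std (hP.syl.le h0) h1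
    (hP.sq _ h0) (hP.syl.le ((mem_normalizer_iff.1 hy _).1 h0)), fun s hs y hy =>
    te hP.std (hP.syl.le (r s).2) (fun e => hs (r0 s e)) (hP.sq _ (r s).2)
      (by rw [hy, mul_inv_cancel_right]; exact hP.syl.le (r s).2), fun y => cV hF,
    fun s t => inj _ (r _).2 _ (mul_mem (r s).2 (r t).2) (by
      rw [th_add hF hP g1 _ (r s).2 _ (r t).2, hr, hr, hr]), r0,
    fun x => ⟨fun hx => ⟨_, inj _ (r _).2 _ hx (hr _)⟩, fun ⟨s, e⟩ => e ▸ (r s).2⟩, f0,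
    f4_ind _ (by simp [f0]) (f1 ▸ g2) fun t ht p hp => ?_,
    fun t s => eq_mul_of_mul_inv_eq (fr t s),
    f4_ind _ (by simp [f0]) (fun s => ?_) fun t ht s => ?_,
    f4_ind _ (by rw [f0, mul_zero, v0 h, mul_one]) (by rw [f1, mul_one, hc]) fun t ht => ?_,
    ?_, fun t => by rw [hf]; group, fun y hy => ?_, fun k hk k1 ⟨s, hs, k2⟩ =>
      f4_ind _ (by simp [f0]) (f1 ▸ g3 k (mem_II hF hP hk k1 (r s).2 (fun e => hs (r0 s e)) k2))
        fun t ht => ?_⟩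
  · obtain ⟨p, hp', rfl⟩ := conj_surj (rho_P h) hp
    rw [hf]
    exact conj_comm (ht p hp') _
  · rw [← f3] at g6
    rcases f4_cases s with rfl | rfl | rfl | rfl
    · simp [f0]
    · rfl
    · rw [f1, e2]
      exact ((Commute.refl g).mul_right g6).inv_right.eq
    · rwa [f1]
  · rw [show s = om ^ 2 * (om * s) by rw [← mul_assoc, ← pow_succ, om_cube, one_mul], hf, hf]
    exact conj_comm (ht _) _
  · rw [hf, show c * (om ^ 2 * t) = om ^ 2 * (c * t) by ring, ← conj_of_eq (h.rv _), ← ht]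
    group
  · rw [f1, e2, f3, g6]; group
  · obtain ⟨s, t, e⟩ := hy 1
    have hs : s ≠ 0 := by
      rintro rfl
      have := inj _ (r 0).2 1 (one_mem _) ((hr 0).trans (th_eq h (by rw [v0 h]; group)).symm)
      exact one_ne_zero (r0 1 (hP.noD y _ (hP.syl.le (r 1).2) (by
        rw [e, this, one_mul]; exact xv_V t)))
    obtain ⟨u, rfl⟩ := (by decide : ∀ s t : F4, s ≠ 0 → ∃ u, s * u = t) s t hs
    have a1 := te hP.std (g := (f u)⁻¹ * y) (hP.syl.le (r 1).2) (fun e => one_ne_zero (r0 1 e))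
      (hP.sq _ (r 1).2) (by
        rw [show (f u)⁻¹ * y * r 1 * ((f u)⁻¹ * y)⁻¹ = (f u)⁻¹ * (y * r 1 * y⁻¹) * f u by group, e,
          ← fr, show (f u)⁻¹ * (f u * r s * (f u)⁻¹) * f u = r s by group]
        exact hP.syl.le (r s).2)
    refine ⟨u, H86.mem_normalizer_of_conj_le fun x hx => ?_⟩
    have a2 := K_norm hP.std a1 (hP.syl.le hx)
    obtain ⟨s', t', e'⟩ := hy (th D g x)
    rw [inj _ (r _).2 _ hx (hr _)] at e'
    obtain ⟨t'', a3⟩ := (inv_mem (fW u).1).2 _ (r s').2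
    have a4 : (f u)⁻¹ * y * x * ((f u)⁻¹ * y)⁻¹ = r s' * D.xv (t'' + t') := by
      calc _ = (f u)⁻¹ * (y * x * y⁻¹) * f u := by group
        _ = (f u)⁻¹ * r s' * (f u)⁻¹⁻¹ * ((f u)⁻¹ * (D.xv t' * f u)) := by rw [e']; group
        _ = _ := by rw [a3, ← (fW u).1.1, h.vv]; group
    rw [a4] at a2 ⊢
    rw [KV hP (k := D.xv _) (by simpa using mul_mem (inv_mem (hP.syl.le (r s').2)) a2) (xv_V _),
      mul_one]
    exact (r s').2
  · have := conj_comm ht D.rho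
    rwa [K_comm hk rho_A, mul_inv_cancel_right, ← hf] at this

end Cfsg.Agent.H72.ASWA

/-- The translations of `E = R V`. -/
theorem Cfsg.Agent.H72.ASWA.wa.{u} : Cfsg.Agent.H42.AS.WAStmt.{u} :=
  fun _ _ _ _ _ hF hP => Cfsg.Agent.H72.ASWA.exists_wa hF hP
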