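import Mathlib
import Cfsg.Agent.H72.ASWA
import Cfsg.Agent.H42.ASDefs2

/-! The double of `V` in the rank one case (project AS). -/

set_option autoImplicit false

namespace Cfsg.Agent.H72.ASRA

open Cfsg Subgroup Cfsg.Agent.H28 Cfsg.Agent.H42.AS Cfsg.Agent.H72.ASB Cfsg.Agent.H86.U3
  Cfsg.Agent.H86.Dbl
open Cfsg.Agent.H72.ASWA (WW th th_spec th_eq th_mul th_odd II II_K II_conj cV f4_fpf f4_ind)
open scoped commutatorElement

universe u

local instance factTwoRA : Fact (Nat.Prime 2) := ⟨Nat.prime_two⟩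

variable {G : Type u} [Group G] {D : RD G} {R : Subgroup G}

/-- What the translation argument uses about `R`. -/
structure GD (D : RD G) (R : Subgroup G) : Prop where
  le : R ≤ D.K
  sq : ∀ x ∈ R, x * x = 1
  ne : ∃ x ∈ R, x ≠ 1
  te : ∀ x ∈ R, x ≠ 1 → ∀ g, g * x * g⁻¹ = x → g ∈ normalizer (D.A : Set G)
  two : ∀ k ∈ D.K, (∀ x ∈ R, k * x = x * k) → ∀ n, k ^ 2 ^ n = 1 → k ∈ R

theorem KV (h : D.Rel) {k : G} (hk : k ∈ D.K) (hv : k ∈ D.V) : k = 1 := by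
  obtain ⟨t, rfl⟩ := (mem_V h).1 hv
  have := K_comm hk rho_A
  rw [h.rv, mul_left_inj] at this
  rw [om_fix t (v_inj h this), v0 h]

theorem AK (hF : D.Fa) {a : G} (ha : a ∈ D.A) (hk : a ∈ D.K) : a = 1 :=
  KV hF.rel hk (hF.par.cQA a (hF.glob.centV 1 one_ne_zero a ha (K_comm hk (xv_A hF.rel 1)).symm)
    fun _ hq => (K_comm hk (P_A hF.rel (Q_P hq))).symm)

variable (hF : D.Fa) (hP : GD D R)
include hP

theorem R_comm {x y : G} (hx : x ∈ R) (hy : y ∈ R) : x * y = y * x := comm_of_sq hP.sq hx hy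

theorem RC {x a : G} (hx : x ∈ R) (ha : a ∈ D.A) : a * x = x * a := K_comm (hP.le hx) ha

include hF

theorem rho_WW {y : G} (hy : y ∈ WW hF.rel R) : D.rho * y * D.rho⁻¹ ∈ WW hF.rel R ∧
    ∀ x ∈ R, th D (D.rho * y * D.rho⁻¹) x = om ^ 2 * th D y x := by
  have h1 : ∀ x ∈ R, D.rho * y * D.rho⁻¹ * x * (D.rho * y * D.rho⁻¹)⁻¹ =
      x * D.xv (om ^ 2 * th D y x) := fun x hx => by
    calc _ = D.rho * (y * (D.rho⁻¹ * x) * D.rho * y⁻¹) * D.rho⁻¹ := by group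
      _ = D.rho * x * D.xv (th D y x) * D.rho⁻¹ := by
        rw [RC hP hx (inv_mem rho_A), mul_assoc D.rho x, ← th_spec hy hx]; group
      _ = _ := by rw [RC hP hx rho_A, mul_assoc x, hF.rel.rv]; group
  refine ⟨⟨fun t => ?_, fun x hx => ⟨_, h1 x hx⟩⟩, fun x hx => th_eq hF.rel (h1 x hx)⟩
  have h2 := conj_of_eq (hF.rel.rv (om * t))
  rw [← mul_assoc, ← pow_succ, om_cube, one_mul] at h2
  rw [← h2]
  exact conj_comm (hy.1 _) _

theorem P_WW {p : G} (hp : p ∈ D.P) : p ∈ WW hF.rel R ∧ ∀ x ∈ R, th D p x = 0 :=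
  have h1 : ∀ x ∈ R, p * x * p⁻¹ = x * D.xv 0 := fun x hx => by
    rw [RC hP hx (P_A hF.rel hp), v0 hF.rel]; group
  ⟨⟨P_v hF.rel hp, fun x hx => ⟨0, h1 x hx⟩⟩, fun x hx => th_eq hF.rel (h1 x hx)⟩

variable [Finite G]

theorem ker0 {y x : G} (hy : y ∈ WW hF.rel R) (hx : x ∈ R) (h1 : x ≠ 1) (e : th D y x = 0) :
    ∃ k ∈ D.K, (∀ x ∈ R, k * x = x * k) ∧ ∃ p ∈ D.P, y = k * p := by
  have h2 := th_spec hy hx
  rw [e, v0 hF.rel, mul_one] at h2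
  obtain ⟨k, hk, p, hp, rfl⟩ := cV hF (hP.te x hx h1 _ h2) hy.1
  refine ⟨k, hk, fun x hx => ?_, p, hp, rfl⟩
  have h3 := th_spec hy hx
  rw [mul_assoc k p, RC hP hx (P_A hF.rel hp), show k * (x * p) * (k * p)⁻¹ = k * x * k⁻¹ by group]
    at h3
  have h4 := KV hF.rel (mul_mem (inv_mem (hP.le hx)) (mul_mem (mul_mem hk (hP.le hx))
    (inv_mem hk))) (by rw [h3, inv_mul_cancel_left]; exact xv_V _)
  rw [inv_mul_eq_one] at h4
  exact mul_inv_eq_iff_eq_mul.1 h4.symm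

/-- a 2-element of `C_K(R) P` lies in `R P` -/
theorem two_elt {k p : G} (hk : k ∈ D.K) (h1 : ∀ x ∈ R, k * x = x * k) (hp : p ∈ D.P) {n : ℕ}
    (hn : (k * p) ^ 2 ^ n = 1) : k ∈ R := by
  rw [(Commute.symm (K_comm hk (P_A hF.rel hp))).mul_pow] at hn
  exact hP.two k hk h1 n (AK hF (by
    rw [eq_inv_of_mul_eq_one_left hn]; exact inv_mem (pow_mem (P_A hF.rel hp) _))
    (pow_mem hk (2 ^ n)))

theorem WW_P {y : G} (hy : y ∈ WW hF.rel R) : ∀ p ∈ D.P, y * p * y⁻¹ ∈ D.P := by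
  let RP : Subgroup G :=
    { carrier := {g | ∃ x ∈ R, ∃ p ∈ D.P, g = x * p}
      one_mem' := ⟨1, one_mem _, 1, one_mem _, (one_mul 1).symm⟩
      mul_mem' := by
        rintro _ _ ⟨x, hx, p, hp, rfl⟩ ⟨x', hx', p', hp', rfl⟩
        exact ⟨_, mul_mem hx hx', _, mul_mem hp hp', by
          rw [mul_assoc, ← mul_assoc p, RC hP hx' (P_A hF.rel hp)]; group⟩
      inv_mem' := by
        rintro _ ⟨x, hx, p, hp, rfl⟩
        exact ⟨_, inv_mem hx, _, inv_mem hp, by rw [← RC hP hx (P_A hF.rel hp), mul_inv_rev]⟩ }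
  obtain ⟨x₀, h0, h1⟩ := hP.ne
  have key : ∀ i ∈ D.P, i * i = 1 → i ∈ RP.comap (MulAut.conj y).toMonoidHom := fun i hi e => by
    have h2 := (P_WW hF hP hi)
    obtain ⟨k, hk, h3, p, hp, h4⟩ := ker0 hF hP (mul_mem (mul_mem hy h2.1) (inv_mem hy)) h0 h1 (by
      rw [on_conj (f := fun y => th D y x₀) (th_mul h0) hy h2.1, h2.2 _ h0])
    exact ⟨k, two_elt hF hP hk h3 hp (n := 1) (by rw [← h4, pow_one, pow_two, conj_sq e]), p, hp, h4⟩
  have h2 : D.P ≤ RP.comap (MulAut.conj y).toMonoidHom := P_ind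
    (fun t => key _ (L_P (xa_L t)) (sq_of_add hF.rel.aa t))
    (fun t => key _ (Q_P (xb_Q t)) (sq_of_add hF.rel.bb t))
    (fun t => key _ (Q_P (xc_Q t)) (sq_of_add hF.rel.cc t))
    (fun t => key _ (Q_P (xd_Q t)) (sq_of_add hF.rel.dd t))
    (fun t => key _ (Q_P (xe_Q t)) (sq_of_add hF.rel.ee t))
    (fun t => key _ (Q_P (xv_Q t)) (sq_of_add hF.rel.vv t)) (key _ (L_P na_L) hF.rel.na2)
  have h3 : ⁅D.P, D.P⁆ ≤ D.P.comap (MulAut.conj y).toMonoidHom := commutator_le.2 fun a ha b hb => by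
    obtain ⟨x, hx, p, hp, e⟩ := h2 ha
    obtain ⟨x', hx', p', hp', e'⟩ := h2 hb
    rw [mem_comap, map_commutatorElement, e, e', commutatorElement_def]
    have c1 : ∀ g ∈ RP, g * x = x * g := by
      rintro _ ⟨u, hu, q, hq, rfl⟩
      rw [mul_assoc, RC hP hx (P_A hF.rel hq), ← mul_assoc, R_comm hP hu hx, mul_assoc]
    have c2 := RC hP hx' (P_A hF.rel hp)
    have c3 := RC hP hx' (P_A hF.rel (mul_mem (mul_mem hp hp') (inv_mem hp)))
    have c4 := RC hP hx' (P_A hF.rel hp')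
    have c5 := c1 (p * (x' * p') * p⁻¹) (mul_mem (mul_mem ⟨1, one_mem _, p, hp, (one_mul p).symm⟩
      ⟨x', hx', p', hp', rfl⟩) ⟨1, one_mem _, _, inv_mem hp, (one_mul _).symm⟩)
    have : x * p * (x' * p') * (x * p)⁻¹ * (x' * p')⁻¹ = p * p' * p⁻¹ * p'⁻¹ := by
      calc _ = x * (p * (x' * p') * p⁻¹) * x⁻¹ * (x' * p')⁻¹ := by group
        _ = p * x' * p' * p⁻¹ * (x' * p')⁻¹ := by rw [← c5]; group
        _ = x' * (p * p' * p⁻¹) * (p' * x')⁻¹ := by rw [c2, c4]; group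
        _ = _ := by rw [← c3]; group
    rw [this]
    exact mul_mem (mul_mem (mul_mem hp hp') (inv_mem hp)) (inv_mem hp')
  exact fun p hp => h3 (hF.par.perfP.symm ▸ hp)

theorem WW_Q {y : G} (hy : y ∈ WW hF.rel R) : ∀ p ∈ D.QA, y * p * y⁻¹ ∈ D.QA :=
  cjs_le.1 (hF.par.o2P _ (cjs_le.2 fun q hq => WW_P hF hP hy q (Q_P hq))
    (fun p hp => H86.mem_normalizer_of_conj_le (forall_cjs.2 fun q hq => mem_cjs.2 (by
      have := P_Q hF.rel (conj_inv_mem (WW_P hF hP hy) hp) q hq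
      rwa [show y⁻¹ * p * y * q * (y⁻¹ * p * y)⁻¹ = y⁻¹ * (p * (y * q * y⁻¹) * p⁻¹) * y by group]
        at this))) (cjs_isPGroup (Q_two hF.rel) y))

theorem mem_II {k x : G} (hk : k ∈ D.K) (h1 : Odd (orderOf k)) (hx : x ∈ R) (h2 : x ≠ 1)
    (e : k * x = x * k) : k ∈ II hF.rel R := fun y hy => by
  obtain ⟨k', hk', p, hp, h3⟩ := cV hF (g := y * k * y⁻¹) (hP.te x hx h2 _
    (by
      have h3 := th_spec (inv_mem hy) hx
      have h4 : k * (y⁻¹ * x * y⁻¹⁻¹) = y⁻¹ * x * y⁻¹⁻¹ * k := by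
        rw [h3, ← mul_assoc, e, mul_assoc, ← K_comm hk (xv_A hF.rel _), mul_assoc]
      rw [show y * k * y⁻¹ * x * (y * k * y⁻¹)⁻¹ = y * (k * (y⁻¹ * x * y⁻¹⁻¹)) * k⁻¹ * y⁻¹ by group,
        h4, show y * (y⁻¹ * x * y⁻¹⁻¹ * k) * k⁻¹ * y⁻¹ = x by group]))
    fun t => ((Commute.mul_left (hy.1 t) (K_comm hk (xv_A hF.rel t)).symm).mul_left
      (Commute.inv_left (hy.1 t))).eq
  have h4 := hF.par.cQA p hp fun q hq => by
    have h4 := conj_comm (K_comm hk (P_A hF.rel (conj_inv_mem (WW_P hF hP hy) (Q_P hq)))) y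
    rw [h3, show y * (y⁻¹ * q * y) * y⁻¹ = q by group, ← mul_assoc,
      K_comm hk' (P_A hF.rel (Q_P hq)), mul_assoc, mul_assoc] at h4
    exact (mul_left_cancel h4).symm
  have h5 : (k' * p) ^ orderOf k = 1 := by rw [← h3, conj_pow, pow_orderOf_eq_one]; group
  rw [(Commute.symm (K_comm hk' (P_A hF.rel hp))).mul_pow, odd_pow_of_sq (V_sq hF.rel h4) h1] at h5
  rw [h3, KV hF.rel (k := p) (by rw [eq_inv_of_mul_eq_one_right h5]; exact inv_mem (pow_mem hk' _)) h4,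
    mul_one]
  exact hk'

theorem exists_w (hw0 : ∃ w ∈ WW hF.rel R, ∃ x ∈ R, th D w x ≠ 0) :
    ∃ w ∈ WW hF.rel R, (∃ n, w ^ 2 ^ n = 1) ∧ w * D.y5 = D.y5 * w ∧
    (∀ k ∈ II hF.rel R, w * k = k * w) ∧ ∃ x ∈ R, th D w x ≠ 0 := by
  obtain ⟨w, hw, x, hx, h0⟩ := hw0
  have : Fact (Nat.Prime 5) := ⟨by norm_num⟩
  have h1 : D.y5 ≠ 1 := fun e => by
    obtain ⟨i, hi⟩ := hF.par.fy (D.xb 1) (xb_Q 1) fun hv => by
      obtain ⟨t, ht⟩ := (mem_V hF.rel).1 hv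
      have := (hF.rel.nf 0 1 0 0 0 t (by
        rw [one_of_add hF.rel.aa, one_of_add hF.rel.cc, one_of_add hF.rel.dd, one_of_add hF.rel.ee,
          ht]; simpa using v_sq hF.rel t)).2.1
      exact one_ne_zero this
    exact hi (by rw [e]; simpa using Commute.refl _)
  have h2 : Nat.card (zpowers D.y5) = 5 := by rw [Nat.card_zpowers, orderOf_eq_prime hF.rel.y55 h1]
  have h3 : H8.IsSylowIn 5 (zpowers D.y5) D.P := ⟨zpowers_le.2 y5_P, IsPGroup.of_card (n := 1) h2, by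
    have := H8.card_eq_card_mul_relIndex (zpowers_le.2 (y5_P (D := D)))
    rw [hF.par.cardP, h2] at this
    omega⟩
  obtain ⟨p, hp, n, hn, rfl⟩ := h3.frattini (H86.mem_normalizer_of_conj_le (WW_P hF hP hw))
  have h4 := P_WW hF hP hp
  have h5 : n ∈ WW hF.rel R := by simpa using mul_mem (inv_mem h4.1) hw
  rw [th_mul hx p h4.1 n h5, h4.2 x hx, zero_add] at h0
  have h6 := rho_WW hF hP h5
  have h7 := mul_mem (inv_mem h5) h6.1
  have key : ∀ a, D.rho⁻¹ * a = a * D.rho⁻¹ → D.rho * (n * a * n⁻¹) = n * a * n⁻¹ * D.rho →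
      n⁻¹ * (D.rho * n * D.rho⁻¹) * a = a * (n⁻¹ * (D.rho * n * D.rho⁻¹)) := fun a a1 a2 => by
    calc _ = n⁻¹ * D.rho * n * (D.rho⁻¹ * a) := by group
      _ = n⁻¹ * (D.rho * (n * a * n⁻¹)) * n * D.rho⁻¹ := by rw [a1]; group
      _ = _ := by rw [a2]; group
  obtain ⟨m, j, hm, h8⟩ := exists_two_part (n⁻¹ * (D.rho * n * D.rho⁻¹))
  refine ⟨_, pow_mem h7 m, ⟨j, h8⟩, (Commute.pow_left (key _
    (Commute.inv_left (rho_y5 hF.rel)).eq (comm_of_mem_zpowers ((mem_normalizer_iff.1 hn _).1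
      (mem_zpowers _)) (rho_y5 hF.rel).symm).symm) m).eq, fun k hk => (Commute.pow_left (key _
    (K_comm (II_K hk) (inv_mem rho_A)) (K_comm (II_K (II_conj hk h5)) rho_A)) m).eq, x, hx, ?_⟩
  rw [th_odd hx h7 hm, th_mul hx _ (inv_mem h5) _ h6.1, h6.2 x hx,
    on_inv (f := fun y => th D y x) (th_mul hx) h5]
  exact fun e => h0 (om_fix _ (neg_add_eq_zero.1 e).symm)

theorem cent_P {w : G} (hw : w ∈ WW hF.rel R) {n : ℕ} (hn : w ^ 2 ^ n = 1)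
    (hy : w * D.y5 = D.y5 * w) : ∀ p ∈ D.P, w * p = p * w := by
  have h := hF.rel
  have cl : ∀ a ∈ D.QA, ∀ b ∈ D.QA, ∀ c ∈ D.QA, ⁅a * b, c⁆ = ⁅a, c⁆ * ⁅b, c⁆ :=
    fun a ha b hb c hc => by
      have := P_V h (Q_P ha) (Q_comm h hb hc)
      have e := P_V h (Q_P (V_Q h (Q_comm h ha hc))) (Q_comm h hb hc)
      simp only [commutatorElement_def]
      calc _ = a * (b * c * b⁻¹ * c⁻¹) * c * a⁻¹ * c⁻¹ := by group
        _ = _ := by rw [this, e]; group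
  have cr : ∀ c ∈ D.QA, ∀ a ∈ D.QA, ∀ b ∈ D.QA, ⁅c, a * b⁆ = ⁅c, a⁆ * ⁅c, b⁆ :=
    fun c hc a ha b hb => by
      have := P_V h (Q_P ha) (Q_comm h hc hb)
      simp only [commutatorElement_def]
      calc _ = c * a * c⁻¹ * a⁻¹ * (a * (c * b * c⁻¹ * b⁻¹)) * a⁻¹ := by group
        _ = _ := by rw [this]; group
  have key : ∀ n : ℕ, (∀ q ∈ D.QA, w ^ 2 ^ n * q * (w ^ 2 ^ n)⁻¹ * q⁻¹ ∈ D.V) →
      ∀ q ∈ D.QA, w * q * w⁻¹ * q⁻¹ ∈ D.V := fun n => by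
    induction n with
    | zero => simp
    | succ n ih =>
      refine fun h2 => ih fun a ha => ?_
      by_contra h3
      have hu := pow_mem hw (2 ^ n)
      have hy' := (Commute.pow_left hy (2 ^ n))
      rw [pow_succ, pow_mul, pow_two] at h2
      set u := w ^ 2 ^ n
      have h4 := WW_Q hF hP hu
      have h5 : ∀ x ∈ D.QA, ∀ y ∈ D.QA, ⁅u * x * u⁻¹, u * y * u⁻¹⁆ = ⁅x, y⁆ := fun x hx y hy => by
        obtain ⟨t, ht⟩ := (mem_V h).1 (Q_comm h hx hy)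
        simp only [commutatorElement_def]
        calc _ = u * (x * y * x⁻¹ * y⁻¹) * u⁻¹ := by group
          _ = _ := by rw [ht, hu.1, mul_inv_cancel_right]
      have h6 : ∀ x ∈ D.QA, ∀ y ∈ D.QA, ⁅u * x * u⁻¹ * x⁻¹, u * y * u⁻¹ * y⁻¹⁆ = 1 :=
        fun x hx y hy => by
          have a1 : ⁅u * x * u⁻¹, y⁻¹⁆ = ⁅x⁻¹, u * y * u⁻¹⁆ := by
            have b1 := h2 x hx
            have b2 : ∀ c ∈ D.QA, ∀ c' ∈ D.QA, ⁅c, c'⁆ * ⁅c, c'⁆ = 1 := fun c hc c' hc' =>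
              V_sq h (Q_comm h hc hc')
            have b3 := cl _ (V_Q h b1) _ hx _ (h4 y hy)
            rw [(commutatorElement_eq_one_iff_mul_comm (g₁ := u * u * x * (u * u)⁻¹ * x⁻¹)).2
              (P_V h (Q_P (h4 y hy)) b1).symm, one_mul, show u * u * x * (u * u)⁻¹ * x⁻¹ * x =
                u * (u * x * u⁻¹) * u⁻¹ by group, h5 _ (h4 x hx) y hy] at b3
            have b4 := cr _ (h4 x hx) _ hy _ (inv_mem hy)
            have b5 := cl _ hx _ (inv_mem hx) _ (h4 y hy)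
            rw [mul_inv_cancel, commutatorElement_one_right, b3] at b4
            rw [mul_inv_cancel, commutatorElement_one_left] at b5
            exact mul_left_cancel (b4.symm.trans b5)
          have a2 : ⁅x⁻¹, y⁻¹⁆ = ⁅x, y⁆ := by
            have := h5 x hx y hy
            obtain ⟨t, ht⟩ := (mem_V h).1 (Q_comm h hx hy)
            simp only [commutatorElement_def]
            calc _ = (y * x)⁻¹ * (x * y * x⁻¹ * y⁻¹) * (y * x) := by group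
              _ = _ := by rw [ht, P_v h (Q_P (inv_mem (mul_mem hy hx)))]; group
          rw [cl _ (h4 x hx) _ (inv_mem hx) _ (mul_mem (h4 y hy) (inv_mem hy)),
            cr _ (h4 x hx) _ (h4 y hy) _ (inv_mem hy), cr _ (inv_mem hx) _ (h4 y hy) _ (inv_mem hy),
            h5 x hx y hy, a1, a2, mul_assoc, ← mul_assoc ⁅x⁻¹, _⁆,
            commutatorElement_def x⁻¹, V_sq h (Q_comm h (inv_mem hx) (h4 y hy)), one_mul,
            commutatorElement_def, V_sq h (Q_comm h hx hy)]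
      obtain ⟨i, hi⟩ := hF.par.fy _ (mul_mem (h4 a ha) (inv_mem ha)) h3
      refine hi (commutatorElement_eq_one_iff_mul_comm.1 ?_)
      rw [← h6 a ha _ (P_Q h (pow_mem y5_P i) a ha)]
      congr 1
      calc _ = D.y5 ^ i * u * a * (D.y5 ^ i * u)⁻¹ * (D.y5 ^ i * a * (D.y5 ^ i)⁻¹)⁻¹ := by group
        _ = _ := by rw [← (hy'.pow_right i).eq]; group
  have h1 := key n fun q _ => by rw [hn]; simp
  have h2 : ∀ q ∈ D.QA, w * q * w⁻¹ = q := fun q hq => by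
    obtain ⟨x, hx, t, rfl⟩ := hF.par.cy q hq
    obtain ⟨s, hs⟩ := (mem_V h).1 (h1 x hx)
    have a1 : w * x * w⁻¹ = D.xv s * x := by rw [← hs]; group
    calc _ = (w * x * w⁻¹)⁻¹ * (w * D.y5) * x * (w * D.y5)⁻¹ * (w * D.xv t * w⁻¹) := by group
      _ = (w * x * w⁻¹)⁻¹ * D.y5 * (w * x * w⁻¹) * D.y5⁻¹ * D.xv t := by rw [hy, hw.1]; group
      _ = x⁻¹ * (D.xv s)⁻¹ * (D.y5 * D.xv s) * x * D.y5⁻¹ * D.xv t := by rw [a1]; group
      _ = _ := by rw [P_v h y5_P]; group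
  have h3 : ∀ p ∈ D.P, ∃ t, w * p * w⁻¹ = p * D.xv t := fun p hp => by
    obtain ⟨t, ht⟩ := (mem_V h).1 (hF.par.cQA _ (mul_mem (inv_mem hp) (WW_P hF hP hw p hp))
      fun q hq => by
        have a1 := h2 _ (P_Q h hp q hq)
        have a2 := h2 q hq
        calc _ = p⁻¹ * w * p * (w⁻¹ * q * w) * w⁻¹ := by group
          _ = p⁻¹ * (w * (p * q * p⁻¹) * w⁻¹) * (w * p * w⁻¹) := by
            nth_rewrite 1 [← a2]; group
          _ = _ := by rw [a1]; group)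
    exact ⟨t, by rw [← ht]; group⟩
  have h4 : ⁅D.P, D.P⁆ ≤ centralizer {w} := commutator_le.2 fun a ha b hb =>
    mem_centralizer_singleton_iff.2 (by
      obtain ⟨s, hs⟩ := h3 a ha
      obtain ⟨t, ht⟩ := h3 b hb
      rw [eq_comm, ← mul_inv_eq_iff_eq_mul, commutatorElement_def]
      calc _ = w * a * w⁻¹ * (w * b * w⁻¹) * (w * a * w⁻¹)⁻¹ * (w * b * w⁻¹)⁻¹ := by group
        _ = a * (D.xv s * (b * D.xv t)) * (D.xv s)⁻¹ * (a⁻¹ * (D.xv t)⁻¹) * b⁻¹ := by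
          rw [hs, ht]; group
        _ = _ := by
          rw [← P_V h (mul_mem hb (Q_P (xv_Q t))) (xv_V s), P_V h (inv_mem ha) (inv_mem (xv_V t))]
          group)
  exact fun p hp => (mem_centralizer_singleton_iff.1 (h4 (hF.par.perfP.symm ▸ hp))).symm

theorem exists_g (hw0 : ∃ w ∈ WW hF.rel R, ∃ x ∈ R, th D w x ≠ 0) :
    ∃ g ∈ WW hF.rel R, (∀ p ∈ D.P, g * p = p * g) ∧
    (∀ k ∈ II hF.rel R, g * k = k * g) ∧ (∃ x ∈ R, th D g x ≠ 0) ∧ g * g ∈ D.V ∧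
    g * (D.rho * g * D.rho⁻¹) = D.rho * g * D.rho⁻¹ * g ∧
    g * (D.rho * g * D.rho⁻¹) * (D.rho⁻¹ * g * D.rho) = 1 := by
  have h := hF.rel
  obtain ⟨w, w1, ⟨n, w2⟩, w3, w4, x, hx, w5⟩ := exists_w hF hP hw0
  obtain ⟨x₀, h0, h1⟩ := hP.ne
  set Z := WW h R ⊓ centralizer (D.P : Set G) ⊓ centralizer (II h R : Set G) with hZ
  have dec : ∀ y ∈ Z, ∀ x ∈ R, x ≠ 1 → th D y x = 0 →
      ∃ k ∈ D.K, (∀ x ∈ R, k * x = x * k) ∧ ∃ p ∈ D.V, y = k * p := fun y hy x hx a1 a2 => by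
    obtain ⟨k, hk, a3, p, hp, rfl⟩ := ker0 hF hP hy.1.1 hx a1 a2
    refine ⟨k, hk, a3, p, hF.par.cQA p hp fun q hq => ?_, rfl⟩
    have := mem_centralizer_iff.1 hy.1.2 q (Q_P hq)
    rw [← mul_assoc, K_comm hk (P_A h (Q_P hq)), mul_assoc, mul_assoc] at this
    exact (mul_left_cancel this).symm
  obtain ⟨W, hW⟩ := two_closed (N := Z) fun o ho a1 g hg => by
    obtain ⟨k, hk, a3, p, hp, e⟩ := dec o ho x₀ h0 h1 (by
      rw [← th_odd h0 ho.1.1 a1, pow_orderOf_eq_one]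
      exact on_one (f := fun y => th D y x₀) (th_mul (h := h) h0))
    have a4 : (k * p) ^ orderOf o = 1 := by rw [← e, pow_orderOf_eq_one]
    rw [(Commute.symm (K_comm hk (P_A h (Q_P (V_Q h hp))))).mul_pow,
      odd_pow_of_sq (V_sq h hp) a1] at a4
    rw [KV hF.rel (k := p) (by rw [eq_inv_of_mul_eq_one_right a4]; exact inv_mem (pow_mem hk _)) hp,
      mul_one] at e
    exact mem_centralizer_iff.1 hg.2 o (mem_II hF hP (e ▸ hk) a1 h0 h1 (e ▸ a3 x₀ h0))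
  have two : ∀ y ∈ W, ∀ x ∈ R, x ≠ 1 → th D y x = 0 → ∃ x ∈ R, ∃ p ∈ D.V, y = x * p :=
    fun y hy x hx a1 a2 => by
      obtain ⟨k, hk, a3, p, hp, e⟩ := dec y ((hW y).1 hy).1 x hx a1 a2
      obtain ⟨j, hj⟩ := ((hW y).1 hy).2
      exact ⟨k, two_elt hF hP hk a3 (Q_P (V_Q h hp)) (e ▸ hj), p, hp, e⟩
  have hWV : ∀ y ∈ W, ∀ v ∈ D.V, y * v = v * y := fun y hy v hv =>
    (mem_centralizer_iff.1 ((hW y).1 hy).1.1.2 v (Q_P (V_Q h hv))).symm
  have hsq : ∀ y ∈ W, y * y ∈ D.V := fun y hy => by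
    have a0 := ((hW y).1 hy).1.1.1
    obtain ⟨x, hx, p, hp, e⟩ := two _ (mul_mem hy hy) x₀ h0 h1 (by rw [th_mul h0 y a0 y a0, f4_add])
    by_cases a1 : x = 1
    · rwa [e, a1, one_mul]
    obtain ⟨x', hx', p', hp', e'⟩ := two y hy x hx a1 (th_eq h (by
      have a2 : x = y * y * p⁻¹ := by rw [e, mul_inv_cancel_right]
      rw [v0 h, mul_one]
      calc _ = y * y * (y * p⁻¹) * y⁻¹ := by rw [a2]; group
        _ = _ := by rw [hWV y hy _ (inv_mem hp), a2]; group))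
    rw [e', mul_assoc, ← mul_assoc p', RC hP hx' (P_A h (Q_P (V_Q h hp'))), mul_assoc, V_sq h hp',
      mul_one, hP.sq x' hx']
    exact one_mem _
  have hρ : ∀ y ∈ W, D.rho * y * D.rho⁻¹ ∈ W := fun y hy => by
    obtain ⟨⟨⟨a1, a2⟩, a3⟩, j, a4⟩ := (hW y).1 hy
    refine (hW _).2 ⟨⟨⟨(rho_WW hF hP a1).1, mem_centralizer_iff.2 fun p hp => ?_⟩,
      mem_centralizer_iff.2 fun k hk => ?_⟩, j, by rw [conj_pow, a4]; group⟩
    · obtain ⟨p, hp', rfl⟩ := conj_surj (rho_P h) hp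
      exact conj_comm (mem_centralizer_iff.1 a2 p hp') _
    · have := conj_comm (mem_centralizer_iff.1 a3 k hk) D.rho
      rwa [K_comm (II_K hk) rho_A, mul_inv_cancel_right] at this
  have hw : w ∈ W := (hW w).2 ⟨⟨⟨w1, mem_centralizer_iff.2 fun p hp =>
    (cent_P hF hP w1 w2 w3 p hp).symm⟩, mem_centralizer_iff.2 fun k hk => (w4 k hk).symm⟩, n, w2⟩
  have fix : ∀ v ∈ D.V, D.rho * v * D.rho⁻¹ = v → v = 1 := fun v hv e => by
    obtain ⟨t, rfl⟩ := (mem_V h).1 hv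
    rw [conj_of_eq (h.rv t)] at e
    rw [om_fix t (v_inj h e), v0 h]
  have r3 : D.rho * D.rho = D.rho⁻¹ := eq_inv_of_mul_eq_one_left (by rw [← h.r3, pow_three'])
  set g := w * (D.rho * w * D.rho⁻¹) with hg
  have g0 : g ∈ W := mul_mem hw (hρ w hw)
  have g1 := hρ g g0
  have g2 : D.rho⁻¹ * g * D.rho ∈ W := conj_inv_mem hρ g0
  have e1 : D.rho * (D.rho * g * D.rho⁻¹) * D.rho⁻¹ = D.rho⁻¹ * g * D.rho := by
    calc _ = D.rho * D.rho * g * (D.rho * D.rho)⁻¹ := by group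
      _ = _ := by rw [r3, inv_inv]
  have e2 : g * (D.rho * g * D.rho⁻¹) * (D.rho⁻¹ * g * D.rho) ∈ D.V := by
    have a1 := hsq _ (hρ w hw)
    have a2 := hsq _ (conj_inv_mem hρ hw)
    have a3 := mul_mem (mul_mem a1 a2) (hsq w hw)
    rw [← mul_assoc, ← hWV w hw _ (mul_mem a1 a2)] at a3
    convert a3 using 1
    calc _ = w * (D.rho * w * D.rho⁻¹ * (D.rho * w * D.rho⁻¹) * (D.rho * D.rho * w *
          (D.rho * D.rho)⁻¹ * (D.rho⁻¹ * w * D.rho))) * w := by rw [hg]; group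
      _ = _ := by rw [r3, inv_inv]
  have e3 : g * (D.rho * g * D.rho⁻¹) = D.rho * g * D.rho⁻¹ * g := by
    have a1 := comm_mem_of_sq hsq g0 g1
    rw [← mul_inv_eq_one, show g * (D.rho * g * D.rho⁻¹) * (D.rho * g * D.rho⁻¹ * g)⁻¹ =
      g * (D.rho * g * D.rho⁻¹) * g⁻¹ * (D.rho * g * D.rho⁻¹)⁻¹ by group]
    refine fix _ a1 ?_
    have a2 := hWV _ (mul_mem g1 g0) _ a1
    have a3 := hWV _ (inv_mem g1) _ e2
    rw [← e1] at a3
    have a4 : ∀ a : G, D.rho * g * D.rho⁻¹ = a → D.rho * (g * a * g⁻¹ * a⁻¹) * D.rho⁻¹ =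
        a * (D.rho * a * D.rho⁻¹) * a⁻¹ * (D.rho * a * D.rho⁻¹)⁻¹ := by rintro _ rfl; group
    rw [a4 _ rfl]
    generalize D.rho * g * D.rho⁻¹ = a at a2 a3 ⊢
    generalize D.rho * a * D.rho⁻¹ = b at a3 ⊢
    calc _ = g⁻¹ * (g * a * b * a⁻¹) * b⁻¹ := by group
      _ = (a * g)⁻¹ * (g * a * g⁻¹ * a⁻¹ * (a * g)) := by rw [← a3]; group
      _ = _ := by rw [← a2, inv_mul_cancel_left]
  refine ⟨g, ((hW g).1 g0).1.1.1, fun p hp => (mem_centralizer_iff.1 ((hW g).1 g0).1.1.2 p hp).symm,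
    fun p hp => (mem_centralizer_iff.1 ((hW g).1 g0).1.2 p hp).symm, ⟨x, hx, fun e => w5 ?_⟩,
    hsq g g0, e3, fix _ e2 ?_⟩
  · rw [hg, th_mul hx _ w1 _ (rho_WW hF hP w1).1, (rho_WW hF hP w1).2 x hx] at e
    exact om_fix _ (by rw [← add_zero (om ^ 2 * _), ← f4_add (th D w x), ← add_assoc,
      add_comm (om ^ 2 * _), e, zero_add])
  · have a1 := hWV _ g0 _ e2
    calc _ = D.rho * g * D.rho⁻¹ * (D.rho * (D.rho * g * D.rho⁻¹) * D.rho⁻¹) * g := by group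
      _ = g⁻¹ * (g * (D.rho * g * D.rho⁻¹) * (D.rho⁻¹ * g * D.rho) * g) := by rw [e1]; group
      _ = _ := by rw [← a1, inv_mul_cancel_left]

theorem exists_f (hw0 : ∃ w ∈ WW hF.rel R, ∃ x ∈ R, th D w x ≠ 0) : ∃ (f : F4 → G) (c : F4),
    f 0 = 1 ∧ (∃ x ∈ R, th D (f 1) x ≠ 0) ∧
    (∀ t, f t ∈ WW hF.rel R ∧ ∀ x ∈ R, th D (f t) x = t * th D (f 1) x) ∧
    (∀ t, ∀ p ∈ D.P, f t * p = p * f t) ∧ (∀ t s, f t * f s = f s * f t) ∧
    (∀ t, f t * f t = D.xv (c * t)) ∧ (∀ t, f t * f (om * t) * f (om ^ 2 * t) = 1) ∧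
    (∀ t, f (om ^ 2 * t) = D.rho * f t * D.rho⁻¹) ∧
    ∀ k ∈ II hF.rel R, ∀ t, f t * k = k * f t := by
  have h := hF.rel
  obtain ⟨g, g1, g2, g3, g4, g5, g6, g7⟩ := exists_g hF hP hw0
  obtain ⟨c, hc⟩ := (mem_V h).1 g5
  have r3 : D.rho * D.rho = D.rho⁻¹ := eq_inv_of_mul_eq_one_left (by rw [← h.r3, pow_three'])
  have e1 : D.rho * (D.rho * g * D.rho⁻¹) * D.rho⁻¹ = D.rho⁻¹ * g * D.rho := by
    calc _ = D.rho * D.rho * g * (D.rho * D.rho)⁻¹ := by group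
      _ = _ := by rw [r3, inv_inv]
  obtain ⟨f, f0, f1, f2, f3⟩ : ∃ f : F4 → G, f 0 = 1 ∧ f 1 = g ∧ f om = D.rho⁻¹ * g * D.rho ∧
      f (om ^ 2) = D.rho * g * D.rho⁻¹ := by
    refine ⟨fun t => if t = 0 then 1 else if t = 1 then g else if t = om then D.rho⁻¹ * g * D.rho
      else D.rho * g * D.rho⁻¹, if_pos rfl, ?_, ?_, ?_⟩ <;> beta_reduce
    · rw [if_neg (by decide), if_pos rfl]
    · rw [if_neg (by decide), if_neg (by decide), if_pos rfl]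
    · rw [if_neg (by decide), if_neg (by decide), if_neg (by decide)]
  have hf : ∀ t, f (om ^ 2 * t) = D.rho * f t * D.rho⁻¹ := fun t => by
    rcases f4_cases t with rfl | rfl | rfl | rfl
    · rw [mul_zero, f0, mul_one, mul_inv_cancel]
    · rw [mul_one, f3, f1]
    · rw [← pow_succ, om_cube, f1, f2]; group
    · rw [show om ^ 2 * om ^ 2 = om by decide, f2, f3, e1]
  have e2 : f om = (g * f (om ^ 2))⁻¹ := by rw [f2, f3]; exact eq_inv_of_mul_eq_one_right g7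
  refine ⟨f, c, f0, f1 ▸ g4, f4_ind _
    (by rw [f0]; exact ⟨one_mem _, fun x _ => th_eq h (by rw [zero_mul, v0 h]; group)⟩)
    (by rw [f1]; exact ⟨g1, fun x _ => (one_mul _).symm⟩) fun t ht => ?_,
    f4_ind _ (by simp [f0]) (f1 ▸ g2) fun t ht p hp => ?_,
    f4_ind _ (by simp [f0]) (fun s => ?_) fun t ht s => ?_,
    f4_ind _ (by rw [f0, mul_zero, v0 h, mul_one]) (by rw [f1, mul_one, hc]) fun t ht => ?_,
    f4_ind _ (by simp [f0]) ?_ fun t ht => ?_, hf,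
    fun k hk => f4_ind _ (by simp [f0]) (f1 ▸ g3 k hk) fun t ht => ?_⟩
  · rw [hf]
    exact ⟨(rho_WW hF hP ht.1).1, fun x hx => by
      rw [(rho_WW hF hP ht.1).2 x hx, ht.2 x hx, mul_assoc]⟩
  · obtain ⟨p, hp', rfl⟩ := conj_surj (rho_P h) hp
    rw [hf]
    exact conj_comm (ht p hp') _
  · rw [← f3] at g6
    rcases f4_cases s with rfl | rfl | rfl | rfl
    · simp [f0]
    · rfl
    · rw [f1, e2]
      exact ((Commute.refl g).mul_right g6).inv_right.eq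
    · rwa [f1]
  · rw [show s = om ^ 2 * (om * s) by rw [← mul_assoc, ← pow_succ, om_cube, one_mul], hf, hf]
    exact conj_comm (ht _) _
  · rw [hf, show c * (om ^ 2 * t) = om ^ 2 * (c * t) by ring, ← conj_of_eq (h.rv _), ← ht]
    group
  · rw [mul_one, mul_one, f1, e2, f3, g6]; group
  · rw [mul_left_comm om, hf (om * t), hf (om ^ 2 * t), hf t]
    calc _ = D.rho * (f t * f (om * t) * f (om ^ 2 * t)) * D.rho⁻¹ := by rw [hf t]; group
      _ = _ := by rw [ht, mul_one, mul_inv_cancel]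
  · have := conj_comm ht D.rho
    rwa [K_comm (II_K hk) rho_A, mul_inv_cancel_right, ← hf] at this

omit hF hP [Finite G] in
theorem memR {t x : G} (h : t * t = 1) (hx : x ∈ zpowers t) : x = 1 ∨ x = t := by
  obtain ⟨n, rfl⟩ := mem_zpowers_iff.1 hx
  have h2 : t ^ (2 : ℤ) = 1 := by rw [zpow_two, h]
  rcases Int.even_or_odd' n with ⟨k, rfl | rfl⟩
  · left; rw [zpow_mul, h2, one_zpow]
  · right; rw [zpow_add, zpow_mul, h2, one_zpow, zpow_one, one_mul]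

omit hP

theorem odd_O {O : Subgroup G} (hO : Odd (Nat.card O)) {o : G} (ho : o ∈ O) : Odd (orderOf o) :=
  Odd.of_dvd_nat hO (orderOf_dvd_natCard _ ho)

theorem gd {t : G} {O : Subgroup G} (hR : RP D t O) : GD D (zpowers t) where
  le := zpowers_le.2 hR.tK
  sq x hx := by rcases memR hR.t2 hx with rfl | rfl; exacts [one_mul 1, hR.t2]
  ne := ⟨t, mem_zpowers t, hR.t1⟩
  te x hx h1 g e := by
    rcases memR hR.t2 hx with rfl | rfl
    exacts [absurd rfl h1, hR.ct g (eq_mul_of_mul_inv_eq e)]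
  two k hk h1 n hn := by
    have key : ∀ o ∈ O, ∀ n, o ^ 2 ^ n = 1 → o = 1 := fun o ho n e => orderOf_eq_one_iff.1
      (((Nat.coprime_two_right.2 (odd_O hF hR.oddO ho)).pow_right n).eq_one_of_dvd
        (orderOf_dvd_of_pow_eq_one e))
    have h2 := h1 t (mem_zpowers t)
    rcases hR.cKt k hk h2 with h3 | h3
    · rw [key k h3 n hn]; exact one_mem _
    · rw [eq_inv_of_mul_eq_one_right (key _ h3 (n + 1) (by
        rw [(Commute.symm h2).mul_pow, pow_succ', pow_mul, pow_two, hR.t2, one_pow, one_mul,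
          mul_comm, pow_mul, hn, one_pow]))]
      exact inv_mem (mem_zpowers t)

theorem exists_w0 {t : G} {O : Subgroup G} (hR : RP D t O) :
    ∃ w ∈ WW hF.rel (zpowers t), ∃ x ∈ zpowers t, th D w x ≠ 0 := by
  obtain ⟨g, g2, g3⟩ := hR.mov
  have hV : ∀ t, ∃ t', g * D.xv t * g⁻¹ = D.xv t' := fun t =>
    (mem_V hF.rel).1 ((mem_normalizer_iff.1 g2 _).1 (xv_V t))
  have hV' : ∀ t, ∃ t', D.xv t = g * D.xv t' * g⁻¹ := fun t => by
    obtain ⟨t', e⟩ := (mem_V hF.rel).1 ((mem_normalizer_iff.1 (inv_mem g2) _).1 (xv_V t))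
    exact ⟨t', by rw [← e]; group⟩
  set ρ := g * D.rho * g⁻¹ with hρ
  have e1 : ∀ t, ρ * (g * D.xv t * g⁻¹) * ρ⁻¹ = g * D.xv (om ^ 2 * t) * g⁻¹ := fun t => by
    rw [← conj_of_eq (hF.rel.rv t), hρ]; group
  have h1 : ∀ t, ∃ t', ρ * D.xv t * ρ⁻¹ = D.xv t' := fun t => by
    obtain ⟨s, hs⟩ := hV' t
    rw [hs, e1]; exact hV _
  have h2 : ∀ t, ρ * D.xv t * ρ⁻¹ = D.xv t → t = 0 := fun t e => by
    obtain ⟨s, hs⟩ := hV' t
    rw [hs, e1] at e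
    rw [om_fix s (v_inj hF.rel (by simpa using e)), v0 hF.rel] at hs
    exact v_eq_one hF.rel (by simpa using hs)
  choose δ hδ using h1
  obtain ⟨u, u1, u2, s, s1, s2⟩ : ∃ u ∈ D.A, (∀ t, u * D.xv (δ t) * u⁻¹ = D.xv t) ∧
      ∃ s, s + 1 ≠ 0 ∧ u * D.xv 1 * u⁻¹ = D.xv s := by
    rcases f4_fpf δ (fun s t => v_inj hF.rel (by
      rw [hF.rel.vv, ← hδ, ← hδ, ← hδ, hF.rel.vv]; group)) (fun t e => v_eq_one hF.rel (by
        have := hδ t
        rw [e, v0 hF.rel] at this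
        simpa using this)) (fun t e => h2 t (by rw [hδ, e])) with e | e
    · exact ⟨_, rho_A, fun t => by
        rw [conj_of_eq (hF.rel.rv _), e, ← mul_assoc, ← pow_succ, om_cube, one_mul],
        _, by decide, conj_of_eq (hF.rel.rv 1)⟩
    · exact ⟨_, inv_mem rho_A, fun t => by rw [e, ← conj_of_eq (hF.rel.rv t)]; group, om, by decide,
        by rw [show (1 : F4) = om ^ 2 * om by decide, ← conj_of_eq (hF.rel.rv om)]; group⟩
  have h3 : u * ρ * t * (u * ρ)⁻¹ = t * D.xv (s + 1) := by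
    have a1 : ρ * (t * D.xv 1) * ρ⁻¹ = t * D.xv 1 := by
      calc _ = g * (D.rho * t) * D.rho⁻¹ * g⁻¹ := by rw [← g3, hρ]; group
        _ = _ := by rw [K_comm hR.tK rho_A, ← g3]; group
    calc _ = u * (ρ * t * (D.xv 1 * D.xv 1) * ρ⁻¹) * u⁻¹ := by rw [v_sq hF.rel]; group
      _ = u * (ρ * (t * D.xv 1) * ρ⁻¹) * u⁻¹ * (u * (ρ * D.xv 1 * ρ⁻¹) * u⁻¹) := by group
      _ = u * t * u⁻¹ * (u * D.xv 1 * u⁻¹) * D.xv 1 := by rw [a1, hδ, u2]; group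
      _ = _ := by rw [s2, K_comm hR.tK u1, hF.rel.vv]; group
  refine ⟨u * ρ, ⟨fun t => ?_, fun x hx => ?_⟩, t, mem_zpowers t, by rwa [th_eq hF.rel h3]⟩
  · rw [← mul_inv_eq_iff_eq_mul, show u * ρ * D.xv t * (u * ρ)⁻¹ = u * (ρ * D.xv t * ρ⁻¹) * u⁻¹ by
      group, hδ, u2]
  · rcases memR hR.t2 hx with rfl | rfl
    · exact ⟨0, by rw [v0 hF.rel]; group⟩
    · exact ⟨_, h3⟩

theorem exists_ra {t : G} {O : Subgroup G} (hR : RP D t O) : ∃ f c, RA D t O f c := by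
  have hP := gd hF hR
  obtain ⟨f, c, f0, ⟨x, hx, f1⟩, fW, fP, ff, fs, f3, fρ, fI⟩ := exists_f hF hP (exists_w0 hF hR)
  obtain rfl : x = t := (memR hR.t2 hx).resolve_left (by
    rintro rfl; exact f1 (th_eq hF.rel (by rw [v0 hF.rel]; group)))
  obtain ⟨μ, hμ⟩ := (by decide : ∀ s : F4, s ≠ 0 → ∃ u, u * s = 1) _ f1
  refine ⟨fun y => f (y * μ), c * μ, by simp [f0], fun y => fP _, fun y => ?_, fun _ _ => ff _ _,
    fun y => by rw [fs]; ring_nf, by simpa using f3 μ, fun y => by rw [mul_assoc, fρ]; group,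
    fun o ho y => (fI o (mem_II hF hP (hR.OK ho) (odd_O hF hR.oddO ho) hx hR.t1 (hR.Ot o ho)) _).symm⟩
  have := th_spec (fW (y * μ)).1 hx
  rw [(fW _).2 x hx, mul_assoc y, hμ, mul_one] at this
  exact eq_mul_of_mul_inv_eq this

end Cfsg.Agent.H72.ASRA

/-- The double of `V`. -/
theorem Cfsg.Agent.H72.ASRA.ra.{u} : Cfsg.Agent.H42.AS.RAStmt.{u} :=
  fun _ _ _ _ _ _ hF hR => Cfsg.Agent.H72.ASRA.exists_ra hF hR
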