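import Mathlib
import Cfsg.Agent.H72.ASRA

/-! The double of `Q_A`, first part: the action of `nb f nb` (project AS). -/

set_option autoImplicit false

namespace Cfsg.Agent.H72.ASRQ

open Cfsg Subgroup Cfsg.Agent.H28 Cfsg.Agent.H42.AS Cfsg.Agent.H72.ASB Cfsg.Agent.H86.U3
  Cfsg.Agent.H86.Dbl
open Cfsg.Agent.H72.ASWA (f4_ind)
open Cfsg.Agent.H72.ASRA (AK KV odd_O)
open scoped commutatorElement

universe u

variable {G : Type u} [Group G] {D : RD G}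

theorem comm_of_add {x : F4 → G} (h : ∀ t u, x (t + u) = x t * x u) (t u : F4) :
    x t * x u = x u * x t := by rw [← h, ← h, add_comm]

theorem c1 {x y : G} (h : x * y = y * x) : ⁅x, y⁆ = 1 := commutatorElement_eq_one_iff_mul_comm.2 h

section
variable (h : D.Rel)
include h

theorem cl {a b c : G} (ha : a ∈ D.QA) (hb : b ∈ D.QA) (hc : c ∈ D.QA) :
    ⁅a * b, c⁆ = ⁅a, c⁆ * ⁅b, c⁆ := by
  have := P_V h (Q_P ha) (Q_comm h hb hc)
  have e := P_V h (Q_P (V_Q h (Q_comm h ha hc))) (Q_comm h hb hc)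
  simp only [commutatorElement_def]
  calc _ = a * (b * c * b⁻¹ * c⁻¹) * c * a⁻¹ * c⁻¹ := by group
    _ = _ := by rw [this, e]; group

theorem cr {c a b : G} (hc : c ∈ D.QA) (ha : a ∈ D.QA) (hb : b ∈ D.QA) :
    ⁅c, a * b⁆ = ⁅c, a⁆ * ⁅c, b⁆ := by
  have := P_V h (Q_P ha) (Q_comm h hc hb)
  simp only [commutatorElement_def]
  calc _ = c * a * c⁻¹ * a⁻¹ * (a * (c * b * c⁻¹ * b⁻¹)) * a⁻¹ := by group
    _ = _ := by rw [this]; group

theorem cm_be (t u : F4) : ⁅D.xb t, D.xe u⁆ = D.xv (t * u) := by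
  rw [commutatorElement_def, h.be, h.ev]; group

theorem cm_cd (t u : F4) : ⁅D.xc t, D.xd u⁆ = D.xv (t * u) := by
  rw [commutatorElement_def, h.cd, h.dv]; group

theorem cm_eb (t u : F4) : ⁅D.xe u, D.xb t⁆ = D.xv (t * u) := by
  rw [← commutatorElement_inv, cm_be h, v_inv h]

theorem cm_dc (t u : F4) : ⁅D.xd u, D.xc t⁆ = D.xv (t * u) := by
  rw [← commutatorElement_inv, cm_cd h, v_inv h]

theorem cm_q {y : G} (hy : y ∈ D.QA) (t1 t2 t3 t4 t5 : F4) :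
    ⁅y, D.xb t1 * D.xc t2 * D.xd t3 * D.xe t4 * D.xv t5⁆ =
      ⁅y, D.xb t1⁆ * ⁅y, D.xc t2⁆ * ⁅y, D.xd t3⁆ * ⁅y, D.xe t4⁆ := by
  rw [cr h hy (mul_mem (mul_mem (mul_mem (xb_Q _) (xc_Q _)) (xd_Q _)) (xe_Q _)) (xv_Q _),
    cr h hy (mul_mem (mul_mem (xb_Q _) (xc_Q _)) (xd_Q _)) (xe_Q _),
    cr h hy (mul_mem (xb_Q _) (xc_Q _)) (xd_Q _), cr h hy (xb_Q _) (xc_Q _),
    c1 (P_v h (Q_P hy) _), mul_one]

theorem cm_qe (u t1 t2 t3 t4 t5 : F4) :
    ⁅D.xe u, D.xb t1 * D.xc t2 * D.xd t3 * D.xe t4 * D.xv t5⁆ = D.xv (t1 * u) := by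
  rw [cm_q h (xe_Q _), cm_eb h, c1 (h.ce _ _).symm, c1 (h.de _ _).symm, c1 (comm_of_add h.ee _ _)]
  simp

theorem cm_qd (u t1 t2 t3 t4 t5 : F4) :
    ⁅D.xd u, D.xb t1 * D.xc t2 * D.xd t3 * D.xe t4 * D.xv t5⁆ = D.xv (t2 * u) := by
  rw [cm_q h (xd_Q _), cm_dc h, c1 (h.bd _ _).symm, c1 (h.de _ _), c1 (comm_of_add h.dd _ _)]
  simp

theorem cm_qc (u t1 t2 t3 t4 t5 : F4) :
    ⁅D.xc u, D.xb t1 * D.xc t2 * D.xd t3 * D.xe t4 * D.xv t5⁆ = D.xv (u * t3) := by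
  rw [cm_q h (xc_Q _), cm_cd h, c1 (h.bc _ _).symm, c1 (h.ce _ _), c1 (comm_of_add h.cc _ _)]
  simp

theorem nf5 {t1 t2 t3 t4 t5 : F4} (e : D.xb t1 * D.xc t2 * D.xd t3 * D.xe t4 * D.xv t5 = 1) :
    t1 = 0 ∧ t2 = 0 ∧ t3 = 0 ∧ t4 = 0 ∧ t5 = 0 :=
  (h.nf 0 t1 t2 t3 t4 t5 (by rw [one_of_add h.aa, one_mul, e])).2

theorem nb_c (t : F4) : D.nb * D.xc t = D.xa t * D.nb := by
  calc _ = D.nb * (D.xc t * D.nb) * D.nb := by rw [mul_assoc, mul_assoc, h.nb2, mul_one]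
    _ = _ := by rw [← h.nba, ← mul_assoc, h.nb2, one_mul]

theorem nb_v (t : F4) : D.nb * D.xv t = D.xe t * D.nb := by
  calc _ = D.nb * (D.xv t * D.nb) * D.nb := by rw [mul_assoc, mul_assoc, h.nb2, mul_one]
    _ = _ := by rw [← h.nbe, ← mul_assoc, h.nb2, one_mul]

end

variable [Finite G] (hF : D.Fa)
include hF

/-- the centralizer of `X_c X_d X_e` in `P` -/
theorem cP {p : G} (hp : p ∈ D.P) (hc : p * D.xc 1 = D.xc 1 * p) (hd : p * D.xd 1 = D.xd 1 * p)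
    (he : p * D.xe 1 = D.xe 1 * p) : ∃ x y, p = D.xe x * D.xv y := by
  have h := hF.rel
  obtain ⟨q, hq, l, hl, rfl⟩ := hF.par.pnf p hp
  have h1 : ∀ y ∈ D.QA, q * l * y = y * (q * l) → ∃ z, l * y * l⁻¹ * y⁻¹ * D.xv z = 1 :=
    fun y hy e => by
      obtain ⟨z, hz⟩ := (mem_V h).1 (Q_comm h hy (inv_mem hq))
      refine ⟨z, ?_⟩
      calc _ = q⁻¹ * (q * l * y) * l⁻¹ * y⁻¹ * D.xv z := by group
        _ = _ := by rw [e, ← hz]; group
  have h2 : l = 1 := by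
    obtain ⟨t, u, i, e | e⟩ := hF.par.lnf l hl
    · have a1 : ∀ (i : ℕ) x, D.ha ^ i * D.xd x = D.xd (om ^ i * x) * D.ha ^ i := fun i => by
        induction i with
        | zero => simp
        | succ i ih => intro x; rw [pow_succ', mul_assoc, ih, ← mul_assoc, h.had, pow_succ']; group
      obtain ⟨z, hz⟩ := h1 _ (xd_Q 1) hd
      have a2 := nf5 h (t1 := 0) (t2 := 0) (t3 := om ^ i + 1) (t4 := t * om ^ i) (t5 := z) (by
        rw [← hz, e, mul_assoc (D.xa t), a1, mul_one, ← mul_assoc (D.xa t), h.ad, one_of_add h.bb,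
          one_of_add h.cc, h.dd, inv_of_add h.dd, one_mul, one_mul, mul_assoc (D.xd _) (D.xd 1), h.de]
        group)
      have a3 : om ^ i = 1 := by
        rw [← add_zero (om ^ i), ← f4_add 1, ← add_assoc, a2.2.2.1, zero_add]
      have a4 := a2.2.2.2.1
      rw [a3, mul_one] at a4
      rw [pow_eq_pow_mod i om_cube] at a3
      rw [e, a4, one_of_add h.aa, one_mul, pow_eq_pow_mod i h.ha3]
      have := Nat.mod_lt i (by norm_num : 3 > 0)
      generalize i % 3 = j at *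
      interval_cases j
      · exact pow_zero _
      · exact absurd a3 (by decide)
      · exact absurd a3 (by decide)
    · obtain ⟨z, hz⟩ := h1 _ (xe_Q 1) he
      have a1 := (Commute.pow_left (h.hab 1) i).eq
      refine absurd (nf5 h (t1 := 1) (t2 := t * 1) (t3 := t ^ 2 * 1) (t4 := t ^ 3 * 1 + 1)
        (t5 := t ^ 3 * 1 ^ 2 + z) ?_).1 one_ne_zero
      rw [← hz, e, mul_assoc _ (D.xa u), h.ae, ← mul_assoc, mul_assoc _ D.na, na_e h, ← mul_assoc,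
        mul_assoc (D.xa t), a1, ← mul_assoc, h.ab, h.ee, h.vv, inv_of_add h.ee]
      calc _ = D.xb 1 * D.xc (t * 1) * D.xd (t ^ 2 * 1) * D.xe (t ^ 3 * 1) *
            (D.xe 1 * D.xv (t ^ 3 * 1 ^ 2)) * D.xv z := by group
        _ = _ := by rw [h.ev]; group
  obtain ⟨t1, t2, t3, t4, t5, rfl⟩ := hF.par.qnf q hq
  rw [h2, mul_one] at hc hd he ⊢
  have a1 := v_eq_one h ((cm_qe h _ _ _ _ _ _).symm.trans (c1 he.symm))
  have a2 := v_eq_one h ((cm_qd h _ _ _ _ _ _).symm.trans (c1 hd.symm))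
  have a3 := v_eq_one h ((cm_qc h _ _ _ _ _ _).symm.trans (c1 hc.symm))
  rw [mul_one] at a1 a2
  rw [one_mul] at a3
  exact ⟨t4, t5, by rw [a1, a2, a3, one_of_add h.bb, one_of_add h.cc, one_of_add h.dd]; group⟩

variable {t : G} {O : Subgroup G} {f : F4 → G} {c : F4} (hR : RP D t O) (hA : RA D t O f c)
include hR hA

omit [Finite G] in
/-- the elements centralising `V` and moving `t` inside `t V` -/
theorem st {g : G} {x : F4} (h1 : ∀ y, g * D.xv y = D.xv y * g) (h2 : g * t = t * D.xv x * g) :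
    ∃ τ, (τ = 1 ∨ τ = t) ∧ ∃ o ∈ O, ∃ p ∈ D.P, g = f x * τ * o * p := by
  have a1 : (f x)⁻¹ * g * t = t * ((f x)⁻¹ * g) := by
    calc _ = (f x)⁻¹ * (t * D.xv x * f x) * (f x)⁻¹ * g := by rw [mul_assoc, h2]; group
      _ = _ := by rw [← hA.ft]; group
  obtain ⟨k, hk, p, hp, e⟩ := hR.cV _ (hR.ct _ a1) fun y =>
    ((Commute.inv_left (hA.fP x _ (Q_P (xv_Q y)))).mul_left (h1 y)).eq
  rw [e, mul_assoc, K_comm hR.tK (P_A hF.rel hp), ← mul_assoc, ← mul_assoc, mul_left_inj] at a1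
  rw [inv_mul_eq_iff_eq_mul] at e
  rcases hR.cKt k hk a1 with a2 | a2
  · exact ⟨1, Or.inl rfl, k, a2, p, hp, by rw [e]; group⟩
  · exact ⟨t, Or.inr rfl, _, a2, p, hp, by
      rw [e, mul_assoc (f x) t, ← mul_assoc t, hR.t2]; group⟩

omit hA in
theorem O_two {o : G} (ho : o ∈ O) {n : ℕ} (e : o ^ 2 ^ n = 1) : o = 1 :=
  eq_one_of_odd_of_two (odd_O hF hR.oddO ho) e

theorem st2 {g : G} {x : F4} (h1 : ∀ y, g * D.xv y = D.xv y * g) (h2 : g * t = t * D.xv x * g)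
    (h3 : g ^ 4 = 1) : ∃ τ, (τ = 1 ∨ τ = t) ∧ ∃ p ∈ D.P, g = f x * τ * p := by
  obtain ⟨τ, a1, o, ho, p, hp, rfl⟩ := st hF hR hA h1 h2
  have a2 : Commute (f x * τ) o := (Commute.symm (hA.fO o ho x)).mul_left (by
    rcases a1 with rfl | rfl
    exacts [Commute.one_left o, Commute.symm (hR.Ot o ho)])
  have a3 : Commute (f x * τ) p := Commute.mul_left (hA.fP x p hp) (by
    rcases a1 with rfl | rfl
    exacts [Commute.one_left p, Commute.symm (K_comm hR.tK (P_A hF.rel hp))])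
  have a4 : Commute o p := Commute.symm (K_comm (hR.OK ho) (P_A hF.rel hp))
  have a5 : (f x * τ) ^ 4 = 1 := by
    rw [show 4 = 2 * 2 by rfl, pow_mul, pow_two, pow_two]
    rcases a1 with rfl | rfl
    · rw [mul_one, hA.fsq, v_sq hF.rel]
    · have : f x * τ * (f x * τ) = D.xv (x + c * x) := by
        nth_rewrite 1 [hA.ft]
        rw [mul_assoc, ← mul_assoc (f x), hA.fsq, mul_assoc, ← mul_assoc (D.xv x),
          ← hF.rel.vv, K_comm hR.tK (xv_A hF.rel _), ← mul_assoc, hR.t2, one_mul]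
      rw [this, v_sq hF.rel]
  rw [(a3.mul_left a4).mul_pow, a2.mul_pow, a5, one_mul] at h3
  rw [O_two hF hR ho (n := 2) (AK hF (by
    rw [show 2 ^ 2 = 4 by rfl, eq_inv_of_mul_eq_one_left h3]
    exact inv_mem (pow_mem (P_A hF.rel hp) _)) (pow_mem (hR.OK ho) _)), mul_one]
  exact ⟨τ, a1, p, hp, rfl⟩

omit hR hA [Finite G] in
theorem s_inv {g : G} {β : F4} : sE D f β * g = g * sE D f β ↔
    f β * (D.nb * g * D.nb) = D.nb * g * D.nb * f β := by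
  have h := inv_of_mul_self hF.rel.nb2
  rw [sE]
  constructor <;> intro e
  · calc _ = D.nb⁻¹ * (D.nb * f β * D.nb * g) * D.nb := by group
      _ = D.nb⁻¹ * g * D.nb * f β * (D.nb * D.nb) := by rw [e]; group
      _ = _ := by rw [h, hF.rel.nb2, mul_one]
  · calc _ = D.nb * (f β * (D.nb * g * D.nb)) * D.nb⁻¹ := by group
      _ = (D.nb * D.nb) * g * D.nb * f β * D.nb⁻¹ := by rw [e]; group
      _ = _ := by rw [h, hF.rel.nb2]; group

omit hR [Finite G] in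
theorem s_P {g y : G} (hy : y ∈ D.P) (e : D.nb * g = y * D.nb) (β : F4) :
    sE D f β * g = g * sE D f β :=
  (s_inv hF).2 (by rw [e, mul_assoc y, hF.rel.nb2, mul_one]; exact hA.fP β y hy)

omit hR [Finite G] in
theorem s_a (β x : F4) : sE D f β * D.xa x = D.xa x * sE D f β :=
  s_P hF hA (Q_P (xc_Q x)) (hF.rel.nba x) β

omit hR [Finite G] in
theorem s_c (β x : F4) : sE D f β * D.xc x = D.xc x * sE D f β :=
  s_P hF hA (L_P (xa_L x)) (nb_c hF.rel x) β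

omit hR [Finite G] in
theorem s_d (β x : F4) : sE D f β * D.xd x = D.xd x * sE D f β :=
  s_P hF hA (Q_P (xd_Q x)) (hF.rel.nbd x) β

omit hR [Finite G] in
theorem s_e (β x : F4) : sE D f β * D.xe x = D.xe x * sE D f β :=
  s_P hF hA (Q_P (xv_Q x)) (hF.rel.nbe x) β

omit hR [Finite G] in
theorem s_v (β x : F4) : sE D f β * D.xv x = D.xv x * sE D f β :=
  s_P hF hA (Q_P (xe_Q x)) (nb_v hF.rel x) β

omit [Finite G] in
theorem s_O {o : G} (ho : o ∈ O) (β : F4) : sE D f β * o = o * sE D f β :=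
  (s_inv hF).2 (by
    rw [K_comm (hR.OK ho) nb_A, mul_assoc o, hF.rel.nb2, mul_one, hA.fO o ho])

omit [Finite G] in
theorem s_t (β : F4) : sE D f β * t = t * D.xe β * sE D f β := by
  rw [sE, mul_assoc, K_comm hR.tK nb_A, mul_assoc, ← mul_assoc (f β), hA.ft]
  calc _ = D.nb * t * D.xv β * f β * D.nb := by group
    _ = _ := by rw [K_comm hR.tK nb_A, mul_assoc t, nb_v hF.rel]; group

omit [Finite G] in
theorem s_conj {y : G} {β x : F4} (e : y * (t * D.xe β) = t * D.xe β * D.xv x * y) :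
    sE D f β * y * (sE D f β)⁻¹ * t = t * D.xv x * (sE D f β * y * (sE D f β)⁻¹) := by
  have a1 : sE D f β * (t * D.xe β) = t * sE D f β := by
    rw [← mul_assoc, s_t hF hR hA, mul_assoc, s_e hF hA, mul_assoc, ← mul_assoc (D.xe β),
      sq_of_add hF.rel.ee, one_mul]
  calc _ = sE D f β * y * (sE D f β)⁻¹ * (t * sE D f β) * (sE D f β)⁻¹ := by group
    _ = sE D f β * (y * (t * D.xe β)) * (sE D f β)⁻¹ := by rw [← a1]; group
    _ = sE D f β * (t * D.xe β) * D.xv x * y * (sE D f β)⁻¹ := by rw [e]; group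
    _ = _ := by rw [a1, mul_assoc t, s_v hF hA]; group

omit hF hR hA [Finite G] in
theorem s_fix {y z w : G} {β : F4} (h1 : sE D f β * z = z * sE D f β)
    (h2 : sE D f β * w = w * sE D f β) (e : y * z = w * y) :
    sE D f β * y * (sE D f β)⁻¹ * z = w * (sE D f β * y * (sE D f β)⁻¹) := by
  calc _ = sE D f β * y * (sE D f β)⁻¹ * (z * sE D f β) * (sE D f β)⁻¹ := by group
    _ = sE D f β * (y * z) * (sE D f β)⁻¹ := by rw [← h1]; group
    _ = sE D f β * w * y * (sE D f β)⁻¹ := by rw [e]; group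
    _ = _ := by rw [h2]; group

omit [Finite G] in
theorem tau_P {τ p : G} (h : τ = 1 ∨ τ = t) (x : F4) (hp : p ∈ D.P) :
    f x * τ * p = p * (f x * τ) := (Commute.mul_left (hA.fP x p hp) (by
  rcases h with rfl | rfl
  exacts [Commute.one_left p, Commute.symm (K_comm hR.tK (P_A hF.rel hp))])).eq

theorem g2_form (β u : F4) : ∃ τ, (τ = 1 ∨ τ = t) ∧ ∃ x y,
    sE D f β * f u * (sE D f β)⁻¹ = f u * τ * (D.xe x * D.xv y) := by
  have h := hF.rel
  obtain ⟨τ, a1, p, hp, e⟩ := st2 hF hR hA (g := sE D f β * f u * (sE D f β)⁻¹) (x := u)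
    (fun y => s_fix (s_v hF hA β y) (s_v hF hA β y) (hA.fP u _ (Q_P (xv_Q y))))
    (s_conj hF hR hA (by
      rw [← mul_assoc, hA.ft, mul_assoc, hA.fP u _ (Q_P (xe_Q β)), mul_assoc t (D.xe β), h.ev]
      group)) (by
      rw [conj_pow, show 4 = 2 * 2 by rfl, pow_mul, pow_two, pow_two, hA.fsq, v_sq h]; group)
  have a2 : ∀ z ∈ D.QA, sE D f β * z = z * sE D f β → p * z = z * p := fun z hz a => by
    have := s_fix a a (hA.fP u z (Q_P hz))
    rwa [e, ← mul_assoc, ← tau_P hF hR hA a1 u (Q_P hz), mul_assoc _ p, mul_assoc _ z,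
      mul_right_inj] at this
  obtain ⟨x, y, rfl⟩ := cP hF hp (a2 _ (xc_Q 1) (s_c hF hA β 1)) (a2 _ (xd_Q 1) (s_d hF hA β 1))
    (a2 _ (xe_Q 1) (s_e hF hA β 1))
  exact ⟨τ, a1, x, y, e⟩

theorem g1_form (β u : F4) : ∃ τ, (τ = 1 ∨ τ = t) ∧ ∃ x y,
    sE D f β * D.xb u * (sE D f β)⁻¹ = f (u * β) * τ * (D.xb u * (D.xe x * D.xv y)) := by
  have h := hF.rel
  obtain ⟨τ, a1, p, hp, e⟩ := st2 hF hR hA (g := sE D f β * D.xb u * (sE D f β)⁻¹) (x := u * β)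
    (fun y => s_fix (s_v hF hA β y) (s_v hF hA β y) (h.bv u y))
    (s_conj hF hR hA (by rw [← mul_assoc, K_comm hR.tK (xb_A u), mul_assoc, h.be]; group)) (by
      rw [conj_pow, show 4 = 2 * 2 by rfl, pow_mul, pow_two, pow_two, sq_of_add h.bb]; group)
  have a2 : ∀ z ∈ D.QA, ∀ w ∈ D.QA, sE D f β * z = z * sE D f β → sE D f β * w = w * sE D f β →
      D.xb u * z = w * D.xb u → (D.xb u)⁻¹ * p * z = z * ((D.xb u)⁻¹ * p) := fun z hz w hw a a' b => by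
    have := s_fix a a' b
    rw [e, ← mul_assoc, ← tau_P hF hR hA a1 _ (Q_P hw), mul_assoc _ p, mul_assoc _ w,
      mul_right_inj] at this
    calc _ = (D.xb u)⁻¹ * (w * D.xb u) * (D.xb u)⁻¹ * p := by rw [mul_assoc, this]; group
      _ = _ := by rw [← b]; group
  obtain ⟨x, y, e'⟩ := cP hF (mul_mem (inv_mem (Q_P (xb_Q u))) hp)
    (a2 _ (xc_Q 1) _ (xc_Q 1) (s_c hF hA β 1) (s_c hF hA β 1) (h.bc u 1))
    (a2 _ (xd_Q 1) _ (xd_Q 1) (s_d hF hA β 1) (s_d hF hA β 1) (h.bd u 1))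
    (a2 _ (xe_Q 1) _ (mul_mem (xe_Q 1) (xv_Q _)) (s_e hF hA β 1)
      (Commute.mul_right (s_e hF hA β 1) (s_v hF hA β _)).eq (h.be u 1))
  exact ⟨τ, a1, x, y, by rw [e, ← e']; group⟩

omit [Finite G] in
theorem xcomm {τ τ' q q' : G} {x x' ε ε' : F4} (h1 : ε = 0 ∧ τ = 1 ∨ ε = 1 ∧ τ = t)
    (h2 : ε' = 0 ∧ τ' = 1 ∨ ε' = 1 ∧ τ' = t) (hq : q ∈ D.QA) (hq' : q' ∈ D.QA)
    (e : f x * τ * q * (f x' * τ' * q') = f x' * τ' * q' * (f x * τ * q)) :
    ⁅q, q'⁆ = D.xv (ε' * x + ε * x') := by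
  have h := hF.rel
  have a1 : ∀ {τ ε}, ε = 0 ∧ τ = 1 ∨ ε = 1 ∧ τ = t → ∀ x, τ * f x = f x * τ * D.xv (ε * x) := by
    rintro τ ε (⟨rfl, rfl⟩ | ⟨rfl, rfl⟩) x
    · rw [zero_mul, v0 h]; group
    · rw [one_mul, hA.ft, mul_assoc, hA.fP x _ (Q_P (xv_Q x)), mul_assoc, ← mul_assoc (D.xv x),
        v_sq h, one_mul]
  have a2 : τ = 1 ∨ τ = t := h1.imp And.right And.right
  have a3 : τ' = 1 ∨ τ' = t := h2.imp And.right And.right
  have a4 : τ * τ' = τ' * τ := by rcases a2 with rfl | rfl <;> rcases a3 with rfl | rfl <;> simp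
  have a5 : ∀ {τ}, τ = 1 ∨ τ = t → ∀ x, D.xv x * τ = τ * D.xv x := by
    rintro τ (rfl | rfl) x
    exacts [by simp, K_comm hR.tK (xv_A h x)]
  rw [mul_assoc _ q, ← mul_assoc q, ← tau_P hF hR hA a3 x' (Q_P hq), mul_assoc _ q', ← mul_assoc q',
    ← tau_P hF hR hA a2 x (Q_P hq')] at e
  have a6 : f x * f x' * (τ * τ') * (D.xv (ε * x') * (q * q')) =
      f x * f x' * (τ * τ') * (D.xv (ε' * x) * (q' * q)) := by
    calc _ = f x * (f x' * τ) * (τ' * D.xv (ε * x')) * q * q' := by group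
      _ = f x * (f x' * τ * D.xv (ε * x')) * τ' * q * q' := by rw [← a5 a3]; group
      _ = f x * τ * (f x' * τ' * q * q') := by rw [← a1 h1]; group
      _ = f x' * (τ' * f x) * τ * q' * q := by rw [e]; group
      _ = f x' * f x * τ' * (D.xv (ε' * x) * τ) * q' * q := by rw [a1 h2]; group
      _ = _ := by rw [a5 a2, hA.ff x, a4]; group
  rw [mul_right_inj] at a6
  rw [commutatorElement_def, add_comm, h.vv, ← v_inv h (ε * x')]
  calc _ = (D.xv (ε * x'))⁻¹ * (D.xv (ε * x') * (q * q')) * q⁻¹ * q'⁻¹ := by group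
    _ = _ := by rw [a6]; group

omit hF hR hA [Finite G] in
theorem tau_eps {τ : G} (h : τ = 1 ∨ τ = t) : ∃ ε : F4, ε = 0 ∧ τ = 1 ∨ ε = 1 ∧ τ = t :=
  h.elim (fun e => ⟨0, Or.inl ⟨rfl, e⟩⟩) fun e => ⟨1, Or.inr ⟨rfl, e⟩⟩

theorem g12 (β : F4) : (∀ u, ∃ y, sE D f β * f u * (sE D f β)⁻¹ = f u * D.xv y) ∧
    (∀ u, ∃ y, sE D f β * D.xb u * (sE D f β)⁻¹ = f (u * β) * D.xb u * D.xv y) ∧ c * β = 0 := by
  have h := hF.rel
  choose τ2 a2 x2 y2 e2 using g2_form hF hR hA β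
  choose τ1 a1 x1 y1 e1 using g1_form hF hR hA β
  choose ε2 b2 using fun u => tau_eps (a2 u)
  choose ε1 b1 using fun u => tau_eps (a1 u)
  have q2 : ∀ u, D.xe (x2 u) * D.xv (y2 u) ∈ D.QA := fun u => mul_mem (xe_Q _) (xv_Q _)
  have q3 : ∀ u, D.xe (x1 u) * D.xv (y1 u) ∈ D.QA := fun u => mul_mem (xe_Q _) (xv_Q _)
  have q1 : ∀ u, D.xb u * (D.xe (x1 u) * D.xv (y1 u)) ∈ D.QA := fun u => mul_mem (xb_Q _) (q3 u)
  have ev : ∀ x y x' y', ⁅D.xe x * D.xv y, D.xe x' * D.xv y'⁆ = 1 := fun x y x' y' => c1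
    ((Commute.mul_right (comm_of_add h.ee _ _) (h.ev _ _)).mul_left
      (Commute.mul_right (h.ev _ _).symm (comm_of_add h.vv _ _))).eq
  have bev : ∀ u x y, ⁅D.xb u, D.xe x * D.xv y⁆ = D.xv (u * x) := fun u x y => by
    rw [cr h (xb_Q _) (xe_Q _) (xv_Q _), cm_be h, c1 (h.bv _ _), mul_one]
  have c2 : ∀ u, ε2 u = 0 := fun u => by
    obtain ⟨u', hu⟩ := (by decide : ∀ u : F4, ∃ u' : F4, ∀ ε ε' : F4, ε = 0 ∨ ε = 1 →
      ε' = 0 ∨ ε' = 1 → ε' * u + ε * u' = 0 → ε = 0) u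
    refine hu _ (ε2 u') ((b2 u).imp And.left And.left) ((b2 u').imp And.left And.left)
      (v_eq_one h ?_)
    rw [← xcomm hF hR hA (b2 u) (b2 u') (q2 u) (q2 u') (by
      rw [← e2, ← e2]; exact conj_comm (hA.ff u u') _), ev]
  have c3 : ∀ u u', u * x2 u' = ε1 u * u' := fun u u' => v_inj h (by
    have := xcomm hF hR hA (b1 u) (b2 u') (q1 u) (q2 u') (by
      rw [← e1, ← e2]; exact conj_comm (hA.fP u' _ (Q_P (xb_Q u))).symm _)
    rwa [c2, zero_mul, zero_add, cl h (xb_Q _) (q3 u) (q2 u'), ev, bev, mul_one] at this)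
  have c4 : x2 1 = 0 := (by decide : ∀ x ε ε' : F4, ε = 0 ∨ ε = 1 → ε' = 0 ∨ ε' = 1 →
    1 * x = ε * 1 → om * x = ε' * 1 → x = 0) _ _ _ ((b1 1).imp And.left And.left)
      ((b1 om).imp And.left And.left) (c3 1 1) (c3 om 1)
  have c5 : ∀ u, ε1 u = 0 := fun u => by simpa [c4] using (c3 u 1).symm
  have c6 : ∀ u, x2 u = 0 := fun u => by simpa [c5] using c3 1 u
  have t1 : ∀ u, τ1 u = 1 := fun u => ((b1 u).resolve_right fun e =>
    zero_ne_one ((c5 u).symm.trans e.1)).2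
  have t2 : ∀ u, τ2 u = 1 := fun u => ((b2 u).resolve_right fun e =>
    zero_ne_one ((c2 u).symm.trans e.1)).2
  have c7 : ∀ u, u * x1 1 + x1 u = 0 := fun u => v_eq_one h (by
    have := xcomm hF hR hA (b1 u) (b1 1) (q1 u) (q1 1) (by
      rw [← e1, ← e1]; exact conj_comm (comm_of_add h.bb u 1) _)
    rwa [c5, c5, zero_mul, zero_mul, zero_add, v0 h, cl h (xb_Q _) (q3 u) (q1 1),
      cr h (xb_Q _) (xb_Q _) (q3 1), cr h (q3 u) (xb_Q _) (q3 1), ev, c1 (comm_of_add h.bb u 1), bev,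
      ← commutatorElement_inv, bev, v_inv h, one_mul, mul_one, ← h.vv, one_mul] at this)
  have c8 : ∀ u, c * (u * β) + u * x1 u = 0 := fun u => v_eq_one h (by
    have := conj_sq (sq_of_add h.bb u) (sE D f β)
    rw [e1, t1, mul_one, mul_assoc, ← mul_assoc _ (f _), ← hA.fP _ _ (Q_P (q1 u)), mul_assoc,
      ← mul_assoc, hA.fsq] at this
    rw [← this, h.vv, mul_right_inj, ← bev u _ (y1 u), commutatorElement_def, inv_of_add h.bb,
      mul_inv_rev, v_inv h, inv_of_add h.ee, ← h.ev]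
    group)
  obtain ⟨c9, c10⟩ := (by decide : ∀ a x y : F4, a + 1 * x = 0 → om * a + om * y = 0 →
    om * x + y = 0 → a = 0 ∧ x = 0) (c * β) (x1 1) (x1 om) (by simpa using c8 1)
      (by rw [← c8 om]; ring) (c7 om)
  refine ⟨fun u => ⟨y2 u, by rw [e2, t2, c6, one_of_add h.ee]; group⟩, fun u => ⟨y1 u, ?_⟩, c9⟩
  have := c7 u
  rw [c10, mul_zero, zero_add] at this
  rw [e1, t1, this, one_of_add h.ee]; group

theorem c_zero : c = 0 := by simpa using (g12 hF hR hA 1).2.2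

theorem f_sq (x : F4) : f x * f x = 1 := by rw [hA.fsq, c_zero hF hR hA, zero_mul, v0 hF.rel]

theorem f_add (x y : F4) : f (x + y) = f x * f y := by
  have h1 := f_sq hF hR hA
  have h2 : f 1 * f om = f (om ^ 2) := by
    rw [eq_inv_of_mul_eq_one_left hA.f3, inv_of_mul_self (h1 _)]
  have h3 : f 1 * f (om ^ 2) = f om := by rw [← h2, ← mul_assoc, h1, one_mul]
  have h4 : f om * f (om ^ 2) = f 1 := by rw [← h2, hA.ff 1, ← mul_assoc, h1, one_mul]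
  rcases f4_cases x with rfl | rfl | rfl | rfl <;> rcases f4_cases y with rfl | rfl | rfl | rfl <;>
    first
    | rw [zero_add, hA.f0, one_mul]
    | rw [add_zero, hA.f0, mul_one]
    | rw [f4_add, hA.f0, h1]
    | (rw [h2]; congr 1)
    | (rw [h3]; congr 1)
    | (rw [h4]; congr 1)
    | (rw [hA.ff, h2]; congr 1)
    | (rw [hA.ff, h3]; congr 1)
    | (rw [hA.ff, h4]; congr 1)

theorem s_f (β x : F4) : sE D f β * f x = f x * sE D f β := by
  have h := hF.rel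
  obtain ⟨y, e⟩ := (g12 hF hR hA β).1 x
  obtain ⟨y', e'⟩ := (g12 hF hR hA x).1 β
  have a1 : f x * sE D f β * (f x)⁻¹ = sE D f β * D.xe y' := by
    have n := inv_of_mul_self h.nb2
    calc _ = D.nb⁻¹ * (D.nb * f x * D.nb * f β * (D.nb * f x * D.nb⁻¹)⁻¹) * D.nb⁻¹⁻¹ := by
          rw [sE]; group
      _ = D.nb * (f β * D.xv y') * D.nb := by
          rw [n, n, show D.nb * f x * D.nb = sE D f x from rfl, e']
      _ = D.nb * f β * D.nb⁻¹ * (D.nb * D.xv y') * D.nb := by group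
      _ = _ := by rw [nb_v h, n, mul_assoc, mul_assoc (D.xe _), h.nb2, mul_one, sE]
  have a2 : D.xe y' * D.xv y = 1 := by
    have a3 := eq_mul_of_mul_inv_eq e
    have a4 := eq_mul_of_mul_inv_eq a1
    rw [mul_assoc, ← hA.fP x _ (Q_P (xe_Q _)), ← mul_assoc, a3, mul_assoc (f x), ← s_v hF hA,
      mul_assoc, mul_assoc, mul_right_inj, left_eq_mul] at a4
    rw [h.ev, a4]
  have := (nf5 h (t1 := 0) (t2 := 0) (t3 := 0) (t4 := y') (t5 := y) (by
    rw [one_of_add h.bb, one_of_add h.cc, one_of_add h.dd, one_mul, one_mul, one_mul, a2])).2.2.2.2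
  rw [this, v0 h, mul_one] at e
  exact eq_mul_of_mul_inv_eq e

omit hR [Finite G] in
theorem rho_s (β : F4) : D.rho * sE D f β * D.rho⁻¹ = sE D f (om * β) := by
  have h := hF.rel
  have n := inv_of_mul_self h.nb2
  have a1 : D.ha ∈ D.P := L_P (mul_mem (mul_mem (mul_mem (mul_mem (mul_mem (xa_L _) na_L) (xa_L _))
    na_L) (xa_L _)) na_L)
  calc _ = D.nb⁻¹ * (D.nb * D.rho * D.nb * f β * (D.nb * D.rho * D.nb⁻¹)⁻¹) * D.nb⁻¹⁻¹ := by
        rw [sE]; group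
    _ = D.nb * D.rho * (D.rho * (D.ha ^ 2 * f β) * (D.ha ^ 2)⁻¹ * D.rho⁻¹) * D.rho⁻¹ * D.nb := by
        rw [n, n, h.nbr, pow_two D.rho]; group
    _ = D.nb * (D.rho * f (om ^ 2 * β) * D.rho⁻¹) * D.nb := by
        rw [← hA.fP β _ (pow_mem a1 2), ← conj_of_eq (hA.rf β)]; group
    _ = _ := by rw [conj_of_eq (hA.rf _), ← mul_assoc (om ^ 2), show om ^ 2 * om ^ 2 = om by decide, sE]

theorem s_sq (β : F4) : sE D f β * sE D f β = 1 := by
  have := conj_sq (f_sq hF hR hA β) D.nb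
  rwa [inv_of_mul_self hF.rel.nb2] at this

theorem s_b1 (β : F4) : sE D f β * D.xb 1 * (sE D f β)⁻¹ = f β * D.xb 1 := by
  have h := hF.rel
  have n := inv_of_mul_self h.nb2
  obtain ⟨y, e⟩ := (g12 hF hR hA β).2.1 1
  rw [one_mul] at e
  set σ := D.nb * D.xb 1 with hσ
  have a0 : ∀ z, σ * z * σ⁻¹ = D.nb * (D.xb 1 * z * (D.xb 1)⁻¹) * D.nb := fun z => by
    rw [hσ, mul_inv_rev, n]; group
  have a1 : σ * f β * σ⁻¹ = sE D f β := by
    rw [a0, ← hA.fP β _ (Q_P (xb_Q 1)), mul_inv_cancel_right, sE]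
  have a2 : σ * sE D f β * σ⁻¹ = f β * D.xe y * sE D f β := by
    have : D.xb 1 * sE D f β * (D.xb 1)⁻¹ = sE D f β * D.xv y * f β := by
      calc _ = sE D f β * (sE D f β * D.xb 1 * (sE D f β)⁻¹) * (D.xb 1)⁻¹ := by
            rw [← mul_assoc, ← mul_assoc, s_sq hF hR hA, inv_of_mul_self (s_sq hF hR hA β), one_mul]
        _ = _ := by rw [e, mul_assoc (f β), h.bv, ← mul_assoc (f β), hA.fP β _ (Q_P (xv_Q _))]; group
    rw [a0, this]
    calc _ = D.nb * D.nb * f β * (D.nb * D.xv y) * f β * D.nb := by rw [sE]; group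
      _ = _ := by rw [h.nb2, nb_v h, sE]; group
  have a3 : σ * D.xe y * σ⁻¹ = D.xv y * D.xe y := by
    rw [a0, conj_of_eq (h.be 1 y), one_mul, ← mul_assoc, h.nbe, mul_assoc (D.xv y), nb_v h,
      mul_assoc, mul_assoc, h.nb2, mul_one]
  have a4 : f β = sE D f β * (D.xv y * D.xe y) * (f β * D.xe y * sE D f β) := by
    calc _ = σ ^ 3 * f β * (σ ^ 3)⁻¹ := by rw [h.nb3]; group
      _ = σ * (σ * (σ * f β * σ⁻¹) * σ⁻¹) * σ⁻¹ := by rw [pow_three]; group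
      _ = σ * (f β * D.xe y * sE D f β) * σ⁻¹ := by rw [a1, a2]
      _ = σ * f β * σ⁻¹ * (σ * D.xe y * σ⁻¹) * (σ * sE D f β * σ⁻¹) := by group
      _ = _ := by rw [a1, a2, a3]
  rw [hA.fP β _ (Q_P (xe_Q y)), mul_assoc (D.xe y), ← s_f hF hR hA, mul_assoc, mul_assoc,
    ← mul_assoc (D.xe y), sq_of_add h.ee, one_mul, ← mul_assoc, s_v hF hA, mul_assoc,
    ← mul_assoc (sE D f β), s_sq hF hR hA, one_mul, right_eq_mul] at a4
  rw [e, a4, mul_one]

theorem s_b (β x : F4) : sE D f β * D.xb x = f (β * x) * D.xb x * sE D f β := by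
  have h := hF.rel
  have step : ∀ x, (∀ β, sE D f β * D.xb x * (sE D f β)⁻¹ = f (β * x) * D.xb x) →
      ∀ β, sE D f β * D.xb (om * x) * (sE D f β)⁻¹ = f (β * (om * x)) * D.xb (om * x) :=
    fun x hx β => by
      rw [show β = om * (om ^ 2 * β) by rw [← mul_assoc, ← pow_succ', om_cube, one_mul],
        ← rho_s hF hA, show om * (om ^ 2 * β) * (om * x) = om ^ 2 * (om ^ 2 * β * x) by ring,
        ← conj_of_eq (hA.rf _), ← conj_of_eq (h.rb x)]
      calc _ = D.rho * (sE D f (om ^ 2 * β) * D.xb x * (sE D f (om ^ 2 * β))⁻¹) * D.rho⁻¹ := by group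
        _ = _ := by rw [hx]; group
  refine eq_mul_of_mul_inv_eq (f4_ind (fun x => ∀ β, sE D f β * D.xb x * (sE D f β)⁻¹ =
    f (β * x) * D.xb x) (fun β => ?_) (fun β => by rw [mul_one, s_b1 hF hR hA]) (fun x hx => ?_) x β)
  · rw [mul_zero, hA.f0, one_of_add h.bb]; group
  · rw [pow_two, mul_assoc]; exact step _ (step _ hx)

end Cfsg.Agent.H72.ASRQ
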