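import Mathlib
import Cfsg.Agent.H72.ASRQ1
import Cfsg.Agent.H93.GT
import Cfsg.Agent.H1.Card

/-! The transfer at the end of the rank one case (project AS). -/

set_option autoImplicit false

namespace Cfsg.Agent.H72.ASREnd

open Cfsg Subgroup Cfsg.Agent.H28 Cfsg.Agent.H42.AS Cfsg.Agent.H72.ASB Cfsg.Agent.H86.U3
  Cfsg.Agent.H86.Dbl Cfsg.Agent.H72.ASRQ Cfsg.Agent.H93.GT
open Cfsg.Agent.H72.ASRA (AK memR)

universe u

local instance factTwoRE : Fact (Nat.Prime 2) := ⟨Nat.prime_two⟩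

variable {G : Type u} [Group G]

theorem memS {K : Subgroup G} {g x : G} (h1 : g ∈ normalizer (K : Set G)) (h2 : g * g = 1)
    (hx : x ∈ zpowers g ⊔ K) : x ∈ K ∨ ∃ k ∈ K, x = g * k := by
  obtain ⟨a, ha, b, hb, rfl⟩ := (H1.mem_sup_of_le_normalizer (zpowers_le.2 h1)).1 hx
  rcases memR h2 ha with rfl | rfl
  exacts [Or.inl (by rwa [one_mul]), Or.inr ⟨b, hb, rfl⟩]

theorem relIndex_two {K : Subgroup G} {g : G} (h1 : g ∈ normalizer (K : Set G)) (h2 : g * g = 1)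
    (h3 : g ∉ K) : K.relIndex (zpowers g ⊔ K) = 2 :=
  relIindex_eq_two_iff'.2 ⟨g, mem_sup_left (mem_zpowers g), fun b hb => by
    rcases memS h1 h2 hb with h | ⟨k, hk, rfl⟩
    · exact Or.inr ⟨h, fun e => h3 ((mul_mem_cancel_right h).1 e)⟩
    · exact Or.inl ⟨by rwa [← mul_assoc, h2, one_mul], fun e => h3 ((mul_mem_cancel_right hk).1 e)⟩⟩

theorem two_mul_dvd [Finite G] {X Y : Subgroup G} (h : X ≤ Y) (hY : IsPGroup 2 Y) {y : G}
    (h1 : y ∈ Y) (h2 : y ∉ X) : 2 * Nat.card X ∣ Nat.card Y := by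
  obtain ⟨n, hn⟩ := hY.index (X.subgroupOf Y)
  rw [H8.card_eq_card_mul_relIndex h, mul_comm]
  refine Nat.mul_dvd_mul_left _ ?_
  rw [relIndex, hn]
  refine dvd_pow_self 2 fun e => h2 ?_
  rw [e, pow_zero, index_eq_one, subgroupOf_eq_top] at hn
  exact hn h1

variable {D : RD G}

theorem frob_mul {x y : G} (hx : D.Frob x) (hy : D.Frob y) : x * y ∈ D.K := by
  have key : ∀ {z : F4 → G}, (∀ t, x * z t * x⁻¹ = z (t ^ 2)) → (∀ t, y * z t * y⁻¹ = z (t ^ 2)) →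
      ∀ t, z t * (x * y) = x * y * z t := fun {z} a b t => by
    rw [eq_comm, ← mul_inv_eq_iff_eq_mul, show x * y * z t * (x * y)⁻¹ = x * (y * z t * y⁻¹) * x⁻¹ by
      group, b, a, (by decide : ∀ t : F4, (t ^ 2) ^ 2 = t)]
  refine mem_centralizer_iff.2 (comm_closure ?_)
  rintro _ ((⟨t, rfl⟩ | ⟨t, rfl⟩) | rfl | rfl)
  · exact key (fun t => (hx.1 t).1) (fun t => (hy.1 t).1) t
  · exact key (fun t => (hx.1 t).2.1) (fun t => (hy.1 t).2.1) t
  · exact (Commute.mul_left hx.2.1 hy.2.1).eq.symm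
  · exact (Commute.mul_left hx.2.2 hy.2.2).eq.symm

theorem frob_K (h : D.Rel) {x k : G} (hx : D.Frob x) (hk : k ∈ D.K) : D.Frob (x * k) := by
  have key : ∀ a ∈ D.A, x * k * a * (x * k)⁻¹ = x * a * x⁻¹ := fun a ha => by
    rw [mul_assoc x, ← K_comm hk ha]; group
  refine ⟨fun t => ?_, (Commute.mul_left hx.2.1 (K_comm hk na_A).symm).eq,
    (Commute.mul_left hx.2.2 (K_comm hk nb_A).symm).eq⟩
  rw [key _ (xa_A t), key _ (xb_A t), key _ (xc_A h t), key _ (xd_A h t), key _ (xe_A h t),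
    key _ (xv_A h t)]
  exact hx.1 t

theorem A_norm : D.A ≤ normalizer (D.K : Set G) := fun a ha => mem_normalizer_iff.2 fun k =>
  ⟨fun hk => by rwa [K_comm hk ha, mul_inv_cancel_right], fun hk => by
    have := K_comm hk (inv_mem ha)
    rwa [show k = a * k * a⁻¹ by
      calc _ = a⁻¹ * (a * k * a⁻¹) * a := by group
        _ = _ := by rw [this]; group]⟩

theorem no_frob (hF : D.Fa) {x : G} (hx : x ∈ D.A ⊔ D.K) (h : D.Frob x) : False := by
  obtain ⟨a, ha, k, hk, rfl⟩ := (H1.mem_sup_of_le_normalizer A_norm).1 hx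
  have h1 := frob_K hF.rel h (inv_mem hk)
  rw [mul_inv_cancel_right] at h1
  have h3 := hF.glob.centV 1 one_ne_zero a ha (by
    rw [← mul_inv_eq_iff_eq_mul, (h1.1 1).2.2.2.2.2, one_pow])
  have h4 := (h1.1 om).2.2.2.2.2
  rw [P_v hF.rel h3, mul_inv_cancel_right] at h4
  exact absurd (v_inj hF.rel h4) (by decide)

variable [Finite G] (hF : D.Fa)
include hF

theorem card_U {X : Subgroup G} (hX : IsPGroup 2 X) (h1 : ∀ x, D.xa x ∈ X) (h2 : D.QA ≤ X) :
    2 ^ 12 ∣ Nat.card X := by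
  have h := hF.rel
  have hq : ∀ t1 t2 t3 t4 t5, D.xb t1 * D.xc t2 * D.xd t3 * D.xe t4 * D.xv t5 ∈ D.QA :=
    fun _ _ _ _ _ => mul_mem (mul_mem (mul_mem (mul_mem (xb_Q _) (xc_Q _)) (xd_Q _)) (xe_Q _)) (xv_Q _)
  have a0 : ∀ a b : F4, a + b = 0 → a = b := by decide
  have := Nat.card_le_card_of_injective (fun t : F4 × F4 × F4 × F4 × F4 × F4 =>
    (⟨D.xa t.1 * (D.xb t.2.1 * D.xc t.2.2.1 * D.xd t.2.2.2.1 * D.xe t.2.2.2.2.1 * D.xv t.2.2.2.2.2),
      mul_mem (h1 _) (h2 (hq _ _ _ _ _))⟩ : X)) (by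
    rintro ⟨t0, t1, t2, t3, t4, t5⟩ ⟨s0, s1, s2, s3, s4, s5⟩ e
    have e := congrArg Subtype.val e
    simp only at e
    obtain ⟨u1, u2, u3, u4, u5, e1⟩ := hF.par.qnf _
      (mul_mem (hq t1 t2 t3 t4 t5) (inv_mem (hq s1 s2 s3 s4 s5)))
    obtain rfl := a0 _ _ (h.nf (s0 + t0) u1 u2 u3 u4 u5 (by
      rw [h.aa, mul_assoc, mul_assoc, mul_assoc, mul_assoc, ← mul_assoc (D.xb _),
        ← mul_assoc (D.xb _ * _), ← mul_assoc (D.xb _ * _ * _), ← e1, mul_assoc, ← mul_assoc (D.xa t0),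
        e, mul_inv_cancel_right, sq_of_add h.aa])).1
    rw [mul_right_inj] at e
    have b1 := v_inj h ((cm_qe h 1 _ _ _ _ _).symm.trans (e ▸ cm_qe h 1 _ _ _ _ _))
    have b2 := v_inj h ((cm_qd h 1 _ _ _ _ _).symm.trans (e ▸ cm_qd h 1 _ _ _ _ _))
    have b3 := v_inj h ((cm_qc h 1 _ _ _ _ _).symm.trans (e ▸ cm_qc h 1 _ _ _ _ _))
    rw [mul_one, mul_one] at b1 b2
    rw [one_mul, one_mul] at b3
    subst b1 b2 b3
    rw [mul_assoc, mul_assoc _ (D.xe s4), mul_right_inj] at e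
    have b4 := nf5 h (t1 := 0) (t2 := 0) (t3 := 0) (t4 := s4 + t4) (t5 := t5 + s5) (by
      rw [one_of_add h.bb, one_of_add h.cc, one_of_add h.dd, one_mul, one_mul, one_mul, h.ee, h.vv,
        mul_assoc, ← mul_assoc (D.xe t4), e, mul_assoc, v_sq h, mul_one, sq_of_add h.ee])
    rw [a0 _ _ b4.2.2.2.1, a0 _ _ b4.2.2.2.2])
  obtain ⟨n, hn⟩ := hX.exists_card_eq
  rw [hn] at this ⊢
  simp only [Nat.card_prod, show Nat.card F4 = 4 by rw [Nat.card_eq_fintype_card]; rfl] at this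
  exact pow_dvd_pow 2 ((Nat.pow_le_pow_iff_right (by norm_num : 1 < 2)).1 (by simpa using this))

variable {t : G} {O Us : Subgroup G} (hR : RP D t O) (hU : RU D t Us)
include hR hU

omit [Finite G] in
theorem t_not : t ∉ Us := fun e => hR.t1 (AK hF (hU.cU t e rfl) hR.tK)

theorem low {H : Subgroup G} (hH : IsPGroup 2 H) (h1 : Us ≤ H) (h2 : t ∈ H) :
    2 ^ 13 ∣ Nat.card (H ⊓ centralizer {t} : Subgroup G) ∧ ∀ g ∈ H, g * t = t * g → D.Frob g →
      2 ^ 14 ∣ Nat.card (H ⊓ centralizer {t} : Subgroup G) := by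
  have a1 : 2 ^ 13 ∣ Nat.card ((D.A ⊔ D.K) ⊓ (H ⊓ centralizer {t}) : Subgroup G) :=
    (Nat.mul_dvd_mul_left 2 (card_U hF (X := D.A ⊓ H) hH.to_inf_right
      (fun x => ⟨xa_A x, h1 (hU.aU x)⟩) fun q hq => ⟨P_A hF.rel (Q_P hq), h1 (hU.qU hq)⟩)).trans
      (two_mul_dvd (fun x hx => ⟨mem_sup_left hx.1, hx.2, mem_centralizer_singleton_iff.2
        (K_comm hR.tK hx.1)⟩) hH.to_inf_left.to_inf_right (y := t) ⟨mem_sup_right hR.tK, h2,
          mem_centralizer_singleton_iff.2 rfl⟩ fun e => hR.t1 (AK hF e.1 hR.tK))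
  exact ⟨a1.trans (card_dvd_of_le inf_le_right), fun g hg e hf =>
    (Nat.mul_dvd_mul_left 2 a1).trans (two_mul_dvd inf_le_right hH.to_inf_left (y := g)
      ⟨hg, mem_centralizer_singleton_iff.2 e⟩ fun e => no_frob hF e.1 hf)⟩

omit hU in
theorem up (hA : Nat.card D.A = 251596800) : ¬ 2 ^ 15 ∣ Nat.card (centralizer {t} : Subgroup G) ∧
    (¬ 2 ^ 14 ∣ Nat.card (centralizer {t} : Subgroup G) ∨ ∃ g, g * t = t * g ∧ D.Frob g) := by
  set C0 := D.A ⊔ (zpowers t ⊔ O) with hC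
  have a1 : zpowers t ⊔ O ≤ D.K := sup_le (zpowers_le.2 hR.tK) hR.OK
  have a2 : ¬ 2 ^ 14 ∣ Nat.card C0 := fun e => by
    have b1 := H1.card_sup_dvd_of_le_normalizer (A := D.A) (B := zpowers t ⊔ O) fun a ha =>
      H86.mem_normalizer_of_conj_le fun k hk => by rwa [K_comm (a1 hk) ha, mul_inv_cancel_right]
    have b2 := H1.card_sup_dvd_of_le_normalizer (A := zpowers t) (B := O) (zpowers_le.2
      (H86.mem_normalizer_of_conj_le fun k hk => by rwa [← hR.Ot k hk, mul_inv_cancel_right]))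
    have b3 := e.trans (b1.trans (Nat.mul_dvd_mul_left _ b2))
    rw [hA, Nat.card_zpowers, orderOf_eq_prime (by rw [pow_two, hR.t2]) hR.t1, ← mul_assoc] at b3
    have := (Nat.Coprime.pow_left 14 (Nat.coprime_two_left.2 hR.oddO)).dvd_of_dvd_mul_right b3
    omega
  have a3 : C0 ≤ centralizer {t} := sup_le
    (fun a ha => mem_centralizer_singleton_iff.2 (K_comm hR.tK ha)) (sup_le
      (zpowers_le.2 (mem_centralizer_singleton_iff.2 rfl))
      fun o ho => mem_centralizer_singleton_iff.2 (hR.Ot o ho))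
  have a4 : ∀ k ∈ D.K, k * t = t * k → k ∈ C0 := fun k hk e => mem_sup_right (by
    rcases hR.cKt k hk e with h | h
    · exact mem_sup_right h
    · exact (mul_mem_cancel_left (mem_sup_left (mem_zpowers t))).1 (mem_sup_right h))
  have a5 : ∀ g, g * t = t * g → g ∈ C0 ∨ ∃ a ∈ D.A, D.Frob (a * g) := fun g e => by
    obtain ⟨a, ha, h | h⟩ := hF.glob.out g (hR.ct g e)
    · exact Or.inl ((mul_mem_cancel_left (mem_sup_left ha)).1
        (a4 _ h (Commute.mul_left (K_comm hR.tK ha) e).eq))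
    · exact Or.inr ⟨a, ha, h⟩
  rw [H8.card_eq_card_mul_relIndex a3]
  by_cases h : ∃ g, g * t = t * g ∧ D.Frob g
  · refine ⟨fun e => a2 ?_, Or.inr h⟩
    obtain ⟨g, g1, g2⟩ := h
    have b1 : C0.relIndex (centralizer {t}) ∣ 2 := relIindex_dvd_two_iff'.2
      ⟨g, mem_centralizer_singleton_iff.2 g1, fun b hb => by
        have hb := mem_centralizer_singleton_iff.1 hb
        refine (a5 b hb).symm.imp_left fun ⟨a, ha, e⟩ => ?_
        have := mul_mem (mem_sup_left ((mem_normalizer_iff.1 (hR.ct g g1) _).1 (inv_mem ha)))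
          (a4 _ (frob_mul g2 e) (Commute.mul_left g1 (Commute.mul_left (K_comm hR.tK ha) hb)).eq)
        rwa [show g * a⁻¹ * g⁻¹ * (g * (a * b)) = g * b by group] at this⟩
    exact Nat.dvd_of_mul_dvd_mul_right (by norm_num : 0 < 2) (e.trans (Nat.mul_dvd_mul_left _ b1))
  · rw [relIndex_eq_one.2 fun g hg => (a5 g (mem_centralizer_singleton_iff.1 hg)).resolve_right
      fun ⟨a, ha, e⟩ => h ⟨_, (Commute.mul_left (K_comm hR.tK ha)
        (mem_centralizer_singleton_iff.1 hg)).eq, e⟩, mul_one]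
    exact ⟨fun e => a2 ((pow_dvd_pow 2 (by norm_num)).trans e), Or.inl a2⟩

omit hF hR hU [Finite G] in
theorem sq_of_isConj {y : G} (h2 : t * t = 1) (h : IsConj t y) : y * y = 1 := by
  obtain ⟨c, rfl⟩ := isConj_iff.1 h
  exact conj_sq h2 c

theorem caseB (hA : Nat.card D.A = 251596800) {g : G} (g1 : g * t = t * g) (g2 : D.Frob g)
    (g3 : g * g = 1) (g4 : ¬ IsConj t g) : ∃ M : Subgroup G, M.index = 2 := by
  have b1 : t * g * (t * g) = 1 := by rw [mul_assoc, ← mul_assoc g, g1, mul_assoc, g3, mul_one, hR.t2]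
  have b2 := mul_mem hU.tn (hU.fn g g1 g2)
  have b3 : t ∈ normalizer ((zpowers (t * g) ⊔ Us : Subgroup G) : Set G) :=
    H86.mem_normalizer_of_conj_le fun x hx => by
      rcases memS b2 b1 hx with h | ⟨k, hk, rfl⟩
      · exact mem_sup_right ((mem_normalizer_iff.1 hU.tn x).1 h)
      · rw [show t * (t * g * k) * t⁻¹ = t * (t * g) * t⁻¹ * (t * k * t⁻¹) by group, ← g1,
          ← mul_assoc t g, mul_inv_cancel_right, g1]
        exact mul_mem (mem_sup_left (mem_zpowers _))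
          (mem_sup_right ((mem_normalizer_iff.1 hU.tn k).1 hk))
  have b4 : t ∉ zpowers (t * g) ⊔ Us := fun e => by
    rcases memS b2 b1 e with h | ⟨k, hk, e⟩
    · exact t_not hF hR hU h
    · rw [mul_assoc, left_eq_mul] at e
      exact no_frob hF (mem_sup_left (hU.cU g (by
        rw [eq_inv_of_mul_eq_one_left e]; exact inv_mem hk) g1)) g2
  have b5 : IsPGroup 2 (zpowers t ⊔ (zpowers (t * g) ⊔ Us) : Subgroup G) :=
    (H86.Dbl.isPGroup_zpowers (n := 1) (by rw [pow_one, pow_two, hR.t2])).to_sup_of_normal_right'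
      ((H86.Dbl.isPGroup_zpowers (n := 1) (by rw [pow_one, pow_two, b1])).to_sup_of_normal_right'
        hU.two (zpowers_le.2 b2)) (zpowers_le.2 b3)
  have b6 : t ∈ zpowers t ⊔ (zpowers (t * g) ⊔ Us) := mem_sup_left (mem_zpowers t)
  obtain ⟨M, hM, -⟩ := gt_cls (relIndex_two b3 hR.t2 b4) hR.t2 (IsConj.refl t) b6 b4
    (fun y hy h1 h2 => by
      have h3 := sq_of_isConj hR.t2 h2
      obtain ⟨k, hk, rfl⟩ := (memS b3 hR.t2 hy).resolve_left h1
      rcases memS b2 b1 hk with h | ⟨k, hk', rfl⟩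
      · obtain ⟨y, hy, e⟩ := hU.inv k h h3
        exact ⟨y, mem_sup_right (mem_sup_right hy), e.symm⟩
      · rw [show t * (t * g * k) = g * k by rw [← mul_assoc, ← mul_assoc, hR.t2, one_mul]] at h2 h3
        obtain ⟨y, -, e⟩ := hU.finv g g1 g2 g3 k hk' h3
        exact absurd (h2.trans (isConj_iff.2 ⟨y, e⟩).symm) g4)
    fun e => (up hF hR hA).1 ((Nat.mul_dvd_mul_left 2 ((low hF hR hU b5
      (le_sup_of_le_right le_sup_right) b6).2 g (by
        have := mul_mem b6 (mem_sup_right (mem_sup_left (mem_zpowers (t * g))))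
        rwa [← mul_assoc, hR.t2, one_mul] at this) g1 g2)).trans e)
  exact ⟨M, hM⟩

theorem caseA (hA : Nat.card D.A = 251596800) {g : G} (g2 : D.Frob g) (g3 : g * g = t) :
    ∃ M : Subgroup G, M.index = 2 := by
  have g1 : g * t = t * g := by rw [← g3, mul_assoc]
  have b2 := zpowers_le.2 (hU.fn g g1 g2)
  have b5 : IsPGroup 2 (zpowers g ⊔ Us : Subgroup G) :=
    (H86.Dbl.isPGroup_zpowers (n := 2) (by
      rw [pow_two, pow_mul, pow_two, pow_two, g3, hR.t2])).to_sup_of_normal_right' hU.two b2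
  have b6 : g ∈ zpowers g ⊔ Us := mem_sup_left (mem_zpowers g)
  have b7 : t ∈ zpowers g ⊔ Us := g3 ▸ mul_mem b6 b6
  have b8 : ∀ x ∈ zpowers g ⊔ Us, x ∉ Us → IsConj t x → t⁻¹ * x ∈ Us := fun x hx h1 h2 => by
    have h3 := sq_of_isConj hR.t2 h2
    obtain ⟨a, ha, b, hb, rfl⟩ := (H1.mem_sup_of_le_normalizer b2).1 hx
    have h4 : a * a ∈ Us := by
      have := mul_mem (inv_mem ((mem_normalizer_iff.1 (b2 ha) b).1 hb)) (inv_mem hb)
      rwa [show (a * b * a⁻¹)⁻¹ * b⁻¹ = a * ((a * b * (a * b))⁻¹ * (a * b * (a * b))) * b⁻¹ * a⁻¹ * b⁻¹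
        by group, inv_mul_cancel, ← h3, show a * (a * b * (a * b)) * b⁻¹ * a⁻¹ * b⁻¹ = a * a
        by group] at this
    obtain ⟨n, rfl⟩ := mem_zpowers_iff.1 ha
    rw [← zpow_two, ← zpow_mul, mul_comm, zpow_mul, zpow_two, g3] at h4
    rcases Int.even_or_odd' n with ⟨k, rfl | rfl⟩
    · rw [zpow_mul, zpow_two, g3] at h1 ⊢
      rcases memR hR.t2 (zpow_mem (mem_zpowers t) k) with e | e <;> rw [e] at h1 ⊢
      · exact absurd (by rwa [one_mul]) h1
      · rwa [inv_mul_cancel_left]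
    · rw [zpow_add, zpow_mul, zpow_two, hR.t2, one_zpow, zpow_one, one_mul] at h4
      exact absurd h4 (t_not hF hR hU)
  refine gt_ab (H := zpowers g ⊔ Us) (K := Us) (fun x hx y hy => ?_) hR.t2 b8 fun e => ?_
  · obtain ⟨a, ha, b, hb, rfl⟩ := (H1.mem_sup_of_le_normalizer b2).1 hx
    obtain ⟨a', ha', b', hb', rfl⟩ := (H1.mem_sup_of_le_normalizer b2).1 hy
    have c := comm_of_mem_zpowers ha (comm_of_mem_zpowers ha' rfl).symm
    have := mul_mem (mul_mem ((mem_normalizer_iff.1 (b2 ha) b).1 hb)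
      ((mem_normalizer_iff.1 (b2 (mul_mem ha ha')) _).1 (mul_mem hb' (inv_mem hb))))
      ((mem_normalizer_iff.1 (b2 ha') _).1 (inv_mem hb'))
    rwa [show a * b * a⁻¹ * (a * a' * (b' * b⁻¹) * (a * a')⁻¹) * (a' * b'⁻¹ * a'⁻¹) =
      a * b * a' * b' * b⁻¹ * (a * a')⁻¹ * a' * b'⁻¹ * a'⁻¹ by group, c,
      show a * b * a' * b' * b⁻¹ * (a' * a)⁻¹ * a' * b'⁻¹ * a'⁻¹ =
        a * b * (a' * b') * (a * b)⁻¹ * (a' * b')⁻¹ by group] at this
  · rw [show {x : G | IsConj t x ∧ x ∈ zpowers g ⊔ Us ∧ x ∉ Us} =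
      {y : G | ∃ h ∈ zpowers g ⊔ Us, y = h * t * h⁻¹} from Set.ext fun x => ⟨fun ⟨h1, h2, h3⟩ => by
        obtain ⟨y, hy, e⟩ := hU.inv _ (b8 x h2 h3 h1) (by
          rw [mul_inv_cancel_left]; exact sq_of_isConj hR.t2 h1)
        exact ⟨y, mem_sup_right hy, by rw [e, mul_inv_cancel_left]⟩, by
        rintro ⟨y, hy, rfl⟩
        exact ⟨isConj_iff.2 ⟨y, rfl⟩, mul_mem (mul_mem hy b7) (inv_mem hy), fun e =>
          t_not hF hR hU ((mem_normalizer_iff.1 ((sup_le b2 le_normalizer :) hy) t).2 e)⟩⟩] at e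
    have c := ncard_cls (zpowers g ⊔ Us) t
    have c0 : 0 < {y : G | ∃ h ∈ zpowers g ⊔ Us, y = h * t * h⁻¹}.ncard :=
      Nat.pos_of_ne_zero fun e => by rw [e, zero_mul] at c; exact Nat.card_pos.ne c
    rw [← c, mul_left_comm] at e
    exact (up hF hR hA).1 ((Nat.mul_dvd_mul_left 2
      ((low hF hR hU b5 le_sup_right b7).2 g b6 g1 g2)).trans (Nat.dvd_of_mul_dvd_mul_left c0 e))

theorem main (hA : Nat.card D.A = 251596800)
    (hp : ∀ g, g * t = t * g → D.Frob g → g * g = 1 → IsConj t g → ¬ IsConj t (t * g)) :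
    ∃ M : Subgroup G, M.index = 2 := by
  rcases (up hF hR hA).2 with h | ⟨g, g1, g2⟩
  · have b6 : t ∈ zpowers t ⊔ Us := mem_sup_left (mem_zpowers t)
    obtain ⟨M, hM, -⟩ := gt_cls (relIndex_two hU.tn hR.t2 (t_not hF hR hU)) hR.t2 (IsConj.refl t) b6
      (t_not hF hR hU) (fun y hy h1 h2 => by
        obtain ⟨k, hk, rfl⟩ := (memS hU.tn hR.t2 hy).resolve_left h1
        obtain ⟨y, hy, e⟩ := hU.inv k hk (sq_of_isConj hR.t2 h2)
        exact ⟨y, mem_sup_right hy, e.symm⟩)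
      fun e => h ((Nat.mul_dvd_mul_left 2 (low hF hR hU ((H86.Dbl.isPGroup_zpowers (n := 1) (by
        rw [pow_one, pow_two, hR.t2])).to_sup_of_normal_right' hU.two (zpowers_le.2 hU.tn))
        le_sup_right b6).1).trans e)
    exact ⟨M, hM⟩
  obtain ⟨m, hm⟩ := hR.oddO
  have a1 := frob_mul g2 g2
  have a2 : D.Frob (g ^ Nat.card O) := by
    rw [hm, pow_succ', pow_mul, pow_two]; exact frob_K hF.rel g2 (pow_mem a1 m)
  have a3 := (Commute.pow_left g1 (Nat.card O)).eq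
  have a4 : g ^ Nat.card O * g ^ Nat.card O = (g * g) ^ Nat.card O :=
    ((Commute.refl g).mul_pow _).symm
  have a5 : ∀ o ∈ O, o ^ Nat.card O = 1 := fun o ho =>
    orderOf_dvd_iff_pow_eq_one.1 (orderOf_dvd_natCard O ho)
  have a6 : Commute (g * g) t := Commute.mul_left g1 g1
  rcases hR.cKt _ a1 a6 with h | h
  · rw [a5 _ h] at a4
    by_cases h1 : IsConj t (g ^ Nat.card O)
    · exact caseB hF hR hU hA (g := t * g ^ Nat.card O) (by rw [mul_assoc, a3])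
        (a3 ▸ frob_K hF.rel a2 hR.tK)
        (by rw [mul_assoc, ← mul_assoc _ t, a3, mul_assoc, a4, mul_one, hR.t2]) (hp _ a3 a2 a4 h1)
    · exact caseB hF hR hU hA a3 a2 a4 h1
  · have := a5 _ h
    rw [a6.symm.mul_pow, odd_pow_of_sq hR.t2 hR.oddO, ← a4] at this
    exact caseA hF hR hU hA a2 (mul_left_cancel (this.trans hR.t2.symm))

end Cfsg.Agent.H72.ASREnd

/-- The transfer at the end of the rank one case. -/
theorem Cfsg.Agent.H72.ASREnd.rend.{u} : Cfsg.Agent.H42.AS.REndStmt.{u} :=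
  fun _ _ _ _ _ _ _ hF hA hR hU hp => Cfsg.Agent.H72.ASREnd.main hF hR hU hA hp
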