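import Mathlib
import Cfsg.Agent.H72.ASRQ1

/-! The double of `Q_A` (project AS). -/

set_option autoImplicit false

namespace Cfsg.Agent.H72.ASRQ

open Cfsg Subgroup Cfsg.Agent.H28 Cfsg.Agent.H42.AS Cfsg.Agent.H72.ASB Cfsg.Agent.H86.U3
  Cfsg.Agent.H86.Dbl
open Cfsg.Agent.H72.ASRA (AK KV odd_O)
open scoped commutatorElement

universe u

variable {G : Type u} [Group G] {D : RD G}

/-- `m` translates `t` by `q` modulo the double of `V` -/
structure Del (D : RD G) (t : G) (O : Subgroup G) (f : F4 → G) (m q : G) : Prop where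
  Q : q ∈ D.QA
  cV : ∀ y ∈ Vs D f, m * y = y * m
  cO : ∀ o ∈ O, m * o = o * m
  ct : ∃ y ∈ Vs D f, m * t * m⁻¹ = t * q * y
  cq : ∀ q' ∈ D.QA, ∀ x, ⁅q, q'⁆ = D.xv x → m * q' * m⁻¹ = q' * f x

theorem f_Vs {f : F4 → G} (x : F4) : f x ∈ Vs D f := subset_closure (Or.inl ⟨x, rfl⟩)
theorem v_Vs {f : F4 → G} (x : F4) : D.xv x ∈ Vs D f := subset_closure (Or.inr ⟨x, rfl⟩)

theorem Vs_comm {f : F4 → G} {g y : G} (h1 : ∀ x, g * f x = f x * g)
    (h2 : ∀ x, g * D.xv x = D.xv x * g) (hy : y ∈ Vs D f) : g * y = y * g :=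
  (comm_closure (by rintro _ (⟨x, rfl⟩ | ⟨x, rfl⟩); exacts [(h1 x).symm, (h2 x).symm]) y hy).symm

theorem Vs_Ms {f : F4 → G} : Vs D f ≤ Ms D f := le_sup_left

theorem s_Ms {f : F4 → G} (β : F4) : sE D f β ∈ Ms D f :=
  mem_sup_right (subset_closure ⟨1, one_mem _, β, by group⟩)

theorem ha_L : D.ha ∈ D.L :=
  mul_mem (mul_mem (mul_mem (mul_mem (mul_mem (xa_L _) na_L) (xa_L _)) na_L) (xa_L _)) na_L

variable [Finite G] (hF : D.Fa) {t : G} {O : Subgroup G} {f : F4 → G} {c : F4} (hR : RP D t O)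
  (hA : RA D t O f c)
include hF hA

omit [Finite G] in
theorem P_Vs {p y : G} (hp : p ∈ D.P) (hy : y ∈ Vs D f) : p * y = y * p :=
  Vs_comm (fun x => (hA.fP x p hp).symm) (P_v hF.rel hp) hy

omit [Finite G] in
theorem Vs_Vs {p y : G} (hp : p ∈ Vs D f) (hy : y ∈ Vs D f) : p * y = y * p :=
  Vs_comm (fun x => (Vs_comm (hA.ff x) (fun z => hA.fP x _ (Q_P (xv_Q z))) hp).symm)
    (fun x => (P_Vs hF hA (Q_P (xv_Q x)) hp).symm) hy

omit [Finite G] in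
theorem Ms_conj {l : G} (hl : l ∈ D.L) {m : G} (hm : m ∈ Ms D f) : l * m * l⁻¹ ∈ Ms D f :=
  (sup_le (fun y hy => show _ * _ * _ ∈ _ by
      rw [P_Vs hF hA (L_P hl) hy, mul_inv_cancel_right]; exact Vs_Ms hy)
    ((closure_le _).2 (by
      rintro _ ⟨l', hl', β, rfl⟩
      exact mem_sup_right (subset_closure ⟨_, mul_mem hl hl', β, by
        simp [mul_assoc]⟩))) : Ms D f ≤ (Ms D f).comap (MulAut.conj l).toMonoidHom) hm

include hR

theorem mem_Vs {y : G} (hy : y ∈ Vs D f) : ∃ a b, y = f a * D.xv b := by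
  let E : Subgroup G :=
    { carrier := {g | ∃ a b, g = f a * D.xv b}
      one_mem' := ⟨0, 0, by rw [v0 hF.rel, hA.f0, one_mul]⟩
      mul_mem' := by
        rintro _ _ ⟨x, p, rfl⟩ ⟨x', p', rfl⟩
        exact ⟨x + x', p + p', by
          rw [mul_assoc, ← mul_assoc (D.xv p), ← hA.fP _ _ (Q_P (xv_Q _)), hF.rel.vv,
            f_add hF hR hA]; group⟩
      inv_mem' := by
        rintro _ ⟨x, p, rfl⟩
        exact ⟨x, p, by rw [mul_inv_rev, v_inv hF.rel, inv_of_mul_self (f_sq hF hR hA x),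
          hA.fP _ _ (Q_P (xv_Q _))]⟩ }
  exact ((closure_le E).2 (by
    rintro _ (⟨x, rfl⟩ | ⟨x, rfl⟩)
    exacts [⟨x, 0, by rw [v0 hF.rel, mul_one]⟩, ⟨0, x, by rw [hA.f0, one_mul]⟩]) : Vs D f ≤ E) hy

theorem Vs_sq {y : G} (hy : y ∈ Vs D f) : y * y = 1 := by
  obtain ⟨a, b, rfl⟩ := mem_Vs hF hR hA hy
  rw [mul_assoc, ← mul_assoc (D.xv b), ← hA.fP _ _ (Q_P (xv_Q _)), mul_assoc, v_sq hF.rel, mul_one,
    f_sq hF hR hA]

omit [Finite G] in
theorem O_Vs {o y : G} (ho : o ∈ O) (hy : y ∈ Vs D f) : o * y = y * o :=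
  Vs_comm (hA.fO o ho) (fun x => (K_comm (hR.OK ho) (xv_A hF.rel x)).symm) hy

theorem Del.mul {m q m' q' : G} (h : Del D t O f m q) (h' : Del D t O f m' q') :
    Del D t O f (m * m') (q * q') where
  Q := mul_mem h.Q h'.Q
  cV y hy := (Commute.mul_left (h.cV y hy) (h'.cV y hy)).eq
  cO y hy := (Commute.mul_left (h.cO y hy) (h'.cO y hy)).eq
  ct := by
    obtain ⟨y, hy, e⟩ := h.ct
    obtain ⟨y', hy', e'⟩ := h'.ct
    obtain ⟨x, hx⟩ := (mem_V hF.rel).1 (Q_comm hF.rel h.Q h'.Q)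
    refine ⟨_, mul_mem (mul_mem hy (f_Vs x)) hy', ?_⟩
    calc _ = m * (m' * t * m'⁻¹) * m⁻¹ := by group
      _ = m * t * m⁻¹ * (m * q' * m⁻¹) * (m * y') * m⁻¹ := by rw [e']; group
      _ = t * q * (y * q') * f x * y' := by rw [e, h.cq q' h'.Q x hx, h.cV y' hy']; group
      _ = _ := by rw [← P_Vs hF hA (Q_P h'.Q) hy]; group
  cq p hp x e := by
    obtain ⟨a, ha⟩ := (mem_V hF.rel).1 (Q_comm hF.rel h.Q hp)
    obtain ⟨b, hb⟩ := (mem_V hF.rel).1 (Q_comm hF.rel h'.Q hp)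
    rw [cl hF.rel h.Q h'.Q hp, commutatorElement_def, commutatorElement_def, ha, hb,
      ← hF.rel.vv] at e
    calc _ = m * (m' * p * m'⁻¹) * m⁻¹ := by group
      _ = m * p * m⁻¹ * (m * f b) * m⁻¹ := by rw [h'.cq p hp b hb]; group
      _ = _ := by rw [h.cq p hp a ha, h.cV _ (f_Vs b), ← v_inj hF.rel e, f_add hF hR hA]; group

theorem Del.inv {m q : G} (h : Del D t O f m q) : Del D t O f m⁻¹ q⁻¹ where
  Q := inv_mem h.Q
  cV y hy := (Commute.inv_left (h.cV y hy)).eq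
  cO y hy := (Commute.inv_left (h.cO y hy)).eq
  ct := by
    obtain ⟨y, hy, e⟩ := h.ct
    have a1 := h.cq q h.Q 0 (by rw [v0 hF.rel, commutatorElement_self])
    rw [hA.f0, mul_one] at a1
    refine ⟨_, inv_mem hy, ?_⟩
    calc _ = m⁻¹ * (t * q * y) * (q * y)⁻¹ * m := by group
      _ = t * (m⁻¹ * (q * y)⁻¹ * m) := by rw [← e]; group
      _ = _ := by
        rw [mul_assoc m⁻¹, ← (Commute.mul_right (eq_mul_of_mul_inv_eq a1) (h.cV y hy)).inv_right.eq,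
          P_Vs hF hA (Q_P h.Q) hy]
        group
  cq p hp x e := by
    obtain ⟨a, ha⟩ := (mem_V hF.rel).1 (Q_comm hF.rel h.Q hp)
    have a1 := cl hF.rel h.Q (inv_mem h.Q) hp
    rw [mul_inv_cancel, commutatorElement_one_left, e, commutatorElement_def, ha, ← hF.rel.vv] at a1
    have a2 : a = x := v_inj hF.rel (by
      rw [← v_inv hF.rel x]; exact eq_inv_of_mul_eq_one_left (by rw [← hF.rel.vv, a1]))
    calc _ = m⁻¹ * (p * f a) * (f a * m) := by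
          rw [mul_assoc m⁻¹ (p * f a), mul_assoc p, ← mul_assoc (f a), f_sq hF hR hA]; group
      _ = _ := by rw [← h.cq p hp a ha, ← h.cV _ (f_Vs a), a2]; group

omit hR in
theorem Del.conj {m q p : G} (h : Del D t O f m q) (hp : p ∈ D.P) (hR : RP D t O) :
    Del D t O f (p * m * p⁻¹) (p * q * p⁻¹) where
  Q := P_Q hF.rel hp q h.Q
  cV y hy := ((Commute.mul_left (P_Vs hF hA hp hy) (h.cV y hy)).mul_left
    (Commute.inv_left (P_Vs hF hA hp hy))).eq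
  cO y hy := ((Commute.mul_left (K_comm (hR.OK hy) (P_A hF.rel hp)) (h.cO y hy)).mul_left
    (Commute.inv_left (K_comm (hR.OK hy) (P_A hF.rel hp)))).eq
  ct := by
    obtain ⟨y, hy, e⟩ := h.ct
    refine ⟨y, hy, ?_⟩
    calc _ = p * (m * (p⁻¹ * t) * p * m⁻¹) * p⁻¹ := by group
      _ = p * (m * t * m⁻¹) * p⁻¹ := by rw [K_comm hR.tK (P_A hF.rel (inv_mem hp))]; group
      _ = p * t * q * p⁻¹ * (p * y) * p⁻¹ := by rw [e]; group
      _ = _ := by rw [K_comm hR.tK (P_A hF.rel hp), P_Vs hF hA hp hy]; group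
  cq q' hq' x e := by
    obtain ⟨q', hq, rfl⟩ := conj_surj (P_Q hF.rel hp) hq'
    have a1 := h.cq q' hq x (by
      rw [commutatorElement_def] at e ⊢
      calc _ = p⁻¹ * (p * q * p⁻¹ * (p * q' * p⁻¹) * (p * q * p⁻¹)⁻¹ * (p * q' * p⁻¹)⁻¹) * p := by
            group
        _ = _ := by rw [e, mul_assoc, ← P_v hF.rel hp, inv_mul_cancel_left])
    calc _ = p * (m * q' * m⁻¹) * p⁻¹ := by group
      _ = p * q' * (f x * p⁻¹) := by rw [a1]; group
      _ = _ := by rw [hA.fP x _ (inv_mem hp)]; group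

theorem Del.vs {y v : G} (hy : y ∈ Vs D f) (hv : v ∈ D.V) : Del D t O f y v where
  Q := V_Q hF.rel hv
  cV _ := Vs_Vs hF hA hy
  cO _ ho := (O_Vs hF hR hA ho hy).symm
  ct := by
    obtain ⟨a, b, rfl⟩ := mem_Vs hF hR hA hy
    obtain ⟨z, rfl⟩ := (mem_V hF.rel).1 hv
    refine ⟨_, v_Vs (z + a), ?_⟩
    rw [mul_assoc (f a), K_comm hR.tK (xv_A hF.rel b), ← mul_assoc, hA.ft, hF.rel.vv, mul_assoc t,
      mul_assoc t, mul_assoc t, mul_assoc t, ← mul_assoc (D.xv z), v_sq hF.rel]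
    group
  cq p hp x e := by
    rw [c1 (P_V hF.rel (Q_P hp) hv).symm] at e
    rw [v_eq_one hF.rel e.symm, hA.f0, ← P_Vs hF hA (Q_P hp) hy]; group

theorem Del.congr {m q q' : G} (h : Del D t O f m q) (e : q⁻¹ * q' ∈ D.V) : Del D t O f m q' := by
  simpa using h.mul hF hR hA (Del.vs hF hR hA (one_mem _) e)

theorem Del.s (β : F4) : Del D t O f (sE D f β) (D.xe β) where
  Q := xe_Q β
  cV _ := Vs_comm (s_f hF hR hA β) (s_v hF hA β)
  cO _ ho := s_O hF hR hA ho β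
  ct := ⟨1, one_mem _, by rw [s_t hF hR hA]; group⟩
  cq p hp x e := by
    obtain ⟨t1, t2, t3, t4, t5, rfl⟩ := hF.par.qnf p hp
    rw [cm_qe hF.rel] at e
    rw [← v_inj hF.rel e, ← hA.fP _ _ (Q_P hp), ← mul_assoc, ← mul_assoc, ← mul_assoc, ← mul_assoc,
      s_b hF hR hA, mul_assoc _ (sE D f β), s_c hF hA, ← mul_assoc, mul_assoc _ (sE D f β),
      s_d hF hA, ← mul_assoc, mul_assoc _ (sE D f β), s_e hF hA, ← mul_assoc,
      mul_assoc _ (sE D f β), s_v hF hA, mul_comm β]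
    group

theorem Del.ct' {m q : G} (h : Del D t O f m q) (hq : q * q = 1) :
    ∃ b, m * t = t * (q * D.xv b) * m := by
  obtain ⟨y, hy, e⟩ := h.ct
  obtain ⟨a, b, rfl⟩ := mem_Vs hF hR hA hy
  have a1 := conj_sq hR.t2 m
  have a2 : q * D.xv b ∈ D.QA := mul_mem h.Q (xv_Q b)
  rw [hA.fP a _ (Q_P (xv_Q b)), ← mul_assoc, mul_assoc t] at e
  have a3 : a = 0 := v_eq_one hF.rel (by
    calc _ = (t * t) * D.xv a * ((q * q) * (D.xv b * D.xv b) * (f a * f a)) := by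
          rw [hR.t2, hq, v_sq hF.rel, f_sq hF hR hA]; group
      _ = t * (t * D.xv a) * q * (q * D.xv b) * (D.xv b * f a) * f a := by group
      _ = t * (t * D.xv a) * q * (D.xv b * q) * (D.xv b * f a) * f a := by
          rw [P_v hF.rel (Q_P h.Q) b]
      _ = t * (t * D.xv a) * (q * D.xv b) * (q * D.xv b * f a) * f a := by group
      _ = t * (t * D.xv a * (q * D.xv b)) * f a * (q * D.xv b) * f a := by
          rw [← hA.fP a _ (Q_P a2)]; group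
      _ = t * (q * D.xv b * (t * D.xv a)) * f a * (q * D.xv b) * f a := by
          rw [(Commute.mul_right (K_comm hR.tK (P_A hF.rel (Q_P a2))) (P_v hF.rel (Q_P a2) a)).eq]
      _ = t * (q * D.xv b) * (t * D.xv a * f a) * (q * D.xv b) * f a := by group
      _ = _ := by rw [← hA.ft, ← a1, e]; group)
  rw [a3, hA.f0, mul_one] at e
  exact ⟨b, eq_mul_of_mul_inv_eq e⟩

theorem ker0 {m : G} (h : Del D t O f m 1) : ∃ y ∈ Vs D f, ∃ o ∈ O, m = y * o := by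
  obtain ⟨b, e⟩ := h.ct' hF hR hA (one_mul 1)
  rw [one_mul] at e
  obtain ⟨τ, a1, o, ho, p, hp, rfl⟩ := st hF hR hA (fun y => h.cV _ (v_Vs y)) e
  have a2 := hF.par.cQA p hp fun q hq => by
    have := h.cq q hq 0 (by rw [v0 hF.rel, commutatorElement_one_left])
    rw [hA.f0, mul_one, mul_inv_eq_iff_eq_mul, ← mul_assoc, ← mul_assoc,
      ← tau_P hF hR hA a1 b (Q_P hq), mul_assoc _ q o, K_comm (hR.OK ho) (P_A hF.rel (Q_P hq)),
      ← mul_assoc, mul_assoc _ p, mul_assoc _ q] at this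
    exact mul_left_cancel this
  obtain ⟨z, rfl⟩ := (mem_V hF.rel).1 a2
  rcases a1 with rfl | rfl
  · exact ⟨_, mul_mem (f_Vs b) (v_Vs z), o, ho, by
      rw [mul_assoc _ o, ← K_comm (hR.OK ho) (xv_A hF.rel z)]; group⟩
  · have := h.cV _ (f_Vs 1)
    rw [mul_assoc, ← hA.fP 1 _ hp, ← mul_assoc, mul_assoc _ o, hA.fO o ho, ← mul_assoc, ← mul_assoc,
      ← mul_assoc, ← mul_assoc, mul_left_inj, mul_left_inj, hA.ff 1, mul_assoc, mul_assoc,
      mul_right_inj, hA.ft, mul_left_inj, left_eq_mul] at this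
    exact absurd (v_eq_one hF.rel this) one_ne_zero

theorem Ms_del {m : G} (hm : m ∈ Ms D f) : (∃ q, Del D t O f m q) ∧ ∃ n, m ^ 2 ^ n = 1 := by
  let N : Subgroup G :=
    { carrier := {m | ∃ q, Del D t O f m q}
      one_mem' := ⟨1, Del.vs hF hR hA (one_mem _) (one_mem _)⟩
      mul_mem' := fun ⟨_, a⟩ ⟨_, b⟩ => ⟨_, a.mul hF hR hA b⟩
      inv_mem' := fun ⟨_, a⟩ => ⟨_, a.inv hF hR hA⟩ }
  obtain ⟨W, hW⟩ := two_closed (N := N) fun o ⟨q, ho⟩ h1 g ⟨q', hg⟩ => by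
    obtain ⟨y, hy, o', ho', e⟩ := ker0 hF hR hA ((ho.mul hF hR hA ho).congr hF hR hA (q' := 1) (by
      rw [mul_one]; exact inv_mem (Q_sq hF.rel ho.Q)))
    obtain ⟨k, hk⟩ := h1
    have a1 : Commute (o * o) g := e ▸ (Commute.mul_right (hg.cV y hy) (hg.cO o' ho')).symm
    have a2 : (o * o) ^ (k + 1) = o := by
      rw [← pow_two, ← pow_mul, show 2 * (k + 1) = 2 * k + 1 + 1 by ring, ← hk, pow_succ,
        pow_orderOf_eq_one, one_mul]
    exact a2 ▸ (a1.pow_left _).eq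
  exact (hW m).1 ((sup_le (fun y hy => (hW y).2 ⟨⟨1, Del.vs hF hR hA hy (one_mem _)⟩, 1, by
    rw [pow_one, pow_two, Vs_sq hF hR hA hy]⟩) ((closure_le W).2 (by
      rintro _ ⟨l, hl, β, rfl⟩
      exact (hW _).2 ⟨⟨_, (Del.s hF hR hA β).conj hF hA (L_P hl) hR⟩, 1, by
        rw [pow_one, pow_two, conj_sq (s_sq hF hR hA β)]⟩)) : Ms D f ≤ W) hm)

theorem ker {m v : G} (hm : m ∈ Ms D f) (h : Del D t O f m v) (hv : v ∈ D.V) : m ∈ Vs D f := by
  obtain ⟨y, hy, o, ho, rfl⟩ := ker0 hF hR hA (h.congr hF hR hA (q' := 1) (by simpa using hv))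
  obtain ⟨n, hn⟩ := (Ms_del hF hR hA hm).2
  rw [O_two hF hR ho (n := n + 1) (by
    have : (y * o) ^ 2 ^ (n + 1) = 1 := by rw [pow_succ, pow_mul, hn, one_pow]
    rwa [(Commute.symm (O_Vs hF hR hA ho hy)).mul_pow, pow_succ', pow_mul, pow_two,
      Vs_sq hF hR hA hy, one_pow, one_mul, ← pow_succ'] at this), mul_one]
  exact hy

theorem mcomm {m m' : G} (hm : m ∈ Ms D f) (hm' : m' ∈ Ms D f) : m * m' * m⁻¹ * m'⁻¹ ∈ Vs D f := by
  obtain ⟨q, h⟩ := (Ms_del hF hR hA hm).1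
  obtain ⟨q', h'⟩ := (Ms_del hF hR hA hm').1
  exact ker hF hR hA (mul_mem (mul_mem (mul_mem hm hm') (inv_mem hm)) (inv_mem hm'))
    (((h.mul hF hR hA h').mul hF hR hA (h.inv hF hR hA)).mul hF hR hA (h'.inv hF hR hA))
    (Q_comm hF.rel h.Q h'.Q)

theorem surj {q : G} (hq : q ∈ D.QA) : ∃ m ∈ Ms D f, Del D t O f m q := by
  have h := hF.rel
  let S : Subgroup G :=
    { carrier := {q | ∃ m ∈ Ms D f, Del D t O f m q}
      one_mem' := ⟨1, one_mem _, Del.vs hF hR hA (one_mem _) (one_mem _)⟩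
      mul_mem' := fun ⟨_, a', a⟩ ⟨_, b', b⟩ => ⟨_, mul_mem a' b', a.mul hF hR hA b⟩
      inv_mem' := fun ⟨_, a', a⟩ => ⟨_, inv_mem a', a.inv hF hR hA⟩ }
  have hL : ∀ l ∈ D.L, ∀ q ∈ S, l * q * l⁻¹ ∈ S := fun l hl q ⟨m, a', a⟩ =>
    ⟨_, Ms_conj hF hA hl a', a.conj hF hA (L_P hl) hR⟩
  have he : ∀ x, D.xe x ∈ S := fun x => ⟨_, s_Ms x, Del.s hF hR hA x⟩
  have hv : ∀ x, D.xv x ∈ S := fun x => ⟨1, one_mem _, Del.vs hF hR hA (one_mem _) (xv_V x)⟩
  have hb : ∀ x, D.xb x ∈ S := fun x => conj_of_eq (na_e h x) ▸ hL _ na_L _ (he x)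
  have h1 : ∀ x y, D.xc (x * y) * D.xd (x ^ 2 * y) ∈ S := fun x y => by
    have := hL _ (xa_L x) _ (hb y)
    rwa [conj_of_eq (h.ab x y), mul_mem_cancel_right (hv _), mul_mem_cancel_right (he _), mul_assoc,
      mul_mem_cancel_left (hb _)] at this
  have hc : ∀ x, D.xc x ∈ S := fun x => by
    have := mul_mem (h1 1 (om ^ 2 * x)) (inv_mem (h1 om x))
    rwa [one_pow, one_mul, mul_inv_rev, mul_assoc, mul_inv_cancel_left, inv_of_add h.cc, ← h.cc,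
      ← add_mul, show om ^ 2 + om = 1 by decide, one_mul] at this
  exact Q_ind (H := S) hb hc (fun x => conj_of_eq (h.nac x) ▸ hL _ na_L _ (hc x)) he hv hq

theorem surj' {q : G} (hq : q ∈ D.QA) (h2 : q * q = 1) :
    ∃ m ∈ Ms D f, Del D t O f m q ∧ m * t = t * q * m := by
  obtain ⟨m, hm, h⟩ := surj hF hR hA hq
  obtain ⟨b, e⟩ := h.ct' hF hR hA h2
  refine ⟨_, mul_mem hm (Vs_Ms (f_Vs b)), by
    simpa using h.mul hF hR hA (Del.vs hF hR hA (f_Vs b) (one_mem _)), ?_⟩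
  calc _ = m * t * D.xv b * f b := by rw [mul_assoc, hA.ft]; group
    _ = t * q * D.xv b * (m * D.xv b) * f b := by rw [e]; group
    _ = t * q * (D.xv b * D.xv b) * (m * f b) := by rw [h.cV _ (v_Vs b)]; group
    _ = _ := by rw [v_sq hF.rel, mul_one]

theorem ker' {m m' q q' : G} (hm : m ∈ Ms D f) (hm' : m' ∈ Ms D f) (h : Del D t O f m q)
    (h' : Del D t O f m' q') (e : q⁻¹ * q' ∈ D.V) : m⁻¹ * m' ∈ Vs D f :=
  ker hF hR hA (mul_mem (inv_mem hm) hm') ((h.inv hF hR hA).mul hF hR hA h') e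

theorem comm_s {m q q' : G} (hm : m ∈ Ms D f) (h : Del D t O f m q) (hq : q' ∈ D.QA)
    (e : q = q'⁻¹ * (D.ha * q' * D.ha⁻¹)) (β : F4) : m * sE D f β = sE D f β * m := by
  obtain ⟨n, hn, h'⟩ := surj hF hR hA hq
  have a1 : sE D f β * D.ha = D.ha * sE D f β :=
    s_P hF hA (y := D.nb * D.ha * D.nb) (hF.glob.centV 1 one_ne_zero _
      (mul_mem (mul_mem nb_A ha_A) nb_A) (by
        rw [mul_assoc, nb_v hF.rel, ← mul_assoc, mul_assoc D.nb, hF.rel.hae, ← mul_assoc,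
          hF.rel.nbe]; group)) (by rw [mul_assoc, hF.rel.nb2, mul_one]) β
  have a2 := mcomm hF hR hA hn (s_Ms β)
  have a3 := P_Vs hF hA (L_P ha_L) a2
  have a4 := (Del.s hF hR hA β).cV _ (ker' hF hR hA (mul_mem (inv_mem hn) (Ms_conj hF hA ha_L hn)) hm
    ((h'.inv hF hR hA).mul hF hR hA (h'.conj hF hA (L_P ha_L) hR)) h (by
      rw [← e, inv_mul_cancel]; exact one_mem _))
  have a5 : n⁻¹ * (D.ha * n * D.ha⁻¹) * sE D f β = sE D f β * (n⁻¹ * (D.ha * n * D.ha⁻¹)) := by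
    calc _ = n⁻¹ * D.ha * n * D.ha⁻¹ * (sE D f β * D.ha) * D.ha⁻¹ := by group
      _ = n⁻¹ * (D.ha * (n * sE D f β * n⁻¹ * (sE D f β)⁻¹)) * sE D f β * n * D.ha⁻¹ := by
          rw [a1]; group
      _ = sE D f β * n⁻¹ * (sE D f β)⁻¹ * (D.ha * sE D f β) * n * D.ha⁻¹ := by rw [a3]; group
      _ = _ := by rw [← a1]; group
  have := (Commute.mul_left a5 (Commute.symm a4)).eq
  rwa [mul_inv_cancel_left] at this

omit hR [Finite G] in
theorem Del.c0 {m q q' : G} (h : Del D t O f m q) (hq : q' ∈ D.QA) (e : q * q' = q' * q) :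
    m * q' = q' * m := by
  have := h.cq q' hq 0 (by rw [v0 hF.rel, c1 e])
  rw [hA.f0, mul_one] at this
  exact eq_mul_of_mul_inv_eq this

omit hF hR [Finite G] in
theorem Del.cx {m q q' : G} {x : F4} (h : Del D t O f m q) (hq : q' ∈ D.QA)
    (e : ⁅q, q'⁆ = D.xv x) : m * q' = f x * q' * m := by
  rw [hA.fP x _ (Q_P hq)]; exact eq_mul_of_mul_inv_eq (h.cq q' hq x e)

theorem exists_rq : ∃ cs ds, RQ D t f cs ds := by
  have h := hF.rel
  choose cs c1 c2 c3 using fun x => surj' hF hR hA (xc_Q x) (sq_of_add h.cc x)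
  choose ds d1 d2 d3 using fun x => surj' hF hR hA (xd_Q x) (sq_of_add h.dd x)
  refine ⟨cs, ds, f_add hF hR hA, s_f hF hR hA, s_b hF hR hA, c1, d1, fun m hm => ?_,
    fun m hm m' hm' => mcomm hF hR hA hm hm', fun m hm => ?_, c3, d3,
    fun x y => (c2 x).c0 hF hA (xb_Q y) (h.bc y x).symm,
    fun x y => (c2 x).c0 hF hA (xc_Q y) (comm_of_add h.cc x y),
    fun x y => (c2 x).cx hA (xd_Q y) (cm_cd h x y),
    fun x y => (c2 x).c0 hF hA (xe_Q y) (h.ce x y),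
    fun x y => (d2 x).c0 hF hA (xb_Q y) (h.bd y x).symm,
    fun x y => (d2 x).cx hA (xc_Q y) (by rw [cm_dc h, mul_comm]),
    fun x y => (d2 x).c0 hF hA (xd_Q y) (comm_of_add h.dd x y),
    fun x y => (d2 x).c0 hF hA (xe_Q y) (h.de x y),
    fun x => comm_s hF hR hA (c1 x) (c2 x) (xc_Q (om ^ 2 * x)) ?_,
    fun x => comm_s hF hR hA (d1 x) (d2 x) (xd_Q (om * x)) ?_⟩
  · obtain ⟨q, hq⟩ := (Ms_del hF hR hA hm).1
    obtain ⟨t1, t2, t3, t4, t5, rfl⟩ := hF.par.qnf q hq.Q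
    have a1 := (Del.s hF hR hA t1).conj hF hA (L_P na_L) hR
    have a2 := Ms_conj hF hA na_L (s_Ms (D := D) (f := f) t1)
    rw [conj_of_eq (na_e h t1)] at a1
    rw [inv_of_mul_self h.na2] at a1 a2
    exact ⟨t1, t2, t3, t4, _, ker' hF hR hA (mul_mem (mul_mem (mul_mem a2 (c1 t2)) (d1 t3)) (s_Ms t4))
      hm (((a1.mul hF hR hA (c2 t2)).mul hF hR hA (d2 t3)).mul hF hR hA (Del.s hF hR hA t4)) hq
      (by rw [inv_mul_cancel_left]; exact xv_V _), by rw [bE, mul_inv_cancel_left]⟩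
  · obtain ⟨q, hq⟩ := (Ms_del hF hR hA hm).1
    exact ker hF hR hA (mul_mem hm hm) (hq.mul hF hR hA hq) (Q_sq h hq.Q)
  · rw [conj_of_eq (h.hac _), inv_of_add h.cc, ← h.cc, ← mul_assoc, ← add_mul,
      show om ^ 2 + om ^ 2 * om ^ 2 = 1 by decide, one_mul]
  · rw [conj_of_eq (h.had _), inv_of_add h.dd, ← h.dd, ← mul_assoc, ← add_mul,
      show om + om * om = 1 by decide, one_mul]

end Cfsg.Agent.H72.ASRQ

/-- The double of `Q_A`. -/
theorem Cfsg.Agent.H72.ASRQ.rq.{u} : Cfsg.Agent.H42.AS.RQStmt.{u} :=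
  fun _ _ _ _ _ _ _ _ hF hR hA => Cfsg.Agent.H72.ASRQ.exists_rq hF hR hA
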