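import Mathlib
import Cfsg.Agent.H72.ASRA
import Cfsg.Agent.H42.ALDefs2

/-! Basic consequences of the relations of `L₃(4)`; the graph symmetry (project AL). -/

set_option autoImplicit false

namespace Cfsg.Agent.H72.ALB

open Cfsg Subgroup Cfsg.Agent.H28 Cfsg.Agent.H42.AL Cfsg.Agent.H86.U3
open Cfsg.Agent.H42.AS (om)
open Cfsg.Agent.H72.ASB (f4_add om_cube om_fix one_of_add sq_of_add inv_of_add mem_closure_range
  conj_of_eq)
open scoped commutatorElement

universe u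

theorem f4_sub : ∀ a b : F4, a - b = a + b := by decide

variable {G : Type u} [Group G]

/-! ### Heisenberg groups -/

section Heis

/-- the relations of a Heisenberg group -/
structure Hs {M : Type} [AddCommGroup M] (E B V : M → G) (m : M → M → M) : Prop where
  EE : ∀ a b, E (a + b) = E a * E b
  BB : ∀ a b, B (a + b) = B a * B b
  VV : ∀ a b, V (a + b) = V a * V b
  EV : ∀ a c, E a * V c = V c * E a
  BV : ∀ a c, B a * V c = V c * B a
  BE : ∀ a b, B b * E a = E a * V (m a b) * B b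

variable {M : Type} [AddCommGroup M] {E B V : M → G} {m : M → M → M} (h : Hs E B V m)
include h

theorem Hs.E0 : E 0 = 1 := by simpa using h.EE 0 0
theorem Hs.B0 : B 0 = 1 := by simpa using h.BB 0 0
theorem Hs.V0 : V 0 = 1 := by simpa using h.VV 0 0

theorem Hs.mul (a b c a' b' c' : M) : E a * B b * V c * (E a' * B b' * V c') =
    E (a + a') * B (b + b') * V (c + c' + m a' b) := by
  calc _ = E a * B b * (V c * E a') * B b' * V c' := by group
    _ = E a * (B b * E a') * (V c * B b') * V c' := by rw [← h.EV]; group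
    _ = E a * E a' * (V (m a' b) * (B b * B b')) * (V c * V c') := by rw [h.BE, ← h.BV]; group
    _ = _ := by rw [← h.BB, ← h.BV, ← h.EE, add_comm (c + c'), h.VV, h.VV]; group

theorem Hs.inv (a b c : M) : (E a * B b * V c)⁻¹ = E (-a) * B (-b) * V (-(c + m (-a) b)) :=
  inv_eq_of_mul_eq_one_right (by
    rw [h.mul, add_neg_cancel, add_neg_cancel, add_right_comm, add_neg_cancel, h.E0, h.B0, h.V0]
    group)

theorem Hs.unf {y : G} (hy : y ∈ closure (Set.range E ∪ Set.range B ∪ Set.range V)) :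
    ∃ a b c, y = E a * B b * V c := by
  induction hy using closure_induction with
  | mem _ hx =>
    rcases hx with (⟨a, rfl⟩ | ⟨a, rfl⟩) | ⟨a, rfl⟩
    · exact ⟨a, 0, 0, by rw [h.B0, h.V0]; group⟩
    · exact ⟨0, a, 0, by rw [h.E0, h.V0]; group⟩
    · exact ⟨0, 0, a, by rw [h.B0, h.E0]; group⟩
  | one => exact ⟨0, 0, 0, by rw [h.B0, h.E0, h.V0]; group⟩
  | mul _ _ _ _ h1 h2 =>
    obtain ⟨a, b, c, rfl⟩ := h1
    obtain ⟨a', b', c', rfl⟩ := h2
    exact ⟨_, _, _, h.mul _ _ _ _ _ _⟩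
  | inv _ _ h1 => obtain ⟨a, b, c, rfl⟩ := h1; exact ⟨_, _, _, h.inv _ _ _⟩

theorem Hs.inj (nf : ∀ a b c, E a * B b * V c = 1 → a = 0 ∧ b = 0 ∧ c = 0) {a b c a' b' c' : M}
    (e : E a * B b * V c = E a' * B b' * V c') : a = a' ∧ b = b' ∧ c = c' := by
  obtain ⟨h1, h2, h3⟩ := nf (a + -a') (b + -b') (c + -(c' + m (-a') b') + m (-a') b) (by
    rw [← h.mul, ← h.inv, e, mul_inv_cancel])
  obtain rfl := add_neg_eq_zero.1 h1
  obtain rfl := add_neg_eq_zero.1 h2
  refine ⟨rfl, rfl, ?_⟩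
  rw [← sub_eq_zero, ← h3]; abel

theorem Hs.card (nf : ∀ a b c, E a * B b * V c = 1 → a = 0 ∧ b = 0 ∧ c = 0) :
    Nat.card (closure (Set.range E ∪ Set.range B ∪ Set.range V)) = Nat.card M ^ 3 := by
  have hm : ∀ p : M × M × M, E p.1 * B p.2.1 * V p.2.2 ∈
      closure (Set.range E ∪ Set.range B ∪ Set.range V) := fun p =>
    mul_mem (mul_mem (subset_closure (by simp)) (subset_closure (by simp))) (subset_closure (by simp))
  rw [← Nat.card_congr (Equiv.ofBijective (fun p : M × M × M => (⟨_, hm p⟩ : Subgroup.closure _))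
    ⟨fun p q e => by
      obtain ⟨h1, h2, h3⟩ := h.inj nf (congrArg Subtype.val e)
      exact Prod.ext h1 (Prod.ext h2 h3), fun y => by
      obtain ⟨a, b, c, e⟩ := h.unf y.2
      exact ⟨(a, b, c), Subtype.ext e.symm⟩⟩), Nat.card_prod, Nat.card_prod]
  ring

theorem Hs.cV (a b c x : M) : E a * B b * V c * V x = V x * (E a * B b * V c) :=
  ((Commute.mul_left (h.EV a x) (h.BV b x)).mul_left (by
    show _ = _; rw [← h.VV, ← h.VV, add_comm])).eq

theorem Hs.comm (a b c a' b' c' : M) :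
    ⁅E a * B b * V c, E a' * B b' * V c'⁆ = V (m a' b - m a b') := by
  rw [commutatorElement_def, mul_assoc, ← mul_inv_rev, mul_inv_eq_iff_eq_mul, h.mul, h.mul, ← h.cV,
    mul_assoc, mul_assoc, mul_assoc, ← h.VV, add_comm a, add_comm b]
  congr 3; abel

end Heis

variable {D D' : RD G}

theorem xe_A (t : F4) : D.xe t ∈ D.A := subset_closure (Or.inl (Or.inl ⟨t, rfl⟩))
theorem xb_A (t : F4) : D.xb t ∈ D.A := subset_closure (Or.inl (Or.inr ⟨t, rfl⟩))
theorem ne_A : D.ne ∈ D.A := subset_closure (Or.inr (Or.inl rfl))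
theorem nb_A : D.nb ∈ D.A := subset_closure (Or.inr (Or.inr rfl))
theorem hb_A : D.hb ∈ D.A :=
  mul_mem (mul_mem (mul_mem (mul_mem (mul_mem (xb_A _) nb_A) (xb_A _)) nb_A) (xb_A _)) nb_A
theorem rho_A : D.rho ∈ D.A := mul_mem hb_A hb_A
theorem xe_U (t : F4) : D.xe t ∈ D.U := subset_closure (by simp)
theorem xb_U (t : F4) : D.xb t ∈ D.U := subset_closure (by simp)
theorem xv_U (t : F4) : D.xv t ∈ D.U := subset_closure (by simp)
theorem xv_V (t : F4) : D.xv t ∈ D.V := subset_closure ⟨t, rfl⟩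
theorem nf_U (a b c : F4) : D.xe a * D.xb b * D.xv c ∈ D.U :=
  mul_mem (mul_mem (xe_U a) (xb_U b)) (xv_U c)

theorem K_comm {k a : G} (hk : k ∈ D.K) (ha : a ∈ D.A) : a * k = k * a :=
  mem_centralizer_iff.1 hk a ha

theorem U_ind {H : Subgroup G} (he : ∀ t, D.xe t ∈ H) (hb : ∀ t, D.xb t ∈ H)
    (hv : ∀ t, D.xv t ∈ H) : D.U ≤ H :=
  (closure_le H).2 (by
    rintro _ ((⟨t, rfl⟩ | ⟨t, rfl⟩) | ⟨t, rfl⟩)
    exacts [he t, hb t, hv t])

theorem U_comm {g : G} (he : ∀ t, g * D.xe t = D.xe t * g) (hb : ∀ t, g * D.xb t = D.xb t * g)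
    (hv : ∀ t, g * D.xv t = D.xv t * g) : ∀ u ∈ D.U, g * u = u * g := fun _ hu =>
  (mem_centralizer_singleton_iff.1 (U_ind (H := centralizer {g})
    (fun t => mem_centralizer_singleton_iff.2 (he t).symm)
    (fun t => mem_centralizer_singleton_iff.2 (hb t).symm)
    (fun t => mem_centralizer_singleton_iff.2 (hv t).symm) hu)).symm

theorem U_conj {g : G} {H : Subgroup G} (he : ∀ t, g * D.xe t * g⁻¹ ∈ H)
    (hb : ∀ t, g * D.xb t * g⁻¹ ∈ H) (hv : ∀ t, g * D.xv t * g⁻¹ ∈ H) :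
    ∀ u ∈ D.U, g * u * g⁻¹ ∈ H := fun _ hu =>
  U_ind (H := H.comap (MulAut.conj g).toMonoidHom) he hb hv hu

/-! ### The graph symmetry -/

theorem swap_swap : D.swap.swap = D := rfl
theorem V_swap : D.swap.V = D.V := rfl
theorem E1_swap : D.swap.E1 = D.E2 := rfl
theorem E2_swap : D.swap.E2 = D.E1 := rfl

theorem A_swap : D.swap.A = D.A := by
  rw [RD.A, RD.A, Set.union_comm (Set.range D.xe), Set.pair_comm D.ne]; rfl

theorem U_swap : D.swap.U = D.U := by
  rw [RD.U, RD.U, Set.union_comm (Set.range D.xe)]; rfl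

theorem K_swap : D.swap.K = D.K := by rw [RD.K, A_swap, RD.K]
theorem N_swap : D.swap.N = D.N := by rw [RD.N, A_swap, RD.N]

theorem St_swap {g : G} {l m : F4} {fr : Bool} (a : D.St D' g l m fr) :
    D.swap.St D'.swap g m l fr :=
  ⟨a.m0, a.l0, a.b, a.e, fun t => by rw [mul_comm m]; exact a.v t, a.b', a.e'⟩

section
variable (h : D.Rel)
include h

theorem hs : Hs D.xe D.xb D.xv fun a b => b * a := ⟨h.ee, h.bb, h.vv, h.ev, h.bv, fun a b => h.be b a⟩

theorem e0 : D.xe 0 = 1 := one_of_add h.ee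
theorem b0 : D.xb 0 = 1 := one_of_add h.bb
theorem v0 : D.xv 0 = 1 := one_of_add h.vv
theorem v_sq (t : F4) : D.xv t * D.xv t = 1 := sq_of_add h.vv t
theorem v_inv (t : F4) : (D.xv t)⁻¹ = D.xv t := inv_of_add h.vv t

theorem nf_inj {a b c a' b' c' : F4}
    (e : D.xe a * D.xb b * D.xv c = D.xe a' * D.xb b' * D.xv c') : a = a' ∧ b = b' ∧ c = c' :=
  (hs h).inj h.nf e

theorem v_inj {t u : F4} (e : D.xv t = D.xv u) : t = u :=
  (nf_inj h (a := 0) (b := 0) (by rw [e])).2.2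

theorem v_eq_one {t : F4} (e : D.xv t = 1) : t = 0 := v_inj h (e.trans (v0 h).symm)

theorem ev_inj {a c a' c' : F4} (e : D.xe a * D.xv c = D.xe a' * D.xv c') : a = a' ∧ c = c' :=
  have := nf_inj h (a := a) (b := 0) (c := c) (a' := a') (b' := 0) (c' := c') (by
    rw [b0 h, mul_one, mul_one, e])
  ⟨this.1, this.2.2⟩

theorem mem_V {g : G} : g ∈ D.V ↔ ∃ t, g = D.xv t := mem_closure_range h.vv

theorem V_sq {g : G} (hg : g ∈ D.V) : g * g = 1 := by
  obtain ⟨t, rfl⟩ := (mem_V h).1 hg; exact v_sq h t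

theorem unf {u : G} (hu : u ∈ D.U) : ∃ a b c, u = D.xe a * D.xb b * D.xv c := (hs h).unf hu

theorem xv_A (t : F4) : D.xv t ∈ D.A :=
  conj_of_eq (h.nbe t) ▸ mul_mem (mul_mem nb_A (xe_A t)) (inv_mem nb_A)

theorem U_A : D.U ≤ D.A := U_ind xe_A xb_A (xv_A h)

theorem U_v {u : G} (hu : u ∈ D.U) (t : F4) : u * D.xv t = D.xv t * u := by
  obtain ⟨a, b, c, rfl⟩ := unf h hu; exact (hs h).cV a b c t

theorem U_V {u v : G} (hu : u ∈ D.U) (hv : v ∈ D.V) : u * v = v * u := by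
  obtain ⟨t, rfl⟩ := (mem_V h).1 hv; exact U_v h hu t

theorem V_U : D.V ≤ D.U := fun _ hv => by obtain ⟨t, rfl⟩ := (mem_V h).1 hv; exact xv_U t

theorem nf_comm (a b c a' b' c' : F4) :
    ⁅D.xe a * D.xb b * D.xv c, D.xe a' * D.xb b' * D.xv c'⁆ = D.xv (b * a' + b' * a) := by
  rw [(hs h).comm, f4_sub]

theorem U_cm {u u' : G} (hu : u ∈ D.U) (hu' : u' ∈ D.U) : ∃ x, ⁅u, u'⁆ = D.xv x := by
  obtain ⟨a, b, c, rfl⟩ := unf h hu
  obtain ⟨a', b', c', rfl⟩ := unf h hu'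
  exact ⟨_, nf_comm h _ _ _ _ _ _⟩

theorem U_sq {u : G} (hu : u ∈ D.U) : ∃ x, u * u = D.xv x := by
  obtain ⟨a, b, c, rfl⟩ := unf h hu
  exact ⟨_, by rw [(hs h).mul, f4_add, f4_add, e0 h, b0 h, one_mul, one_mul]⟩

theorem U_four {u : G} (hu : u ∈ D.U) : u ^ 4 = 1 := by
  obtain ⟨x, e⟩ := U_sq h hu
  rw [show 4 = 2 * 2 by rfl, pow_mul, pow_two, pow_two, e, v_sq h]

/-- the centre of `U` -/
theorem ZU {u : G} (hu : u ∈ D.U) (he : u * D.xe 1 = D.xe 1 * u) (hb : u * D.xb 1 = D.xb 1 * u) :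
    ∃ x, u = D.xv x := by
  obtain ⟨a, b, c, rfl⟩ := unf h hu
  have h1 := nf_comm h a b c 1 0 0
  have h2 := nf_comm h a b c 0 1 0
  rw [b0 h, v0 h, mul_one, mul_one, commutatorElement_eq_one_iff_mul_comm.2 he] at h1
  rw [e0 h, v0 h, mul_one, one_mul, commutatorElement_eq_one_iff_mul_comm.2 hb] at h2
  have h3 := v_eq_one h h1.symm
  have h4 := v_eq_one h h2.symm
  simp only [mul_one, zero_mul, add_zero, mul_zero, one_mul, zero_add] at h3 h4
  exact ⟨c, by rw [h3, h4, e0 h, b0 h, one_mul, one_mul]⟩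

theorem rho_nf (a b c : F4) : D.rho * (D.xe a * D.xb b * D.xv c) * D.rho⁻¹ =
    D.xe (om * a) * D.xb (om * b) * D.xv (om ^ 2 * c) := by
  rw [← conj_of_eq (h.re a), ← conj_of_eq (h.rb b), ← conj_of_eq (h.rv c)]; group

theorem rho_U : ∀ u ∈ D.U, D.rho * u * D.rho⁻¹ ∈ D.U := fun u hu => by
  obtain ⟨a, b, c, rfl⟩ := unf h hu
  rw [rho_nf h]; exact nf_U _ _ _

theorem rho_rho : D.rho * D.rho = D.rho⁻¹ := eq_inv_of_mul_eq_one_left (by rw [← h.r3, pow_three'])

theorem nb_v (t : F4) : D.nb * D.xv t = D.xe t * D.nb := by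
  calc _ = D.nb * (D.xv t * D.nb) * D.nb := by rw [mul_assoc, mul_assoc, h.nb2, mul_one]
    _ = _ := by rw [← h.nbe, ← mul_assoc, h.nb2, one_mul]

theorem eb (t u : F4) : D.xe t * D.xb u = D.xb u * D.xv (t * u) * D.xe t := by
  rw [h.bv, mul_assoc, h.be, mul_comm u, h.ev, ← mul_assoc, ← mul_assoc, v_sq h, one_mul]

theorem rho_swap : D.swap.rho = D.rho := by
  rw [RD.rho, RD.rho, ← h.heb]; rfl

theorem rel_swap : D.swap.Rel where
  ee := h.bb
  bb := h.ee
  vv := h.vv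
  be := eb h
  bv := h.ev
  ev := h.bv
  ne2 := h.nb2
  nb2 := h.ne2
  neb := h.nbe
  nbe := h.neb
  ne3 := h.nb3
  nb3 := h.ne3
  braid := h.braid.symm
  heb := h.heb.symm
  r3 := by rw [rho_swap h]; exact h.r3
  re := by rw [rho_swap h]; exact h.rb
  rb := by rw [rho_swap h]; exact h.re
  rv := by rw [rho_swap h]; exact h.rv
  ner := by rw [rho_swap h]; exact h.nbr
  nbr := by rw [rho_swap h]; exact h.ner
  nf t1 t2 t3 e := by
    obtain ⟨h1, h2, h3⟩ := h.nf t2 t1 (t1 * t2 + t3) (by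
      rw [← e, h.vv, ← mul_assoc, mul_assoc (D.xe t2), h.bv, ← mul_assoc, ← h.be]; rfl)
    exact ⟨h2, h1, by rwa [h2, zero_mul, zero_add] at h3⟩

theorem glob_swap (g : D.Glob) : D.swap.Glob where
  simple := by rw [A_swap]; exact g.simple
  card := by rw [A_swap]; exact g.card
  inv := by rw [A_swap]; exact g.inv
  centV := by rw [A_swap, U_swap]; exact g.centV
  normV := by rw [A_swap, U_swap, rho_swap h]; exact g.normV
  out x hx := by
    rw [N_swap] at hx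
    obtain ⟨a, ha, l, m, fr, e⟩ := g.out x hx
    exact ⟨a, by rwa [A_swap], m, l, fr, e.imp St_swap St_swap⟩

theorem par_swap (p : D.Par) : D.swap.Par where
  AK := by rw [A_swap, K_swap]; exact p.AK
  unf _ := unf (rel_swap h)
  cardU := by rw [U_swap]; exact p.cardU
  syl := by rw [A_swap, U_swap]; exact p.syl
  invU := by rw [U_swap]; exact fun u hu e => (p.invU u hu e).symm
  genU := by rw [A_swap, U_swap]; exact fun H h1 h2 h3 => p.genU H h1 h3 h2
  nrmU := by rw [U_swap]; exact p.nrmU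
  oddU := by rw [A_swap, U_swap]; exact p.oddU
  stK g e := by rw [K_swap]; exact p.stK g (St_swap e)
  nU := by
    rw [N_swap, U_swap]
    intro x hx hv
    obtain ⟨a, ha, l, m, fr, e⟩ := p.nU x hx hv
    exact ⟨a, ha, m, l, fr, e.imp St_swap St_swap⟩
  cU := by rw [N_swap, U_swap, K_swap]; exact p.cU
  cUV := by rw [N_swap, U_swap, K_swap]; exact p.cUV
  o3 := by rw [N_swap, U_swap, K_swap]; exact p.o3
  comm2 := by rw [N_swap, A_swap, K_swap]; exact p.comm2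
  outinv := by rw [N_swap, A_swap, K_swap]; exact p.outinv
  out4 := by rw [N_swap, A_swap, K_swap]; exact p.out4

end

theorem fa_swap (hF : D.Fa) : D.swap.Fa :=
  ⟨rel_swap hF.rel, glob_swap hF.rel hF.glob, par_swap hF.rel hF.par⟩

theorem rp_swap {t : G} {O : Subgroup G} (hR : RP D t O) : RP D.swap t O where
  std := by rw [A_swap]; exact hR.std
  tK := by rw [K_swap]; exact hR.tK
  t1 := hR.t1
  t2 := hR.t2
  OK := by rw [K_swap]; exact hR.OK
  oddO := hR.oddO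
  Ot := hR.Ot
  cKt := by rw [K_swap]; exact hR.cKt
  ct := by rw [N_swap]; exact hR.ct
  mov := hR.mov
  noD := by rw [A_swap]; exact hR.noD
  rk5 := by
    rw [A_swap]
    intro F h1 h2 h3
    obtain ⟨a, ha, e⟩ := hR.rk5 F h1 h2 h3
    exact ⟨a, ha, e.symm⟩

theorem ra_swap (h : D.Rel) {t : G} {O : Subgroup G} {f : F4 → G} {c : F4} (hA : RA D t O f c) :
    RA D.swap t O f c where
  f0 := hA.f0
  fU := by rw [U_swap]; exact hA.fU
  ft := hA.ft
  ff := hA.ff
  fsq := hA.fsq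
  f3 := hA.f3
  rf := by rw [rho_swap h]; exact hA.rf
  fO := hA.fO

/-- an element of `N` centralising `V` and `E₁ / V` -/
theorem cE [Finite G] (hF : D.Fa) {g : G} (hg : g ∈ D.N) (hv : ∀ t, g * D.xv t = D.xv t * g)
    (he : ∃ x, g * D.xe 1 * g⁻¹ = D.xe 1 * D.xv x) : ∃ u ∈ D.U, ∃ k ∈ D.K, g = u * k := by
  have h := hF.rel
  obtain ⟨x, he⟩ := he
  obtain ⟨u, hu, l, m, fr, e⟩ := hF.par.nU g hg (H86.mem_normalizer_of_conj_le fun v hv' => by
    obtain ⟨t, rfl⟩ := (mem_V h).1 hv'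
    rw [hv, mul_inv_cancel_right]; exact hv')
  obtain ⟨y, hy⟩ := U_cm h hu (xe_U 1)
  have h1 : u * g * D.xe 1 * (u * g)⁻¹ = D.xe 1 * D.xv (y + x) := by
    calc _ = u * (g * D.xe 1 * g⁻¹) * u⁻¹ := by group
      _ = ⁅u, D.xe 1⁆ * D.xe 1 * (u * D.xv x) * u⁻¹ := by rw [he, commutatorElement_def]; group
      _ = _ := by rw [hy, U_v h hu, ← h.ev, h.vv]; group
  have h2 : ∀ t, u * g * D.xv t * (u * g)⁻¹ = D.xv t := fun t => by
    rw [(Commute.mul_left (U_v h hu t) (hv t)).eq, mul_inv_cancel_right]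
  have p1 : pw fr 1 = 1 := by cases fr <;> simp [pw]
  rcases e with e | e
  · have a1 := (ev_inj h (c' := 0) (by rw [← h1, e.e, v0 h, mul_one])).1
    have a2 := v_inj h ((h2 1).symm.trans (e.v 1))
    have a3 := v_inj h ((h2 om).symm.trans (e.v om))
    rw [p1, mul_one] at a1 a2
    rw [← a2, one_mul] at a3
    subst a1
    rw [one_mul] at a2
    subst a2
    obtain rfl : fr = false := by
      cases fr
      · rfl
      · exact absurd a3 (by decide)
    exact ⟨u⁻¹, inv_mem hu, _, hF.par.stK _ e, by group⟩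
  · refine absurd (nf_inj h (a := 1) (b := 0) (c := y + x) (a' := 0) (b' := l * pw fr 1) (c' := 0)
      ?_).1 one_ne_zero
    rw [b0 h, e0 h, v0 h, mul_one, mul_one, one_mul, ← h1, e.e]; rfl

end Cfsg.Agent.H72.ALB
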