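import Mathlib
import Cfsg.Agent.H72.ALB

/-! The double of `V` in the rank one case (project AL). -/

set_option autoImplicit false

namespace Cfsg.Agent.H72.ALRA

open Cfsg Subgroup Cfsg.Agent.H28 Cfsg.Agent.H42.AL Cfsg.Agent.H86.U3 Cfsg.Agent.H86.Dbl
  Cfsg.Agent.H72.ALB
open Cfsg.Agent.H42.AS (om)
open Cfsg.Agent.H72.ASB (f4_cases f4_add om_cube om_sq om_fix one_of_add sq_of_add inv_of_add
  conj_of_eq)
open Cfsg.Agent.H72.ASWA (f4_fpf f4_ind)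
open scoped commutatorElement

universe u

variable {G : Type u} [Group G] {D : RD G} {t : G} {O : Subgroup G}

/-- the elements centralising `V` and moving `t` inside `t V` -/
def WW (h : D.Rel) (t : G) : Subgroup G where
  carrier := {y | (∀ s, y * D.xv s = D.xv s * y) ∧ ∃ s, y * t * y⁻¹ = t * D.xv s}
  one_mem' := ⟨by simp, 0, by simp [v0 h]⟩
  mul_mem' := fun {a b} ha hb => ⟨fun t => (Commute.mul_left (ha.1 t) (hb.1 t)).eq, by
    obtain ⟨s, hs⟩ := ha.2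
    obtain ⟨r, ht⟩ := hb.2
    refine ⟨s + r, ?_⟩
    calc _ = a * (b * t * b⁻¹) * a⁻¹ := by group
      _ = a * t * a⁻¹ * (a * D.xv r * a⁻¹) := by rw [ht]; group
      _ = _ := by rw [hs, ha.1, h.vv]; group⟩
  inv_mem' := fun {a} ha => ⟨fun t => (Commute.inv_left (ha.1 t)).eq, by
    obtain ⟨s, hs⟩ := ha.2
    refine ⟨s, ?_⟩
    calc _ = a⁻¹ * (t * (D.xv s * D.xv s)) * a := by rw [v_sq h]; group
      _ = a⁻¹ * (t * D.xv s) * (D.xv s * a) := by group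
      _ = _ := by rw [← ha.1]; nth_rewrite 1 [← hs]; group⟩

/-- the translation part -/
noncomputable def th (D : RD G) (t y : G) : F4 :=
  Classical.epsilon fun s => y * t * y⁻¹ = t * D.xv s

theorem th_spec {h : D.Rel} {y : G} (hy : y ∈ WW h t) : y * t * y⁻¹ = t * D.xv (th D t y) :=
  Classical.epsilon_spec hy.2

theorem th_eq (h : D.Rel) {y : G} {s : F4} (e : y * t * y⁻¹ = t * D.xv s) : th D t y = s :=
  v_inj h (mul_left_cancel ((Classical.epsilon_spec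
    (p := fun s => y * t * y⁻¹ = t * D.xv s) ⟨s, e⟩).symm.trans e))

theorem th_mul (h : D.Rel) :
    ∀ a ∈ WW h t, ∀ b ∈ WW h t, th D t (a * b) = th D t a + th D t b := fun a ha b hb =>
  th_eq h (by
    calc _ = a * (b * t * b⁻¹) * a⁻¹ := by group
      _ = a * t * a⁻¹ * (a * D.xv (th D t b) * a⁻¹) := by rw [th_spec hb]; group
      _ = _ := by rw [th_spec ha, ha.1, h.vv]; group)

theorem th_odd {h : D.Rel} {y : G} (hy : y ∈ WW h t) {m : ℕ} (hm : Odd m) :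
    th D t (y ^ m) = th D t y := by
  obtain ⟨m, rfl⟩ := hm
  rw [on_pow (th_mul h) hy, add_nsmul, one_nsmul, mul_nsmul, two_nsmul, f4_add, nsmul_zero, zero_add]

theorem f4_tw (l : F4 → F4) (h : ∀ a b, l (a + b) = l a + l b) (s : F4) :
    l s + om ^ 2 * l (om ^ 2 * s) = (l 1 + om ^ 2 * l (om ^ 2)) * s := by
  have h0 : l 0 = 0 := by simpa using h 0 0
  have h2 : l (om ^ 2) = l om + l 1 := by rw [om_sq, h]
  rcases f4_cases s with rfl | rfl | rfl | rfl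
  · simp [h0]
  · simp
  · rw [show om ^ 2 * om = 1 by decide, h2]
    generalize l om = a; generalize l 1 = b; revert a b; decide
  · rw [show om ^ 2 * om ^ 2 = om by decide, h2]
    generalize l om = a; generalize l 1 = b; revert a b; decide

theorem rho_cm (h : D.Rel) {u z : G} (hu : u ∈ D.U) (hz : z ∈ D.U) {x : F4} (e : ⁅u, z⁆ = D.xv x) :
    ⁅D.rho * u * D.rho⁻¹, z⁆ = D.xv (om * x) := by
  obtain ⟨a, b, c, rfl⟩ := unf h hu
  obtain ⟨a', b', c', rfl⟩ := unf h hz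
  rw [nf_comm h] at e
  rw [rho_nf h, nf_comm h, ← v_inj h e]
  congr 1; ring

theorem W_cm {h : D.Rel} {y u z : G} (hy : y ∈ WW h t) {x : F4} (e : ⁅u, z⁆ = D.xv x) :
    ⁅y * u * y⁻¹, y * z * y⁻¹⁆ = D.xv x := by
  rw [← conjugate_commutatorElement, e, hy.1, mul_inv_cancel_right]

variable (hF : D.Fa) (hR : RP D t O)
include hR

theorem tA {a : G} (ha : a ∈ D.A) : a * t = t * a := K_comm hR.tK ha

include hF

theorem rho_WW {y : G} (hy : y ∈ WW hF.rel t) : D.rho * y * D.rho⁻¹ ∈ WW hF.rel t ∧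
    th D t (D.rho * y * D.rho⁻¹) = om ^ 2 * th D t y := by
  have h1 : D.rho * y * D.rho⁻¹ * t * (D.rho * y * D.rho⁻¹)⁻¹ = t * D.xv (om ^ 2 * th D t y) := by
    calc _ = D.rho * (y * (D.rho⁻¹ * t) * D.rho * y⁻¹) * D.rho⁻¹ := by group
      _ = D.rho * t * D.xv (th D t y) * D.rho⁻¹ := by
        rw [tA hR (inv_mem rho_A), mul_assoc D.rho t, ← th_spec hy]; group
      _ = _ := by rw [tA hR rho_A, mul_assoc t, hF.rel.rv]; group
  refine ⟨⟨fun s => ?_, _, h1⟩, th_eq hF.rel h1⟩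
  have h2 := conj_of_eq (hF.rel.rv (om * s))
  rw [← mul_assoc, ← pow_succ, om_cube, one_mul] at h2
  rw [← h2]
  exact conj_comm (hy.1 _) _

theorem U_WW {p : G} (hp : p ∈ D.U) : p ∈ WW hF.rel t ∧ th D t p = 0 :=
  have h1 : p * t * p⁻¹ = t * D.xv 0 := by rw [tA hR (U_A hF.rel hp), v0 hF.rel]; group
  ⟨⟨U_v hF.rel hp, 0, h1⟩, th_eq hF.rel h1⟩

theorem exists_w0 : ∃ w ∈ WW hF.rel t, th D t w ≠ 0 := by
  obtain ⟨g, g2, g3⟩ := hR.mov
  have hV : ∀ t, ∃ t', g * D.xv t * g⁻¹ = D.xv t' := fun t =>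
    (mem_V hF.rel).1 ((mem_normalizer_iff.1 g2 _).1 (xv_V t))
  have hV' : ∀ t, ∃ t', D.xv t = g * D.xv t' * g⁻¹ := fun t => by
    obtain ⟨t', e⟩ := (mem_V hF.rel).1 ((mem_normalizer_iff.1 (inv_mem g2) _).1 (xv_V t))
    exact ⟨t', by rw [← e]; group⟩
  set ρ := g * D.rho * g⁻¹ with hρ
  have e1 : ∀ t, ρ * (g * D.xv t * g⁻¹) * ρ⁻¹ = g * D.xv (om ^ 2 * t) * g⁻¹ := fun t => by
    rw [← conj_of_eq (hF.rel.rv t), hρ]; group
  have h1 : ∀ t, ∃ t', ρ * D.xv t * ρ⁻¹ = D.xv t' := fun t => by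
    obtain ⟨s, hs⟩ := hV' t
    rw [hs, e1]; exact hV _
  have h2 : ∀ t, ρ * D.xv t * ρ⁻¹ = D.xv t → t = 0 := fun t e => by
    obtain ⟨s, hs⟩ := hV' t
    rw [hs, e1] at e
    rw [om_fix s (v_inj hF.rel (by simpa using e)), v0 hF.rel] at hs
    exact v_eq_one hF.rel (by simpa using hs)
  choose δ hδ using h1
  obtain ⟨u, u1, u2, s, s1, s2⟩ : ∃ u ∈ D.A, (∀ t, u * D.xv (δ t) * u⁻¹ = D.xv t) ∧
      ∃ s, s + 1 ≠ 0 ∧ u * D.xv 1 * u⁻¹ = D.xv s := by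
    rcases f4_fpf δ (fun s t => v_inj hF.rel (by
      rw [hF.rel.vv, ← hδ, ← hδ, ← hδ, hF.rel.vv]; group)) (fun t e => v_eq_one hF.rel (by
        have := hδ t
        rw [e, v0 hF.rel] at this
        simpa using this)) (fun t e => h2 t (by rw [hδ, e])) with e | e
    · exact ⟨_, rho_A, fun t => by
        rw [conj_of_eq (hF.rel.rv _), e, ← mul_assoc, ← pow_succ, om_cube, one_mul],
        _, by decide, conj_of_eq (hF.rel.rv 1)⟩
    · exact ⟨_, inv_mem rho_A, fun t => by rw [e, ← conj_of_eq (hF.rel.rv t)]; group, om, by decide,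
        by rw [show (1 : F4) = om ^ 2 * om by decide, ← conj_of_eq (hF.rel.rv om)]; group⟩
  have h3 : u * ρ * t * (u * ρ)⁻¹ = t * D.xv (s + 1) := by
    have a1 : ρ * (t * D.xv 1) * ρ⁻¹ = t * D.xv 1 := by
      calc _ = g * (D.rho * t) * D.rho⁻¹ * g⁻¹ := by rw [← g3, hρ]; group
        _ = _ := by rw [K_comm hR.tK rho_A, ← g3]; group
    calc _ = u * (ρ * t * (D.xv 1 * D.xv 1) * ρ⁻¹) * u⁻¹ := by rw [v_sq hF.rel]; group
      _ = u * (ρ * (t * D.xv 1) * ρ⁻¹) * u⁻¹ * (u * (ρ * D.xv 1 * ρ⁻¹) * u⁻¹) := by group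
      _ = u * t * u⁻¹ * (u * D.xv 1 * u⁻¹) * D.xv 1 := by rw [a1, hδ, u2]; group
      _ = _ := by rw [s2, K_comm hR.tK u1, hF.rel.vv]; group
  refine ⟨u * ρ, ⟨fun t => ?_, _, h3⟩, by rwa [th_eq hF.rel h3]⟩
  rw [← mul_inv_eq_iff_eq_mul, show u * ρ * D.xv t * (u * ρ)⁻¹ = u * (ρ * D.xv t * ρ⁻¹) * u⁻¹ by
    group, hδ, u2]

/-- the elements `t a` with `a² = 1` are conjugate to `t` -/
theorem ta_conj {a : G} (ha : a ∈ D.A) (h2 : a * a = 1) : ∃ g, g * t * g⁻¹ = t * a := by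
  by_cases h1 : a = 1
  · exact ⟨1, by simp [h1]⟩
  obtain ⟨b, hb, e⟩ := hF.glob.inv a ha h2 h1
  obtain ⟨g, -, hg⟩ := hR.mov
  refine ⟨b⁻¹ * g, ?_⟩
  calc _ = b⁻¹ * (g * t * g⁻¹) * b := by group
    _ = b⁻¹ * t * b * a := by rw [hg, ← e]; group
    _ = _ := by rw [tA hR (inv_mem hb)]; group

variable [Finite G]

theorem WW_x {x : F4 → G} (hx : ∀ a b, x (a + b) = x a * x b) (xU : ∀ a, x a ∈ D.U)
    (xi : ∀ a c a' c', x a * D.xv c = x a' * D.xv c' → a = a' ∧ c = c') {y : G}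
    (hy : y ∈ WW hF.rel t) (s : F4) : y * x s * y⁻¹ ∈ D.U := by
  have h := hF.rel
  let τ : Bool → G := fun b => if b then t else 1
  have τ1 : ∀ a b, τ (xor a b) = τ a * τ b := by
    rintro (_ | _) (_ | _) <;> simp [τ, hR.t2]
  have τ2 : ∀ b, ∀ a ∈ D.A, a * τ b = τ b * a := by
    rintro (_ | _) a ha
    exacts [by simp [τ], tA hR ha]
  have xA : ∀ a c, x a * D.xv c ∈ D.A := fun a c => U_A h (mul_mem (xU a) (xv_U c))
  let φ : Bool × F4 × F4 → G := fun p => y * (τ p.1 * (x p.2.1 * D.xv p.2.2)) * y⁻¹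
  have φm : ∀ p q, φ (xor p.1 q.1, p.2 + q.2) = φ p * φ q := fun p q => by
    simp only [φ, Prod.fst_add, Prod.snd_add, hx, h.vv, τ1]
    calc _ = y * τ p.1 * (τ q.1 * (x p.2.1 * (x q.2.1 * D.xv p.2.2))) * D.xv q.2.2 * y⁻¹ := by group
      _ = y * τ p.1 * (τ q.1 * (x p.2.1 * D.xv p.2.2)) * x q.2.1 * D.xv q.2.2 * y⁻¹ := by
        rw [U_v h (xU _)]; group
      _ = _ := by rw [← τ2 _ _ (xA _ _)]; group
  have φ0 : φ (false, 0) = 1 := by simp [φ, τ, one_of_add hx, v0 h]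
  have φ2 : ∀ p, φ p * φ p = 1 := fun p => by
    rw [← φm, Bool.xor_self, show p.2 + p.2 = 0 from Prod.ext (f4_add _) (f4_add _), φ0]
  let F : Subgroup G :=
    { carrier := Set.range φ
      one_mem' := ⟨_, φ0⟩
      mul_mem' := by rintro _ _ ⟨p, rfl⟩ ⟨q, rfl⟩; exact ⟨_, φm p q⟩
      inv_mem' := by rintro _ ⟨p, rfl⟩; exact ⟨p, (inv_of_mul_self (φ2 p)).symm⟩ }
  have φi : Function.Injective φ := fun p q e => by
    have e1 : τ p.1 * (x p.2.1 * D.xv p.2.2) = τ q.1 * (x q.2.1 * D.xv q.2.2) := by simpa [φ] using e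
    have n : ∀ a ∈ D.A, ∀ b ∈ D.A, t * a ≠ b := fun a ha b hb e => hR.t1 (hF.par.AK t
      (by rw [eq_mul_inv_of_mul_eq e]; exact mul_mem hb (inv_mem ha)) hR.tK)
    have e2 : p.1 = q.1 := by
      revert e1
      rcases p.1 with _ | _ <;> rcases q.1 with _ | _ <;> intro e1
      · rfl
      · exact absurd (by simpa [τ] using e1.symm) (n _ (xA _ _) _ (xA _ _))
      · exact absurd (by simpa [τ] using e1) (n _ (xA _ _) _ (xA _ _))
      · rfl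
    rw [e2, mul_right_inj] at e1
    exact Prod.ext e2 (Prod.ext (xi _ _ _ _ e1).1 (xi _ _ _ _ e1).2)
  let S : Subgroup G :=
    { carrier := {g | ∃ b, ∃ a ∈ D.A, g = τ b * a}
      one_mem' := ⟨false, 1, one_mem _, by simp [τ]⟩
      mul_mem' := by
        rintro _ _ ⟨b, a, ha, rfl⟩ ⟨b', a', ha', rfl⟩
        exact ⟨xor b b', _, mul_mem ha ha', by rw [τ1, mul_assoc, ← mul_assoc a, τ2 _ _ ha]; group⟩
      inv_mem' := by
        rintro _ ⟨b, a, ha, rfl⟩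
        exact ⟨b, _, inv_mem ha, by
          rw [mul_inv_rev, inv_of_mul_self (x := τ b) (by rw [← τ1, Bool.xor_self]; rfl),
            τ2 _ _ (inv_mem ha)]⟩ }
  have S1 : ∀ E ≤ D.A, zpowers t ⊔ E ≤ S := fun E hE =>
    sup_le (zpowers_le.2 ⟨true, 1, one_mem _, by simp [τ]⟩) fun a ha =>
      ⟨false, a, hE ha, by simp [τ]⟩
  obtain ⟨a, ha, e⟩ := hR.rk5 F ⟨(true, 0, th D t y⁻¹), by
    simp only [φ, τ, one_of_add hx, one_mul, if_true]
    rw [← th_spec (inv_mem hy)]; group⟩ (by rintro _ ⟨p, rfl⟩; exact φ2 p) (by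
    rw [show Nat.card F = Nat.card (Set.range φ) from rfl, Nat.card_range_of_injective φi,
      Nat.card_eq_fintype_card]
    decide)
  have h1 : a * (a⁻¹ * (y * x s * y⁻¹) * a) * a⁻¹ ∈ F := ⟨(false, s, 0), by simp [φ, τ, v0 h]; group⟩
  obtain ⟨b, a', ha', e'⟩ : a⁻¹ * (y * x s * y⁻¹) * a ∈ S := by
    rcases e with e | e
    · exact S1 _ ((closure_le _).2 (by
        rintro _ (⟨c, rfl⟩ | ⟨c, rfl⟩); exacts [xe_A c, xv_A h c])) ((e _).1 h1)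
    · exact S1 _ ((closure_le _).2 (by
        rintro _ (⟨c, rfl⟩ | ⟨c, rfl⟩); exacts [xb_A c, xv_A h c])) ((e _).1 h1)
  cases b
  · refine hF.glob.centV 1 one_ne_zero _ ?_ ((Commute.mul_left (hy.1 1) (U_v h (xU s) 1)).mul_left
      (Commute.inv_left (hy.1 1))).eq
    have := mul_mem (mul_mem ha ha') (inv_mem ha)
    rwa [show a' = a⁻¹ * (y * x s * y⁻¹) * a by simpa [τ] using e'.symm,
      show a * (a⁻¹ * (y * x s * y⁻¹) * a) * a⁻¹ = y * x s * y⁻¹ by group] at this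
  · have h2 := conj_sq (sq_of_add hx s) (a⁻¹ * y)
    rw [show a⁻¹ * y * x s * (a⁻¹ * y)⁻¹ = a⁻¹ * (y * x s * y⁻¹) * a by group, e', mul_assoc,
      ← mul_assoc a', τ2 _ _ ha', ← mul_assoc, ← mul_assoc, ← τ1, Bool.xor_self] at h2
    obtain ⟨g, hg⟩ := ta_conj hF hR ha' (by simpa [τ] using h2)
    refine absurd ?_ (hR.noD (y⁻¹ * a * g))
    rw [show y⁻¹ * a * g * t * (y⁻¹ * a * g)⁻¹ = y⁻¹ * a * (g * t * g⁻¹) * a⁻¹ * y by group, hg,
      show t * a' = a⁻¹ * (y * x s * y⁻¹) * a from e'.symm,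
      show y⁻¹ * a * (a⁻¹ * (y * x s * y⁻¹) * a) * a⁻¹ * y = x s by group]
    exact U_A h (xU s)

theorem WW_U {y : G} (hy : y ∈ WW hF.rel t) : ∀ u ∈ D.U, y * u * y⁻¹ ∈ D.U :=
  U_conj (WW_x hF hR hF.rel.ee xe_U (fun _ _ _ _ => ev_inj hF.rel) hy)
    (WW_x hF hR hF.rel.bb xb_U (fun _ _ _ _ => ev_inj (rel_swap hF.rel)) hy)
    fun s => by rw [hy.1, mul_inv_cancel_right]; exact xv_U s

omit hF in
theorem odd_O {o : G} (ho : o ∈ O) : Odd (orderOf o) :=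
  Odd.of_dvd_nat hR.oddO (orderOf_dvd_natCard _ ho)

theorem WW_K {y o : G} (hy : y ∈ WW hF.rel t) (ho : o ∈ O) : y * o * y⁻¹ ∈ D.K := by
  have h := hF.rel
  obtain ⟨x, k, hk, e⟩ := hF.par.cU (y * o * y⁻¹) (hR.ct _ (by
    have h3 := th_spec (inv_mem hy)
    have h4 : o * (y⁻¹ * t * y⁻¹⁻¹) = y⁻¹ * t * y⁻¹⁻¹ * o := by
      rw [h3, ← mul_assoc, hR.Ot o ho, mul_assoc, ← K_comm (hR.OK ho) (xv_A h _), mul_assoc]
    calc _ = y * (o * (y⁻¹ * t * y⁻¹⁻¹)) * y⁻¹ := by group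
      _ = _ := by rw [h4]; group)) fun u hu => by
    obtain ⟨u, hu', rfl⟩ := conj_surj (WW_U hF hR hy) hu
    exact conj_comm (K_comm (hR.OK ho) (U_A h hu')).symm y
  have h5 : (D.xv x * k) ^ orderOf o = 1 := by rw [← e, conj_pow, pow_orderOf_eq_one]; group
  rw [(Commute.mul_pow (K_comm hk (xv_A h x))), odd_pow_of_sq (v_sq h x) (odd_O hR ho)] at h5
  rw [e, hF.par.AK _ (xv_A h x) (by
    rw [eq_inv_of_mul_eq_one_left h5]; exact inv_mem (pow_mem hk _)), one_mul]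
  exact hk

theorem step {y : G} (hy : y ∈ WW hF.rel t) : y⁻¹ * (D.rho * y * D.rho⁻¹) ∈ WW hF.rel t ∧
    (th D t y ≠ 0 → th D t (y⁻¹ * (D.rho * y * D.rho⁻¹)) ≠ 0) ∧
    ∀ o ∈ O, y⁻¹ * (D.rho * y * D.rho⁻¹) * o = o * (y⁻¹ * (D.rho * y * D.rho⁻¹)) := by
  have h6 := rho_WW hF hR hy
  refine ⟨mul_mem (inv_mem hy) h6.1, fun h0 e => ?_, fun o ho => ?_⟩
  · rw [th_mul _ _ (inv_mem hy) _ h6.1, h6.2, on_inv (th_mul _) hy] at e
    exact h0 (om_fix _ (neg_add_eq_zero.1 e).symm)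
  · calc _ = y⁻¹ * D.rho * y * (D.rho⁻¹ * o) := by group
      _ = y⁻¹ * (D.rho * (y * o * y⁻¹)) * y * D.rho⁻¹ := by
        rw [K_comm (hR.OK ho) (inv_mem rho_A)]; group
      _ = _ := by rw [K_comm (WW_K hF hR hy ho) rho_A]; group

theorem triv1 {y : G} (hy : y ∈ WW hF.rel t) : ∀ u ∈ D.U, ∃ c,
    y⁻¹ * (D.rho * y * D.rho⁻¹) * u * (y⁻¹ * (D.rho * y * D.rho⁻¹))⁻¹ = u * D.xv c := fun u hu => by
  have h := hF.rel
  obtain ⟨u, hu', rfl⟩ := conj_surj (rho_U h) hu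
  have a1 := rho_U h _ (WW_U hF hR hy u hu')
  have a2 := WW_U hF hR hy _ hu
  have key : ∀ z ∈ D.U, (y * (D.rho * u * D.rho⁻¹) * y⁻¹)⁻¹ * (D.rho * (y * u * y⁻¹) * D.rho⁻¹) * z =
      z * ((y * (D.rho * u * D.rho⁻¹) * y⁻¹)⁻¹ * (D.rho * (y * u * y⁻¹) * D.rho⁻¹)) := fun z hz => by
    obtain ⟨z, hz', rfl⟩ := conj_surj (WW_U hF hR hy) hz
    obtain ⟨x, e⟩ := U_cm h hu' hz'
    have b1 := rho_cm h (WW_U hF hR hy u hu') hz (W_cm hy e)
    rw [← W_cm hy (rho_cm h hu' hz' e), commutatorElement_def, commutatorElement_def,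
      mul_left_inj] at b1
    generalize y * (D.rho * u * D.rho⁻¹) * y⁻¹ = p at b1 ⊢
    generalize D.rho * (y * u * y⁻¹) * D.rho⁻¹ = q at b1 ⊢
    generalize y * z * y⁻¹ = w at b1 ⊢
    calc _ = p⁻¹ * (q * w * q⁻¹) * q := by group
      _ = _ := by rw [b1]; group
  obtain ⟨c, e⟩ := ZU h (mul_mem (inv_mem a2) a1) (key _ (xe_U 1)) (key _ (xb_U 1))
  refine ⟨c, ?_⟩
  calc _ = D.rho * u * D.rho⁻¹ * y⁻¹ * ((y * (D.rho * u * D.rho⁻¹) * y⁻¹)⁻¹ *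
        (D.rho * (y * u * y⁻¹) * D.rho⁻¹) * y) := by group
    _ = _ := by rw [e, ← hy.1]; group

omit hR [Finite G] in
theorem triv2 {w : G} (hw : w ∈ WW hF.rel t) {x : F4 → G} (hx : ∀ a b, x (a + b) = x a * x b)
    (xU : ∀ a, x a ∈ D.U) (xr : ∀ a, D.rho * x a = x (om * a) * D.rho)
    (e : ∀ u ∈ D.U, ∃ c, w * u * w⁻¹ = u * D.xv c) : ∃ c, ∀ s,
    w⁻¹ * (D.rho * w * D.rho⁻¹) * x s * (w⁻¹ * (D.rho * w * D.rho⁻¹))⁻¹ = x s * D.xv (c * s) := by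
  have h := hF.rel
  choose l hl using fun s => e _ (xU s)
  refine ⟨l 1 + om ^ 2 * l (om ^ 2), fun s => ?_⟩
  have a1 : w⁻¹ * x s * w = x s * D.xv (l s) := by
    calc _ = w⁻¹ * (x s * D.xv (l s)) * (D.xv (l s) * w) := by
          rw [mul_assoc, mul_assoc, mul_assoc, ← mul_assoc (D.xv _), v_sq h, one_mul]
      _ = _ := by rw [← hw.1]; nth_rewrite 1 [← hl]; group
  have a2 : D.rho⁻¹ * x s * D.rho = x (om ^ 2 * s) := by
    rw [mul_assoc, show s = om * (om ^ 2 * s) by rw [← mul_assoc, ← pow_succ', om_cube, one_mul],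
      ← xr, inv_mul_cancel_left, ← mul_assoc (om ^ 2), ← pow_succ, om_cube, one_mul]
  rw [← f4_tw l fun a b => v_inj h (mul_left_cancel (a := x (a + b)) (by
    calc _ = w * x a * w⁻¹ * (w * x b * w⁻¹) := by rw [← hl, hx]; group
      _ = x a * (D.xv (l a) * x b) * D.xv (l b) := by rw [hl, hl]; group
      _ = _ := by rw [← U_v h (xU b), hx, h.vv]; group))]
  calc _ = w⁻¹ * D.rho * (w * (D.rho⁻¹ * x s * D.rho) * w⁻¹) * D.rho⁻¹ * w := by group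
    _ = w⁻¹ * D.rho * (D.rho⁻¹ * x s * D.rho * D.xv (l (om ^ 2 * s))) * D.rho⁻¹ * w := by
      rw [a2, hl]
    _ = w⁻¹ * x s * (D.rho * D.xv (l (om ^ 2 * s)) * D.rho⁻¹ * w) := by group
    _ = _ := by rw [conj_of_eq (h.rv _), ← hw.1, ← mul_assoc, a1, h.vv, mul_assoc]

theorem exists_w : ∃ w ∈ WW hF.rel t, (∃ n, w ^ 2 ^ n = 1) ∧ (∀ u ∈ D.U, w * u = u * w) ∧
    (∀ o ∈ O, w * o = o * w) ∧ th D t w ≠ 0 := by
  have h := hF.rel
  obtain ⟨y, hy, y0⟩ := exists_w0 hF hR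
  obtain ⟨a1, a2, -⟩ := step hF hR hy
  obtain ⟨b1, b2, b3⟩ := step hF hR a1
  obtain ⟨c, hc⟩ := triv2 hF a1 h.ee xe_U h.re (triv1 hF hR hy)
  obtain ⟨c', hc'⟩ := triv2 hF a1 h.bb xb_U h.rb (triv1 hF hR hy)
  have b4 := b2 (a2 y0)
  generalize (y⁻¹ * (D.rho * y * D.rho⁻¹))⁻¹ * _ = w at b1 b3 b4 hc hc'
  have p := mul_mem (xb_U (D := D) c) (xe_U c')
  have q := U_WW hF hR p
  have k : ∀ {z : G} {s : F4}, D.xb c * D.xe c' * z = z * D.xv s * (D.xb c * D.xe c') →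
      w * z * w⁻¹ = z * D.xv s → w * (D.xb c * D.xe c') * z = z * (w * (D.xb c * D.xe c')) :=
    fun {z s} e1 e2 => by
      calc _ = w * z * w⁻¹ * (w * D.xv s) * (D.xb c * D.xe c') := by rw [mul_assoc, e1]; group
        _ = _ := by
          rw [e2, b1.1, mul_assoc z, ← mul_assoc (D.xv s), v_sq h]; group
  obtain ⟨m, j, hm, h8⟩ := exists_two_part (w * (D.xb c * D.xe c'))
  refine ⟨_, pow_mem (mul_mem b1 q.1) m, ⟨j, h8⟩, fun u hu => (Commute.pow_left (U_comm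
    (fun s => k ?_ (hc s)) (fun s => k ?_ (hc' s)) (mul_mem b1 q.1).1 u hu) m).eq,
    fun o ho => ((Commute.mul_left (b3 o ho) (K_comm (hR.OK ho) (U_A h p))).pow_left m).eq, ?_⟩
  · rw [mul_assoc, ← h.ee, add_comm, h.ee, ← mul_assoc, h.be, mul_assoc]
  · rw [mul_assoc, eb h, ← mul_assoc, ← mul_assoc, ← h.bb, add_comm, h.bb, mul_assoc (D.xb s), h.bv]
    group
  · rwa [th_odd (mul_mem b1 q.1) hm, th_mul _ _ b1 _ q.1, q.2, add_zero]

theorem exists_g : ∃ g ∈ WW hF.rel t, (∀ p ∈ D.U, g * p = p * g) ∧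
    (∀ k ∈ O, g * k = k * g) ∧ th D t g ≠ 0 ∧ g * g ∈ D.V ∧
    g * (D.rho * g * D.rho⁻¹) = D.rho * g * D.rho⁻¹ * g ∧
    g * (D.rho * g * D.rho⁻¹) * (D.rho⁻¹ * g * D.rho) = 1 := by
  have h := hF.rel
  obtain ⟨w, w1, ⟨n, w2⟩, w3, w4, w5⟩ := exists_w hF hR
  set Z := WW h t ⊓ centralizer (D.U : Set G) ⊓ centralizer (O : Set G) with hZ
  have dec : ∀ y ∈ Z, th D t y = 0 → ∃ τ, (τ = 1 ∨ τ = t) ∧ ∃ x, ∃ o ∈ O, y = τ * D.xv x * o :=
    fun y hy a2 => by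
      have a1 := th_spec hy.1.1
      rw [a2, v0 h, mul_one, mul_inv_eq_iff_eq_mul] at a1
      obtain ⟨x, k, hk, rfl⟩ := hF.par.cU y (hR.ct y a1) fun u hu =>
        (mem_centralizer_iff.1 hy.1.2 u hu).symm
      rw [mul_assoc, ← mul_assoc t, ← tA hR (xv_A h x), mul_assoc, mul_right_inj] at a1
      rcases hR.cKt k hk a1 with a3 | a3
      · exact ⟨1, Or.inl rfl, x, k, a3, by rw [one_mul]⟩
      · exact ⟨t, Or.inr rfl, x, _, a3, by
          rw [← tA hR (xv_A h x), mul_assoc, ← mul_assoc t, hR.t2, one_mul]⟩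
  have sq : ∀ τ, τ = 1 ∨ τ = t → ∀ x, τ * D.xv x * (τ * D.xv x) = 1 := by
    rintro _ (rfl | rfl) x
    · rw [one_mul, v_sq h]
    · rw [mul_assoc, ← mul_assoc (D.xv x), tA hR (xv_A h x), mul_assoc, v_sq h, mul_one, hR.t2]
  have cm : ∀ τ, τ = 1 ∨ τ = t → ∀ x, ∀ o ∈ O, Commute (τ * D.xv x) o := by
    rintro _ (rfl | rfl) x o ho
    · exact (Commute.one_left o).mul_left (K_comm (hR.OK ho) (xv_A h x))
    · exact (Commute.symm (hR.Ot o ho)).mul_left (K_comm (hR.OK ho) (xv_A h x))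
  obtain ⟨W, hW⟩ := two_closed (N := Z) fun o ho a1 g hg => by
    obtain ⟨τ, a3, x, k, hk, e⟩ := dec o ho (by
      rw [← th_odd ho.1.1 a1, pow_orderOf_eq_one]; exact on_one (th_mul h))
    obtain ⟨j, hj⟩ := a1
    have a4 : o = (k ^ 2) ^ (j + 1) := by
      rw [← one_mul (k ^ 2), ← sq τ a3 x, ← pow_two, ← (cm τ a3 x k hk).mul_pow, ← e, ← pow_mul,
        show 2 * (j + 1) = 2 * j + 1 + 1 by ring, ← hj, pow_succ, pow_orderOf_eq_one, one_mul]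
    exact mem_centralizer_iff.1 hg.2 o (a4 ▸ pow_mem (pow_mem hk 2) _)
  have two : ∀ y ∈ W, th D t y = 0 → ∃ τ, (τ = 1 ∨ τ = t) ∧ ∃ x, y = τ * D.xv x :=
    fun y hy a2 => by
      obtain ⟨τ, a3, x, k, hk, e⟩ := dec y ((hW y).1 hy).1 a2
      obtain ⟨j, hj⟩ := ((hW y).1 hy).2
      refine ⟨τ, a3, x, ?_⟩
      rw [e, eq_one_of_odd_of_two (odd_O hR hk) (n := j + 1) (by
        have : y ^ 2 ^ (j + 1) = 1 := by rw [pow_succ, pow_mul, hj, one_pow]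
        rwa [e, (cm τ a3 x k hk).mul_pow, pow_succ', pow_mul, pow_two, sq τ a3, one_pow, one_mul,
          ← pow_succ'] at this), mul_one]
  have hWV : ∀ y ∈ W, ∀ v ∈ D.V, y * v = v * y := fun y hy v hv =>
    (mem_centralizer_iff.1 ((hW y).1 hy).1.1.2 v (V_U h hv)).symm
  have hsq : ∀ y ∈ W, y * y ∈ D.V := fun y hy => by
    have a0 := ((hW y).1 hy).1.1.1
    obtain ⟨τ, a1 | a1, x, e⟩ := two _ (mul_mem hy hy) (by rw [th_mul h y a0 y a0, f4_add])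
    · rw [e, a1, one_mul]; exact xv_V x
    obtain ⟨τ', a2, x', e'⟩ := two y hy (th_eq h (by
      have a2 : t = y * y * (D.xv x)⁻¹ := by rw [e, a1, mul_inv_cancel_right]
      rw [v0 h, mul_one]
      calc _ = y * y * (y * (D.xv x)⁻¹) * y⁻¹ := by rw [a2]; group
        _ = _ := by rw [hWV y hy _ (inv_mem (xv_V x)), a2]; group))
    rw [e', sq τ' a2]
    exact one_mem _
  have hρ : ∀ y ∈ W, D.rho * y * D.rho⁻¹ ∈ W := fun y hy => by
    obtain ⟨⟨⟨a1, a2⟩, a3⟩, j, a4⟩ := (hW y).1 hy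
    refine (hW _).2 ⟨⟨⟨(rho_WW hF hR a1).1, mem_centralizer_iff.2 fun p hp => ?_⟩,
      mem_centralizer_iff.2 fun k hk => ?_⟩, j, by rw [conj_pow, a4]; group⟩
    · obtain ⟨p, hp', rfl⟩ := conj_surj (rho_U h) hp
      exact conj_comm (mem_centralizer_iff.1 a2 p hp') _
    · have := conj_comm (mem_centralizer_iff.1 a3 k hk) D.rho
      rwa [K_comm (hR.OK hk) rho_A, mul_inv_cancel_right] at this
  have hw : w ∈ W := (hW w).2 ⟨⟨⟨w1, mem_centralizer_iff.2 fun p hp => (w3 p hp).symm⟩,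
    mem_centralizer_iff.2 fun k hk => (w4 k hk).symm⟩, n, w2⟩
  have fix : ∀ v ∈ D.V, D.rho * v * D.rho⁻¹ = v → v = 1 := fun v hv e => by
    obtain ⟨t, rfl⟩ := (mem_V h).1 hv
    rw [conj_of_eq (h.rv t)] at e
    rw [om_fix t (v_inj h e), v0 h]
  have r3 := rho_rho h
  set g := w * (D.rho * w * D.rho⁻¹) with hg
  have g0 : g ∈ W := mul_mem hw (hρ w hw)
  have g1 := hρ g g0
  have g2 : D.rho⁻¹ * g * D.rho ∈ W := conj_inv_mem hρ g0
  have e1 : D.rho * (D.rho * g * D.rho⁻¹) * D.rho⁻¹ = D.rho⁻¹ * g * D.rho := by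
    calc _ = D.rho * D.rho * g * (D.rho * D.rho)⁻¹ := by group
      _ = _ := by rw [r3, inv_inv]
  have e2 : g * (D.rho * g * D.rho⁻¹) * (D.rho⁻¹ * g * D.rho) ∈ D.V := by
    have a1 := hsq _ (hρ w hw)
    have a2 := hsq _ (conj_inv_mem hρ hw)
    have a3 := mul_mem (mul_mem a1 a2) (hsq w hw)
    rw [← mul_assoc, ← hWV w hw _ (mul_mem a1 a2)] at a3
    convert a3 using 1
    calc _ = w * (D.rho * w * D.rho⁻¹ * (D.rho * w * D.rho⁻¹) * (D.rho * D.rho * w *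
          (D.rho * D.rho)⁻¹ * (D.rho⁻¹ * w * D.rho))) * w := by rw [hg]; group
      _ = _ := by rw [r3, inv_inv]
  have e3 : g * (D.rho * g * D.rho⁻¹) = D.rho * g * D.rho⁻¹ * g := by
    have a1 := comm_mem_of_sq hsq g0 g1
    rw [← mul_inv_eq_one, show g * (D.rho * g * D.rho⁻¹) * (D.rho * g * D.rho⁻¹ * g)⁻¹ =
      g * (D.rho * g * D.rho⁻¹) * g⁻¹ * (D.rho * g * D.rho⁻¹)⁻¹ by group]
    refine fix _ a1 ?_
    have a2 := hWV _ (mul_mem g1 g0) _ a1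
    have a3 := hWV _ (inv_mem g1) _ e2
    rw [← e1] at a3
    have a4 : ∀ a : G, D.rho * g * D.rho⁻¹ = a → D.rho * (g * a * g⁻¹ * a⁻¹) * D.rho⁻¹ =
        a * (D.rho * a * D.rho⁻¹) * a⁻¹ * (D.rho * a * D.rho⁻¹)⁻¹ := by rintro _ rfl; group
    rw [a4 _ rfl]
    generalize D.rho * g * D.rho⁻¹ = a at a2 a3 ⊢
    generalize D.rho * a * D.rho⁻¹ = b at a3 ⊢
    calc _ = g⁻¹ * (g * a * b * a⁻¹) * b⁻¹ := by group
      _ = (a * g)⁻¹ * (g * a * g⁻¹ * a⁻¹ * (a * g)) := by rw [← a3]; group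
      _ = _ := by rw [← a2, inv_mul_cancel_left]
  refine ⟨g, ((hW g).1 g0).1.1.1, fun p hp => (mem_centralizer_iff.1 ((hW g).1 g0).1.1.2 p hp).symm,
    fun p hp => (mem_centralizer_iff.1 ((hW g).1 g0).1.2 p hp).symm, fun e => w5 ?_,
    hsq g g0, e3, fix _ e2 ?_⟩
  · rw [hg, th_mul h _ w1 _ (rho_WW hF hR w1).1, (rho_WW hF hR w1).2] at e
    exact om_fix _ (by rw [← add_zero (om ^ 2 * _), ← f4_add (th D t w), ← add_assoc,
      add_comm (om ^ 2 * _), e, zero_add])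
  · have a1 := hWV _ g0 _ e2
    calc _ = D.rho * g * D.rho⁻¹ * (D.rho * (D.rho * g * D.rho⁻¹) * D.rho⁻¹) * g := by group
      _ = g⁻¹ * (g * (D.rho * g * D.rho⁻¹) * (D.rho⁻¹ * g * D.rho) * g) := by rw [e1]; group
      _ = _ := by rw [← a1, inv_mul_cancel_left]

theorem exists_f : ∃ (f : F4 → G) (c : F4), f 0 = 1 ∧ th D t (f 1) ≠ 0 ∧
    (∀ s, f s ∈ WW hF.rel t ∧ th D t (f s) = s * th D t (f 1)) ∧
    (∀ t, ∀ p ∈ D.U, f t * p = p * f t) ∧ (∀ t s, f t * f s = f s * f t) ∧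
    (∀ t, f t * f t = D.xv (c * t)) ∧ (∀ t, f t * f (om * t) * f (om ^ 2 * t) = 1) ∧
    (∀ t, f (om ^ 2 * t) = D.rho * f t * D.rho⁻¹) ∧ ∀ k ∈ O, ∀ t, f t * k = k * f t := by
  have h := hF.rel
  obtain ⟨g, g1, g2, g3, g4, g5, g6, g7⟩ := exists_g hF hR
  obtain ⟨c, hc⟩ := (mem_V h).1 g5
  have r3 := rho_rho h
  have e1 : D.rho * (D.rho * g * D.rho⁻¹) * D.rho⁻¹ = D.rho⁻¹ * g * D.rho := by
    calc _ = D.rho * D.rho * g * (D.rho * D.rho)⁻¹ := by group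
      _ = _ := by rw [r3, inv_inv]
  obtain ⟨f, f0, f1, f2, f3⟩ : ∃ f : F4 → G, f 0 = 1 ∧ f 1 = g ∧ f om = D.rho⁻¹ * g * D.rho ∧
      f (om ^ 2) = D.rho * g * D.rho⁻¹ := by
    refine ⟨fun t => if t = 0 then 1 else if t = 1 then g else if t = om then D.rho⁻¹ * g * D.rho
      else D.rho * g * D.rho⁻¹, if_pos rfl, ?_, ?_, ?_⟩ <;> beta_reduce
    · rw [if_neg (by decide), if_pos rfl]
    · rw [if_neg (by decide), if_neg (by decide), if_pos rfl]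
    · rw [if_neg (by decide), if_neg (by decide), if_neg (by decide)]
  have hf : ∀ t, f (om ^ 2 * t) = D.rho * f t * D.rho⁻¹ := fun t => by
    rcases f4_cases t with rfl | rfl | rfl | rfl
    · rw [mul_zero, f0, mul_one, mul_inv_cancel]
    · rw [mul_one, f3, f1]
    · rw [← pow_succ, om_cube, f1, f2]; group
    · rw [show om ^ 2 * om ^ 2 = om by decide, f2, f3, e1]
  have e2 : f om = (g * f (om ^ 2))⁻¹ := by rw [f2, f3]; exact eq_inv_of_mul_eq_one_right g7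
  refine ⟨f, c, f0, f1 ▸ g4, f4_ind _
    (by rw [f0]; exact ⟨one_mem _, th_eq h (by rw [zero_mul, v0 h]; group)⟩)
    (by rw [f1]; exact ⟨g1, (one_mul _).symm⟩) fun t ht => ?_,
    f4_ind _ (by simp [f0]) (f1 ▸ g2) fun t ht p hp => ?_,
    f4_ind _ (by simp [f0]) (fun s => ?_) fun t ht s => ?_,
    f4_ind _ (by rw [f0, mul_zero, v0 h, mul_one]) (by rw [f1, mul_one, hc]) fun t ht => ?_,
    f4_ind _ (by simp [f0]) ?_ fun t ht => ?_, hf,
    fun k hk => f4_ind _ (by simp [f0]) (f1 ▸ g3 k hk) fun t ht => ?_⟩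
  · rw [hf]
    exact ⟨(rho_WW hF hR ht.1).1, by rw [(rho_WW hF hR ht.1).2, ht.2, mul_assoc]⟩
  · obtain ⟨p, hp', rfl⟩ := conj_surj (rho_U h) hp
    rw [hf]
    exact conj_comm (ht p hp') _
  · rw [← f3] at g6
    rcases f4_cases s with rfl | rfl | rfl | rfl
    · simp [f0]
    · rfl
    · rw [f1, e2]
      exact ((Commute.refl g).mul_right g6).inv_right.eq
    · rwa [f1]
  · rw [show s = om ^ 2 * (om * s) by rw [← mul_assoc, ← pow_succ, om_cube, one_mul], hf, hf]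
    exact conj_comm (ht _) _
  · rw [hf, show c * (om ^ 2 * t) = om ^ 2 * (c * t) by ring, ← conj_of_eq (h.rv _), ← ht]
    group
  · rw [mul_one, mul_one, f1, e2, f3, g6]; group
  · rw [mul_left_comm om, hf (om * t), hf (om ^ 2 * t), hf t]
    calc _ = D.rho * (f t * f (om * t) * f (om ^ 2 * t)) * D.rho⁻¹ := by rw [hf t]; group
      _ = _ := by rw [ht, mul_one, mul_inv_cancel]
  · have := conj_comm ht D.rho
    rwa [K_comm (hR.OK hk) rho_A, mul_inv_cancel_right, ← hf] at this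

theorem exists_ra : ∃ f c, RA D t O f c := by
  obtain ⟨f, c, f0, f1, fW, fP, ff, fs, f3, fρ, fI⟩ := exists_f hF hR
  obtain ⟨μ, hμ⟩ := (by decide : ∀ s : F4, s ≠ 0 → ∃ u, u * s = 1) _ f1
  refine ⟨fun y => f (y * μ), c * μ, by simp [f0], fun y => fP _, fun y => ?_, fun _ _ => ff _ _,
    fun y => by rw [fs]; ring_nf, by simpa using f3 μ, fun y => by rw [mul_assoc, fρ]; group,
    fun o ho y => (fI o ho _).symm⟩
  have := th_spec (fW (y * μ)).1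
  rw [(fW _).2, mul_assoc y, hμ, mul_one] at this
  exact eq_mul_of_mul_inv_eq this

end Cfsg.Agent.H72.ALRA

/-- The double of `V`. -/
theorem Cfsg.Agent.H72.ALRA.ra.{u} : Cfsg.Agent.H42.AL.RAStmt.{u} :=
  fun _ _ _ _ _ _ hF hR => Cfsg.Agent.H72.ALRA.exists_ra hF hR
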