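import Mathlib
import Cfsg.Agent.H72.ALRQ1

/-! The double of `U` (project AL). -/

set_option autoImplicit false

namespace Cfsg.Agent.H72.ALRQ

open Cfsg Subgroup Cfsg.Agent.H28 Cfsg.Agent.H42.AL Cfsg.Agent.H86.U3 Cfsg.Agent.H72.ALB
open Cfsg.Agent.H42.AS (om)
open Cfsg.Agent.H72.ASB (f4_cases f4_add om_cube om_sq one_of_add sq_of_add inv_of_add conj_of_eq)
open Cfsg.Agent.H72.ALRA (odd_O tA)
open scoped commutatorElement

universe u

theorem f4_ext {l l' : F4 → F4} (h : ∀ a b, l (a + b) = l a + l b)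
    (h' : ∀ a b, l' (a + b) = l' a + l' b) (h1 : l 1 = l' 1) (h2 : l om = l' om) (s : F4) :
    l s = l' s := by
  rcases f4_cases s with rfl | rfl | rfl | rfl
  · rw [show l 0 = 0 by simpa using h 0 0, show l' 0 = 0 by simpa using h' 0 0]
  · exact h1
  · exact h2
  · rw [om_sq, h, h', h1, h2]

set_option synthInstance.maxSize 1000 in
theorem f4_bil {x : F4 → F4 → F4} (h1 : ∀ a a' b, x (a + a') b = x a b + x a' b)
    (h2 : ∀ a b b', x a (b + b') = x a b + x a b')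
    (h3 : ∀ a b, x (om * a) (om * b) = om ^ 2 * x a b) (a b : F4) : x a b = x 1 1 * a * b := by
  have e1 := h3 1 1
  have e2 := h3 1 om
  have e3 := h3 om 1
  rw [mul_one] at e1
  rw [mul_one, ← pow_two, om_sq, h2, ← om_sq] at e2
  rw [mul_one, ← pow_two, om_sq, h1, ← om_sq] at e3
  obtain ⟨e4, e5, e6⟩ := (by decide : ∀ a b c d : F4, d = om ^ 2 * a → d + c = om ^ 2 * b →
    d + b = om ^ 2 * c → b = a * 1 * om ∧ c = a * om * 1 ∧ d = a * om * om) _ _ _ _ e1 e2 e3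
  exact f4_ext (l := fun a => x a b) (l' := fun a => x 1 1 * a * b) (fun _ _ => h1 _ _ _)
    (fun _ _ => by ring)
    (f4_ext (l := x 1) (l' := fun b => x 1 1 * 1 * b) (h2 _) (fun _ _ => by ring) (by ring) e4 b)
    (f4_ext (l := x om) (l' := fun b => x 1 1 * om * b) (h2 _) (fun _ _ => by ring) e5 e6 b) a

theorem p_add (a : F4 × F4) : a + a = 0 := Prod.ext (f4_add _) (f4_add _)

theorem tw_eq (a : F4 × F4) : tw false 1 a = (a.1 + a.2, a.2) := by simp [tw, pw]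

variable {G : Type u} [Group G] {D : RD G} {f : F4 → G}

theorem Vv_v (c : F4) (h0 : f 0 = 1) : Vv D f (c, 0) = D.xv c := by rw [Vv, h0, mul_one]

theorem Vv_f (h : D.Rel) (c : F4) : Vv D f (0, c) = f c := by rw [Vv, v0 h, one_mul]

theorem E_Us (a : F4 × F4) : Ee D f a ∈ Us D f := subset_closure (by simp)
theorem B_Us (a : F4 × F4) : Ee D.swap f a ∈ Us D f := subset_closure (by simp)
theorem V_Us (a : F4 × F4) : Vv D f a ∈ Us D f := subset_closure (by simp)

variable (hF : D.Fa) {t : G} {O : Subgroup G} {c : F4} (hR : RP D t O) (hA : RA D t O f c)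
include hF hA

theorem Ee_e (a : F4) : Ee D f (a, 0) = D.xe a := by
  rw [Ee, sE, hA.f0, mul_one, hF.rel.nb2, mul_one]

omit hF in
theorem U_Vv (h : D.Rel) {u : G} (hu : u ∈ D.U) (a : F4 × F4) : u * Vv D f a = Vv D f a * u :=
  (Commute.mul_right (U_v h hu _) (hA.fU _ u hu).symm).eq

theorem U_Us : D.U ≤ Us D f :=
  U_ind (fun a => Ee_e hF hA a ▸ E_Us _)
    (fun a => (show _ = D.xb a from Ee_e (fa_swap hF) (ra_swap hF.rel hA) a) ▸ B_Us _)
    fun a => Vv_v a hA.f0 ▸ V_Us _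

theorem rE (a : F4 × F4) : D.rho * Ee D f a = Ee D f (sc om a) * D.rho := by
  rw [Ee, Ee, sc, ← rho_s hF hA, ← mul_assoc, hF.rel.re]; group

theorem rV (a : F4 × F4) : D.rho * Vv D f a = Vv D f (sc (om ^ 2) a) * D.rho := by
  rw [Vv, Vv, sc, ← mul_assoc, hF.rel.rv, mul_assoc, hA.rf, mul_assoc]

include hR

theorem tV (a : F4 × F4) : t * Vv D f a = Vv D f (tw false 1 a) * t := by
  rw [tw_eq, Vv, Vv, mul_assoc, hA.ft, hF.rel.vv, ← mul_assoc, ← mul_assoc, ← mul_assoc,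
    mul_assoc _ t, ← tA hR (xv_A hF.rel a.1), mul_assoc _ (D.xv a.2), ← mul_assoc (D.xv a.2),
    tA hR (xv_A hF.rel a.2), mul_assoc t, v_sq hF.rel, mul_one]

theorem OE {o : G} (ho : o ∈ O) (a : F4 × F4) : o * Ee D f a = Ee D f a * o :=
  (Commute.mul_right (K_comm (hR.OK ho) (xe_A _)).symm (s_O hF hR hA ho _).symm).eq

theorem OV {o : G} (ho : o ∈ O) (a : F4 × F4) : o * Vv D f a = Vv D f a * o :=
  (Commute.mul_right (K_comm (hR.OK ho) (xv_A hF.rel _)).symm (hA.fO o ho _)).eq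

theorem tE (a : F4 × F4) : t * Ee D f a = Ee D f (tw false 1 a) * t := by
  rw [tw_eq, Ee, Ee, mul_assoc, s_t hF hR hA, hF.rel.ee, ← mul_assoc, ← mul_assoc, ← mul_assoc,
    mul_assoc _ t, ← tA hR (xe_A a.1), mul_assoc _ (D.xe a.2), ← mul_assoc (D.xe a.2),
    tA hR (xe_A a.2), mul_assoc t, sq_of_add hF.rel.ee, mul_one]

theorem Et (a : F4 × F4) : Ee D f a * t * (Ee D f a)⁻¹ = t * D.xe a.2 := by
  rw [Ee, mul_assoc (D.xe _), s_t hF hR hA, ← mul_assoc, ← mul_assoc, tA hR (xe_A _), mul_assoc t,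
    comm_of_add hF.rel.ee]
  group

variable [Finite G]

theorem VV (a b : F4 × F4) : Vv D f (a + b) = Vv D f a * Vv D f b := by
  rw [Vv, Vv, Vv, Prod.fst_add, Prod.snd_add, hF.rel.vv, f_add hF hR hA, mul_assoc, mul_assoc,
    ← mul_assoc (f _), hA.fU _ _ (xv_U _), mul_assoc]

theorem EE (a b : F4 × F4) : Ee D f (a + b) = Ee D f a * Ee D f b := by
  rw [Ee, Ee, Ee, Prod.fst_add, Prod.snd_add, hF.rel.ee, s_add hF hR hA, mul_assoc, mul_assoc,
    ← mul_assoc (sE _ _ _), s_e hF hA, mul_assoc]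

theorem s_Vv (β : F4) (a : F4 × F4) : sE D f β * Vv D f a = Vv D f a * sE D f β :=
  (Commute.mul_right (s_v hF hA β _) (s_f hF hR hA β _)).eq

theorem EV (a b : F4 × F4) : Ee D f a * Vv D f b = Vv D f b * Ee D f a :=
  (Commute.mul_left (U_Vv hA hF.rel (xe_U _) b) (s_Vv hF hR hA _ b)).eq

theorem charV {y : G} {n : ℕ} (h1 : y ^ 2 ^ n = 1) (h2 : ∀ u ∈ D.U, y * u = u * y) {x : F4}
    (h3 : y * t * y⁻¹ = t * D.xv x) : ∃ c, y = Vv D f c ∨ y = t * Vv D f c := by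
  have h := hF.rel
  obtain ⟨τ, a1, p, hp, rfl⟩ := st2 hF hR hA (z := 0) (fun s => h2 _ (xv_U s))
    (eq_mul_of_mul_inv_eq h3) (by rw [h2 _ (xe_U 1), v0 h, mul_one]) h1
  have a2 : ∀ u ∈ D.U, p * u = u * p := fun u hu => by
    have := h2 u hu
    rwa [← mul_assoc, ← tau_P hF hR hA a1 x hu, mul_assoc _ p, mul_assoc _ u, mul_right_inj] at this
  obtain ⟨z, rfl⟩ := ZU h hp (a2 _ (xe_U 1)) (a2 _ (xb_U 1))
  rcases a1 with rfl | rfl
  · exact ⟨(z, x), Or.inl (by rw [mul_one, hA.fU _ _ (xv_U z), Vv])⟩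
  · exact ⟨(x + z, x), Or.inr (by
      rw [hA.ft, mul_assoc, hA.fU _ _ (xv_U z), Vv, h.vv]; group)⟩

theorem ss (β β' : F4) : ∃ x, ⁅sE D f β, sE D.swap f β'⁆ = Vv D f (x, β * β') := by
  have h := hF.rel
  have hF' := fa_swap hF
  have hR' := rp_swap hR
  have hA' := ra_swap h hA
  have k : ∀ {a b z : G}, a * z = z * a → b * z = z * b → ⁅a, b⁆ * z = z * ⁅a, b⁆ :=
    fun h1 h2 => (((Commute.mul_left h1 h2).mul_left (Commute.inv_left h1)).mul_left
      (Commute.inv_left h2)).eq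
  have k2 : ∀ {a b z w : G}, a * z = z * a → a * w = w * a → b * w = w * b → w * w = 1 →
      b * z = w * z * b → b * b = 1 → ⁅a, b⁆ * z = z * ⁅a, b⁆ := fun {a b z w} h1 h2 h3 h4 h5 h6 => by
    rw [commutatorElement_def, inv_of_mul_self h6]
    calc _ = a * b * a⁻¹ * (w * z) * b := by rw [mul_assoc _ b, h5]; group
      _ = a * (b * w) * z * a⁻¹ * b := by rw [mul_assoc _ a⁻¹,
          (Commute.inv_left (Commute.mul_right h2 h1)).eq]; group
      _ = a * w * (b * z) * a⁻¹ * b := by rw [h3]; group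
      _ = a * (w * w) * z * b * a⁻¹ * b := by rw [h5]; group
      _ = _ := by rw [h4, mul_one, h1]; group
  have n := s_sq hF hR hA β
  have n' := s_sq hF' hR' hA' β'
  have cU : ∀ u ∈ D.U, ⁅sE D f β, sE D.swap f β'⁆ * u = u * ⁅sE D f β, sE D.swap f β'⁆ :=
    U_comm (fun x => k2 (s_e hF hA β x) (s_f hF hR hA β _) (s_f hF' hR' hA' β' _) (f_sq hF hR hA _)
      (s_b hF' hR' hA' β' x) n') (fun x => by
        rw [← commutatorElement_inv]
        exact (Commute.inv_left (k2 (s_e hF' hA' β' x) (s_f hF' hR' hA' β' _) (s_f hF hR hA β _)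
          (f_sq hF hR hA _) (s_b hF hR hA β x) n)).eq)
      fun x => k (s_v hF hA β x) (s_v hF' hA' β' x)
  have ct : ⁅sE D f β, sE D.swap f β'⁆ * t = t * D.xv (β * β') * ⁅sE D f β, sE D.swap f β'⁆ := by
    have a1 : sE D.swap f β' * t = t * D.xb β' * sE D.swap f β' := s_t hF' hR' hA' β'
    have a2 : sE D.swap f β' * D.xe β = f (β' * β) * D.xe β * sE D.swap f β' := s_b hF' hR' hA' β' β
    have a3 : sE D.swap f β' * D.xb β' = D.xb β' * sE D.swap f β' := s_e hF' hA' β' β'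
    have a4 := s_f hF' hR' hA' β' (β * β')
    have a5 : sE D f β * (t * D.xe β) = t * sE D f β := by
      rw [← mul_assoc, s_t hF hR hA, mul_assoc, s_e hF hA, mul_assoc, ← mul_assoc (D.xe β),
        sq_of_add h.ee, one_mul]
    rw [commutatorElement_def, inv_of_mul_self n, inv_of_mul_self n']
    generalize sE D.swap f β' = s' at a1 a2 a3 a4 ⊢
    calc _ = sE D f β * s' * (sE D f β * t) * D.xb β' * s' := by rw [mul_assoc _ s', a1]; group
      _ = sE D f β * (s' * t) * D.xe β * (sE D f β * D.xb β') * s' := by rw [s_t hF hR hA]; group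
      _ = sE D f β * t * D.xb β' * (s' * D.xe β) * f (β * β') * D.xb β' * sE D f β * s' := by
        rw [a1, s_b hF hR hA]; group
      _ = sE D f β * t * D.xb β' * (f (β * β') * D.xe β) * (s' * f (β * β')) * D.xb β' *
          sE D f β * s' := by rw [a2, mul_comm β']; group
      _ = sE D f β * t * (D.xb β' * D.xe β) * (f (β * β') * f (β * β')) * (s' * D.xb β') *
          sE D f β * s' := by rw [a4, hA.fU _ _ (xe_U β)]; group
      _ = sE D f β * (t * D.xe β) * D.xv (β' * β) * (D.xb β' * D.xb β') * s' * sE D f β * s' := by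
        rw [h.be, f_sq hF hR hA, a3]; group
      _ = _ := by rw [a5, sq_of_add h.bb, mul_assoc t, s_v hF hA, mul_comm β']; group
  obtain ⟨τ, a1, o, ho, p, hp, e⟩ := st hF hR hA (z := 0) (fun s => cU _ (xv_U s)) ct
    (by rw [cU _ (xe_U 1), v0 h, mul_one])
  have a2 : ∀ u ∈ D.U, p * u = u * p := fun u hu => by
    have := cU u hu
    rwa [e, ← mul_assoc, ← mul_assoc u _ o, ← tau_P hF hR hA a1 _ hu, mul_assoc _ u o,
      K_comm (hR.OK ho) (U_A h hu), ← mul_assoc, mul_assoc _ p, mul_assoc _ u, mul_right_inj] at this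
  obtain ⟨z, rfl⟩ := ZU h hp (a2 _ (xe_U 1)) (a2 _ (xb_U 1))
  obtain rfl : τ = 1 := a1.resolve_right fun a3 => t_f hF hR hA (by
    have := k (s_f hF hR hA β 1) (s_f hF' hR' hA' β' 1)
    rwa [e, a3, mul_assoc, ← hA.fU 1 _ hp, ← mul_assoc, mul_assoc _ o, hA.fO o ho, ← mul_assoc,
      ← mul_assoc, ← mul_assoc, ← mul_assoc, mul_left_inj, mul_left_inj, hA.ff 1, mul_assoc,
      mul_assoc, mul_right_inj] at this)
  have e' : ⁅sE D f β, sE D.swap f β'⁆ = Vv D f (z, β * β') * o := by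
    rw [e, mul_one, mul_assoc, ← K_comm (hR.OK ho) (xv_A h z), ← mul_assoc, hA.fU _ _ hp, Vv]
  have a3 : sE D f β * ⁅sE D f β, sE D.swap f β'⁆ = ⁅sE D f β, sE D.swap f β'⁆ * sE D f β := by
    rw [e']; exact (Commute.mul_right (s_Vv hF hR hA β _) (s_O hF hR hA ho β)).eq
  have a4 : ⁅sE D f β, sE D.swap f β'⁆ * ⁅sE D f β, sE D.swap f β'⁆ = 1 := by
    nth_rewrite 1 [eq_mul_inv_of_mul_eq a3.symm]
    rw [commutatorElement_def, inv_of_mul_self n, inv_of_mul_self n']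
    generalize sE D.swap f β' = s' at n' ⊢
    generalize sE D f β = s at n ⊢
    calc _ = (s * s) * s' * s * s' * (s * s) * s' * s * s' := by group
      _ = s' * s * (s' * s') * s * s' := by rw [n]; group
      _ = _ := by rw [n', mul_one, mul_assoc s', n, mul_one, n']
  rw [e', mul_assoc, ← mul_assoc o, OV hF hR hA ho, mul_assoc, ← mul_assoc, ← VV hF hR hA, p_add,
    show Vv D f 0 = 1 from (Vv_v 0 hA.f0).trans (v0 h), one_mul] at a4
  exact ⟨z, by rw [e', eq_one_of_odd_of_two (odd_O hR ho) (n := 1) (by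
    rw [pow_one, pow_two, a4]), mul_one]⟩

theorem ss' : ∃ c0, ∀ β β', ⁅sE D f β, sE D.swap f β'⁆ = Vv D f (c0 * β * β', β * β') := by
  have h := hF.rel
  have hF' := fa_swap hF
  have hR' := rp_swap hR
  have hA' := ra_swap h hA
  choose x e using ss hF hR hA
  have inj : ∀ {a a' b : F4}, Vv D f (a, b) = Vv D f (a', b) → a = a' := fun e =>
    v_inj h (mul_right_cancel e)
  refine ⟨x 1 1, fun β β' => ?_⟩
  refine (e β β').trans (congrArg (fun z => Vv D f (z, β * β')) (f4_bil (x := x)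
    (fun a a' b => inj (b := (a + a') * b) ?_) (fun a b b' => inj (b := a * (b + b')) ?_)
    (fun a b => inj (b := om * a * (om * b)) ?_) β β'))
  · rw [← e, s_add hF hR hA, commutatorElement_mul_left_eq_conj_mul, e, e, s_Vv hF hR hA,
      mul_inv_cancel_right, ← VV hF hR hA, add_comm, add_mul]
    rfl
  · have := s_Vv hF' hR' hA' b (x a b', a * b')
    rw [← e, s_add hF' hR' hA', commutatorElement_mul_right_eq_mul_conj, e, e, mul_assoc,
      mul_assoc, ← mul_assoc (sE _ _ _), show sE D.swap f b * Vv D f _ = Vv D f _ * _ from this,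
      mul_inv_cancel_right, ← VV hF hR hA, mul_add]
    rfl
  · have := rho_s hF' hA' b
    rw [rho_swap h] at this
    rw [← e, ← rho_s hF hA, ← this, ← conjugate_commutatorElement, e, conj_of_eq (rV hF hA _), sc]
    congr 2; ring

theorem exists_rq : ∃ c0, RQ D t O f c0 := by
  have h := hF.rel
  have hF' := fa_swap hF
  have hR' := rp_swap hR
  have hA' := ra_swap h hA
  obtain ⟨c0, hc⟩ := ss' hF hR hA
  have H : Hs (Ee D f) (Ee D.swap f) (Vv D f) (rm c0) := by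
    refine ⟨EE hF hR hA, EE hF' hR' hA', VV hF hR hA, EV hF hR hA, EV hF' hR' hA', fun a b => ?_⟩
    have a1 : sE D.swap f b.2 * D.xe a.1 = D.xe a.1 * Vv D f (0, b.2 * a.1) * sE D.swap f b.2 := by
      rw [Vv_f h, ← hA.fU _ _ (xe_U _)]; exact s_b hF' hR' hA' _ _
    have a2 : sE D.swap f b.2 * sE D f a.2 =
        Vv D f (c0 * a.2 * b.2, a.2 * b.2) * sE D f a.2 * sE D.swap f b.2 := by
      rw [← inv_of_mul_self (x := Vv D f _) (by
        rw [← H72.ALRQ.VV hF hR hA, p_add]; exact (Vv_v 0 hA.f0).trans (v0 h)), ← hc,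
        commutatorElement_def]
      group
    have a3 : D.xb b.1 * D.xe a.1 = D.xe a.1 * Vv D f (b.1 * a.1, 0) * D.xb b.1 := by
      rw [Vv_v _ hA.f0, h.be]
    have a4 : D.xb b.1 * sE D f a.2 = Vv D f (0, a.2 * b.1) * sE D f a.2 * D.xb b.1 := by
      rw [Vv_f h, ← s_f hF hR hA, mul_assoc, ← mul_inv_eq_iff_eq_mul.2 (s_b hF hR hA _ _),
        inv_of_mul_self (s_sq hF hR hA _), ← mul_assoc, ← mul_assoc, s_sq hF hR hA, one_mul]
    have a5 := U_Vv hA h (xb_U b.1)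
    calc _ = D.xb b.1 * (sE D.swap f b.2 * D.xe a.1) * sE D f a.2 := by rw [Ee, Ee]; group; rfl
      _ = D.xb b.1 * D.xe a.1 * Vv D f (0, b.2 * a.1) * (sE D.swap f b.2 * sE D f a.2) := by
        rw [a1]; group
      _ = D.xe a.1 * Vv D f (b.1 * a.1, 0) * (D.xb b.1 * (Vv D f (0, b.2 * a.1) *
          Vv D f (c0 * a.2 * b.2, a.2 * b.2))) * sE D f a.2 * sE D.swap f b.2 := by rw [a2, a3]; group
      _ = D.xe a.1 * (Vv D f (b.1 * a.1, 0) * (Vv D f (0, b.2 * a.1) *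
          Vv D f (c0 * a.2 * b.2, a.2 * b.2))) * (D.xb b.1 * sE D f a.2) * sE D.swap f b.2 := by
        rw [← VV hF hR hA, a5]; group
      _ = D.xe a.1 * (Vv D f (b.1 * a.1, 0) * (Vv D f (0, b.2 * a.1) *
          Vv D f (c0 * a.2 * b.2, a.2 * b.2)) * Vv D f (0, a.2 * b.1) * sE D f a.2) *
          (D.xb b.1 * sE D.swap f b.2) := by rw [a4]; group
      _ = _ := by
        rw [← VV hF hR hA, ← VV hF hR hA, ← VV hF hR hA, ← s_Vv hF hR hA, ← mul_assoc (D.xe _), Ee, Ee,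
          show (b.1 * a.1, 0) + ((0, b.2 * a.1) + (c0 * a.2 * b.2, a.2 * b.2)) + (0, a.2 * b.1) =
          rm c0 a b from Prod.ext (by simp [rm]; ring) (by simp [rm]; ring)]
        rfl
  have nf : ∀ a b c, Ee D f a * Ee D.swap f b * Vv D f c = 1 → a = 0 ∧ b = 0 ∧ c = 0 :=
    fun a b c e => by
      have a1 : Ee D.swap f b * Vv D f c = Ee D f a := by
        rw [mul_assoc] at e
        rw [eq_inv_of_mul_eq_one_right e, inv_of_mul_self (by rw [← H.EE, p_add, H.E0])]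
      have a2 := Et hF hR hA a
      have a3 : Ee D.swap f b * t * (Ee D.swap f b)⁻¹ = t * D.xb b.2 := Et hF' hR' hA' b
      have a4 : Vv D f c * t * (Vv D f c)⁻¹ = t * D.xv c.2 := by
        rw [Vv, mul_assoc (D.xv _), hA.ft, ← mul_assoc, ← mul_assoc, tA hR (xv_A h _), mul_assoc t,
          comm_of_add h.vv]
        group
      obtain ⟨b1, b2, b3⟩ := nf_inj h (a := a.2) (b := 0) (c := 0) (a' := 0) (b' := b.2) (c' := c.2)
        (mul_left_cancel (a := t) (by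
          rw [b0 h, v0 h, e0 h, mul_one, mul_one, one_mul, ← a2, ← a1, ← mul_assoc, ← a3,
            ← Vv_v c.2 hA.f0]
          calc _ = Ee D.swap f b * (Vv D f c * t * (Vv D f c)⁻¹) * (Ee D.swap f b)⁻¹ := by group
            _ = _ := by
              rw [a4, ← Vv_v c.2 hA.f0, ← mul_assoc, mul_assoc, mul_assoc _ (Ee D.swap f b)⁻¹,
                (Commute.inv_left (H.BV b _)).eq]))
      obtain ⟨a, a'⟩ := a
      obtain ⟨b, b'⟩ := b
      obtain ⟨c, c'⟩ := c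
      subst b1 b2 b3
      rw [Ee_e hF hA, Ee_e hF' hA', Vv_v _ hA.f0] at e
      obtain ⟨rfl, rfl, rfl⟩ := h.nf _ _ _ e
      exact ⟨rfl, rfl, rfl⟩
  have tM : ∀ a b c, t * (Ee D f a * Ee D.swap f b * Vv D f c) =
      Ee D f (tw false 1 a) * Ee D.swap f (tw false 1 b) * Vv D f (tw false 1 c) * t :=
    fun a b c => by
      rw [← mul_assoc, ← mul_assoc, tE hF hR hA, mul_assoc _ t, tE hF' hR' hA', ← mul_assoc,
        mul_assoc _ t, tV hF hR hA, ← mul_assoc]
  have OU : ∀ o ∈ O, ∀ y ∈ Us D f, o * y = y * o := fun o ho y hy => by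
    obtain ⟨a, b, c, rfl⟩ := H.unf hy
    exact ((Commute.mul_right (OE hF hR hA ho a) (OE hF' hR' hA' ho b)).mul_right
      (OV hF hR hA ho c)).eq
  have inv : ∀ y ∈ Us D f, t * y * (t * y) = 1 → ∃ w ∈ Us D f, w * t * w⁻¹ = t * y :=
    fun y hy e => by
      obtain ⟨⟨a, a'⟩, ⟨b, b'⟩, ⟨c, c'⟩, rfl⟩ := H.unf hy
      nth_rewrite 1 [tM] at e
      rw [mul_assoc, ← mul_assoc t, hR.t2, one_mul, H.mul] at e
      obtain ⟨e1, e2, e3⟩ := nf _ _ _ e
      simp only [tw_eq, rm, Prod.mk_add_mk, Prod.mk_eq_zero] at e1 e2 e3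
      obtain rfl : a' = 0 := by rw [← e1.1, add_right_comm, f4_add, zero_add]
      obtain rfl : b' = 0 := by rw [← e2.1, add_right_comm, f4_add, zero_add]
      obtain rfl : c' = a * b := (by decide : ∀ c c' x : F4, c + c' + c + x = 0 → c' = x) c c' _
        (by simpa using e3.1)
      refine ⟨_, mul_mem (mul_mem (E_Us (0, a)) (B_Us (0, b))) (V_Us (0, c)), ?_⟩
      rw [mul_inv_eq_iff_eq_mul, mul_assoc t, H.mul, tM]
      simp only [tw_eq, rm, Prod.mk_add_mk, zero_add, add_zero, mul_zero, zero_mul, add_right_comm _ c,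
        f4_add]
  refine ⟨c0, H.EE, H.BB, H.VV, H.EV, H.BV, H.BE, nf, fun _ => H.unf, ?_, tE hF hR hA,
    tE hF' hR' hA', tV hF hR hA, rE hF hA, fun a => rho_swap h ▸ rE hF' hA' a, rV hF hA, OU, inv,
    fun y ⟨_, h1⟩ h2 ⟨_, h3⟩ => charV hF hR hA h1 h2 h3, fun y ⟨n, h1⟩ h2 h3 ⟨u, hu, z, h4⟩ => ?_⟩
  · rw [Us, H.card nf, Nat.card_eq_fintype_card]; decide
  have cV : ∀ w ∈ Us D f, ∀ z, w * Vv D f z = Vv D f z * w := fun w hw z => by
    obtain ⟨a, b, c, rfl⟩ := H.unf hw; exact H.cV _ _ _ _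
  obtain ⟨w, hw, e⟩ := inv _ (mul_mem (U_Us hF hA hu) (V_Us z)) (by
    rw [← mul_assoc t u, ← h4, conj_sq hR.t2])
  have a1 : w⁻¹ * y * t = t * (w⁻¹ * y) := by
    calc _ = w⁻¹ * (y * t * y⁻¹) * y := by group
      _ = _ := by rw [h4, mul_assoc t u, ← e]; group
  have a2 := hR.ct _ a1
  obtain ⟨p, hp, k, hk, e'⟩ := hF.par.cUV _ a2 fun p hp => by
    obtain ⟨x, hx⟩ := h3 p hp
    obtain ⟨x', hx'⟩ : ∃ x', ⁅w⁻¹, p⁆ = Vv D f x' := by
      obtain ⟨a, b, c, e1⟩ := H.unf (inv_mem hw)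
      obtain ⟨a', b', c', e2⟩ := H.unf (U_Us hF hA hp)
      exact ⟨_, by rw [e1, e2, H.comm]⟩
    have b1 : ⁅w⁻¹ * y, p⁆ = Vv D f (x + x') := by
      rw [commutatorElement_mul_left_eq_conj_mul, hx, hx', cV _ (inv_mem hw), mul_inv_cancel_right,
        H.VV]
    have b2 := tA hR (mul_mem ((mem_normalizer_iff.1 a2 p).1 (U_A h hp)) (inv_mem (U_A h hp)))
    rw [← commutatorElement_def, b1, tV hF hR hA, mul_left_inj, tw_eq] at b2
    have b3 := v_inj h (mul_right_cancel b2)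
    rw [left_eq_add] at b3
    rw [b1, Vv, b3, hA.f0, mul_one]
    exact xv_V _
  have a3 : k * f 1 = f 1 * k := by
    have := Commute.mul_left (Commute.inv_left (cV w hw (0, 1))) (h2 (0, 1))
    rw [e', Vv_f h] at this
    simpa using ((Commute.inv_left (hA.fU 1 p hp).symm).mul_left this).eq
  rw [e', mul_assoc, ← mul_assoc t, ← tA hR (U_A h hp), mul_assoc, mul_right_inj] at a1
  have a4 : k ∈ O := (hR.cKt k hk a1).resolve_right fun a => t_f hF hR hA (by
    simpa using (Commute.mul_left (hA.fO _ a 1) (Commute.inv_left a3)).eq)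
  have a5 : y = w * p * k := by rw [mul_assoc, ← e', mul_inv_cancel_left]
  have a6 := mul_mem hw (U_Us hF hA hp)
  have a7 : (w * p) ^ 4 = 1 := by
    obtain ⟨a, b, c, e1⟩ := H.unf a6
    rw [show 4 = 2 * 2 by rfl, pow_mul, pow_two, pow_two, e1, H.mul a b c, p_add, p_add, H.E0, H.B0,
      one_mul, one_mul, ← H.VV, p_add, H.V0]
  have a8 : y ^ (4 * 2 ^ n) = 1 := by rw [mul_comm 4, pow_mul, h1, one_pow]
  rw [a5, (Commute.symm (OU k a4 _ a6)).mul_pow, pow_mul, a7, one_pow, one_mul,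
    show 4 * 2 ^ n = 2 ^ (n + 2) by ring] at a8
  rwa [a5, eq_one_of_odd_of_two (odd_O hR a4) a8, mul_one]

end Cfsg.Agent.H72.ALRQ

/-- The double of `U`. -/
theorem Cfsg.Agent.H72.ALRQ.rq.{u} : Cfsg.Agent.H42.AL.RQStmt.{u} :=
  fun _ _ _ _ _ _ _ _ hF hR hA => Cfsg.Agent.H72.ALRQ.exists_rq hF hR hA
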