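import Cfsg.Agent.H96.VbDefs
import Cfsg.Agent.H92.UL3
import Cfsg.Agent.H72.O8Tor

/-! Project VB (S5262), piece RIG: the torus and the two reflections lie in the automizers. -/

set_option autoImplicit false
set_option linter.unusedSimpArgs false
set_option linter.unnecessarySeqFocus false

namespace Cfsg.Agent.H72.VB

open Cfsg.Agent.H39 Cfsg.Agent.H15.O8 Cfsg.Agent.H97 Cfsg.Agent.H96.VB Cfsg.Agent.H92.UL Subgroup
open Cfsg.Agent.H72.O8T hiding tor
open scoped commutatorElement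

universe u

theorem sec2 {X B : Type*} [Group X] [Finite X] [Group B] [Finite B] (M : Subgroup X)
    [hM : M.Normal] (h2 : IsPGroup 2 M) (ho : Odd (Nat.card B)) (s t : B →* X)
    (h : ∀ c, (s c)⁻¹ * t c ∈ M) : ∃ g ∈ M, ∀ c, t c = g * s c * g⁻¹ := by
  let P : Subgroup (X × B) :=
    { carrier := {p | (s p.2)⁻¹ * p.1 ∈ M}
      one_mem' := by simp
      mul_mem' := fun {p q} hp hq => by
        have := M.mul_mem (hM.conj_mem _ hp (s q.2)⁻¹) hq
        simpa [mul_assoc] using this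
      inv_mem' := fun {p} hp => by
        have := hM.conj_mem _ (M.inv_mem hp) (s p.2)
        simpa [mul_assoc] using this }
  have hP : IsPGroup 2 ((MonoidHom.snd X B).comp P.subtype).ker := fun g => by
    have h1 : g.1.1.2 = 1 := g.2
    have h3 : g.1.1.1 ∈ M := by
      have : (s g.1.1.2)⁻¹ * g.1.1.1 ∈ M := g.1.2
      simpa [h1] using this
    obtain ⟨k, hk⟩ := h2 ⟨_, h3⟩
    exact ⟨k, Subtype.ext (Subtype.ext (Prod.ext (congrArg Subtype.val hk) (by simp [h1])))⟩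
  obtain ⟨g, hg, e⟩ := sec_conj hP ho
    (s := (s.prod (MonoidHom.id _)).codRestrict P fun c => by
      change (s c)⁻¹ * s c ∈ M
      simp)
    (t := (t.prod (MonoidHom.id _)).codRestrict P h) (fun _ => rfl) fun _ => rfl
  have h1 : g.1.2 = 1 := hg
  refine ⟨g.1.1, ?_, fun c => congrArg (fun x => x.1.1) (e c)⟩
  have : (s g.1.2)⁻¹ * g.1.1 ∈ M := g.2
  simpa [h1] using this

theorem adj_aux {X : Type*} [Group X] {n a g b : X} (h : n * a * n⁻¹ = g * b * g⁻¹) :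
    g⁻¹ * n * a = b * (g⁻¹ * n) := by
  calc _ = g⁻¹ * (n * a * n⁻¹) * n := by group
    _ = _ := by rw [h]; group

variable {K : Type u} [Field K] {T : Tits K}

/-- The restriction of the torus to an invariant subgroup. -/
def resT (N : Subgroup (U T)) (hN : ∀ c, ∀ g ∈ N, tor T c g ∈ N) : Kˣ × Kˣ →* MulAut N where
  toFun c :=
    { toFun := fun x => ⟨tor T c x, hN c x x.2⟩
      invFun := fun x => ⟨tor T c⁻¹ x, hN c⁻¹ x x.2⟩
      left_inv := fun x => Subtype.ext (by simp)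
      right_inv := fun x => Subtype.ext (by simp)
      map_mul' := fun x y => Subtype.ext (by simp) }
  map_one' := MulEquiv.ext fun x => Subtype.ext (by simp)
  map_mul' c d := MulEquiv.ext fun x => Subtype.ext (by simp)

theorem ext_resT {N : Subgroup (U T)} (hN : ∀ c, ∀ g ∈ N, tor T c g ∈ N) (c : Kˣ × Kˣ) {x : U T}
    (hx : x ∈ N) : ext (resT N hN c) x = tor T c x := by
  rw [ext_apply _ hx]; rfl

/-- Adjusting a reflection so that it normalises the torus. -/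
theorem adjust [Finite K] {N : Subgroup (U T)} (hN : ∀ c, ∀ g ∈ N, tor T c g ∈ N)
    {A : Subgroup (MulAut N)} (hA : LA N A) (sw : Kˣ × Kˣ →* Kˣ × Kˣ) {n : MulAut N} (hn : n ∈ A)
    (h : ∀ c, ∃ e ∈ N, ∀ x ∈ N,
      ext ((resT N hN c)⁻¹ * (n * resT N hN (sw c) * n⁻¹)) x = e * x * e⁻¹) :
    ∃ n' ∈ A, (∃ e ∈ N, ∀ x ∈ N, ext n' x = e * ext n x * e⁻¹) ∧
      ∀ c, ∀ x ∈ N, ext n' (tor T (sw c) x) = tor T c (ext n' x) := by
  have h2 : IsPGroup 2 (Inn N) := by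
    rw [inn_eq_autInducedBy]
    exact isPGroup_autInducedBy (isPGroup_U.to_subgroup N)
  obtain ⟨g, hg, e⟩ := sec2 (Inn N) h2 (odd_A (T := T)) (resT N hN)
    ((MulAut.conj n).toMonoidHom.comp ((resT N hN).comp sw)) fun c => mem_inn_iff.2 (h c)
  obtain ⟨r, hr, er⟩ := mem_inn_iff.1 (inv_mem hg)
  refine ⟨g⁻¹ * n, A.mul_mem (hA.cj r _ er) hn,
    ⟨r, hr, fun x hx => by rw [ext_mul, er _ (ext_mem _ hx)]⟩, fun c x hx => ?_⟩
  have e1 : n * resT N hN (sw c) * n⁻¹ = g * resT N hN c * g⁻¹ := e c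
  have e2 := adj_aux e1
  rw [← ext_resT hN _ hx, ← ext_mul, e2, ext_mul, ext_resT hN _ (ext_mem _ hx)]

/-! ### The subgroup `Q` -/

/-- Congruence modulo `D` -/
def Eqv (x y : U T) : Prop := x.a1 = y.a1 ∧ x.b2 = y.b2 ∧ x.b6 = y.b6 ∧ x.a7 = y.a7

theorem Eqv.symm {x y : U T} (h : Eqv x y) : Eqv y x :=
  ⟨h.1.symm, h.2.1.symm, h.2.2.1.symm, h.2.2.2.symm⟩

theorem Eqv.trans {x y z : U T} (h : Eqv x y) (k : Eqv y z) : Eqv x z :=
  ⟨h.1.trans k.1, h.2.1.trans k.2.1, h.2.2.1.trans k.2.2.1, h.2.2.2.trans k.2.2.2⟩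

theorem modD {x y : U T} (hx : x ∈ Q T) (hy : y ∈ Q T) : x⁻¹ * y ∈ D T ↔ Eqv x y := by
  obtain ⟨h1, h2⟩ := hx
  obtain ⟨k1, k2⟩ := hy
  unfold Eqv
  o8s
  simp only [h1, h2, k1, k2, map_zero, mul_zero, zero_mul, add_zero, and_true]
  have := T.charP
  grind

theorem Eqv.w8 {x y : U T} (h : Eqv x y) : Eqv (w8 x) (w8 y) := ⟨h.2.2.2, h.2.2.1, h.2.1, h.1⟩

theorem Eqv.tor {x y : U T} (h : Eqv x y) (c : Kˣ × Kˣ) : Eqv (tor T c x) (tor T c y) := by
  obtain ⟨h1, h2, h3, h4⟩ := h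
  simp [Eqv, tor_apply, sc, h1, h2, h3, h4]

theorem eqv_conj {e x : U T} (he : e ∈ Q T) (hx : x ∈ Q T) : Eqv (e * x * e⁻¹) x := by
  obtain ⟨h1, h2⟩ := hx
  obtain ⟨k1, k2⟩ := he
  unfold Eqv
  o8s
  simp only [h1, h2, k1, k2, map_zero, mul_zero, zero_mul, add_zero, and_true]
  have := T.charP
  grind

variable (T) in
/-- The action of `w8` on the torus. -/
def swQ : Kˣ × Kˣ →* Kˣ × Kˣ where
  toFun c := (c.1, θu T c.1 / c.2)
  map_one' := by simp
  map_mul' c d := Prod.ext rfl (by simp [mul_div_mul_comm])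

theorem swQ_swQ (c : Kˣ × Kˣ) : swQ T (swQ T c) = c := Prod.ext rfl (by simp [swQ])

theorem w8_tor (c : Kˣ × Kˣ) {g : U T} (h : g ∈ Q T) :
    w8 (tor T (swQ T c) g) = tor T c (w8 g) := by
  obtain ⟨a, b⟩ := c
  obtain ⟨h1, h2⟩ := h
  have ha : (a : K) * (a : K)⁻¹ = 1 := by simp
  have hb : (b : K) * (b : K)⁻¹ = 1 := by simp
  have ha' : T.θ a * T.θ (a : K)⁻¹ = 1 := by rw [← map_mul, ha, map_one]
  have hb' : T.θ b * T.θ (b : K)⁻¹ = 1 := by rw [← map_mul, hb, map_one]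
  have e1 : ((θu T a / b : Kˣ) : K) = T.θ a * (b : K)⁻¹ := by simp [div_eq_mul_inv]
  have e2 : ((θu T a / b : Kˣ) : K)⁻¹ = T.θ (a : K)⁻¹ * b := by rw [e1]; simp [mul_comm]
  change w8 (sc (a : K) (θu T a / b : Kˣ) (a : K)⁻¹ ((θu T a / b : Kˣ) : K)⁻¹ g) =
    sc (a : K) b (a : K)⁻¹ (b : K)⁻¹ (w8 g)
  rw [e2, e1]
  generalize (a : K)⁻¹ = a' at *
  generalize (b : K)⁻¹ = b' at *
  ext <;> o8s <;> o8ring T

set_option maxRecDepth 4000 in
theorem nfQ {g : U T} (hg : g ∈ Q T) : g = x1 T g.a1 * y2 T g.b2 * x2 T g.a2 * x3 T g.a3 *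
    y4 T g.b4 * x4 T g.a4 * x5 T g.a5 * y6 T g.b6 * x6 T g.a6 * x7 T g.a7 := by
  obtain ⟨h1, h2⟩ := hg
  ext <;> o8s <;> assumption

theorem r2 (t d : K) : x1 T 1 * (y4 T t * x4 T d) = y4 T t * x4 T d * x1 T 1 * x2 T t := by
  ext <;> o8s <;> o8ring T

theorem r2' (t : K) : x1 T 1 * y4 T t = y4 T t * x1 T 1 * x2 T t := by
  ext <;> o8s <;> o8ring T

theorem rigQ [Finite K] (hq : 2 < Nat.card K) (γ : U T → U T)
    (hm : ∀ g ∈ Q T, ∀ k ∈ Q T, γ (g * k) = γ g * γ k) (hQ : ∀ g ∈ Q T, γ g ∈ Q T)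
    (hD : ∀ g ∈ Q T, Eqv (γ g) g)
    (ht : ∀ c, ∀ g ∈ Q T, γ (tor T c g) = tor T c (γ g)) (g : U T) (hg : g ∈ Q T) : γ g = g := by
  obtain ⟨a, h0, h1⟩ := exists_ne hq
  have ha := T.θ_ne_zero.2 h0
  have q : ∀ {x : U T}, x.b8 = 0 → x.a8 = 0 → x ∈ Q T := fun a b => ⟨a, b⟩
  have u1 : ∀ x ∈ U1 T, x = x1 T x.a1 := fun x ⟨b1, b2, b3, b4, b5, b6, b7, b8, b9, b10, b11⟩ => by
    ext <;> o8s <;> assumption
  have x1f : ∀ t, γ (x1 T t) = x1 T t := fun t => by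
    rw [u1 _ (fix1 hq (γ (x1 T t)) fun c => by rw [← ht _ _ (q rfl rfl), tor_x1]),
      (hD _ (q rfl rfl)).1]
    rfl
  have x7f : ∀ t, γ (x7 T t) = x7 T t := fun t => by
    have e0 : ∀ t, w8 (x1 T t) = x7 T t := fun t => by ext <;> o8s
    have e1 := u1 _ (fix1 hq (w8 (γ (x7 T t))) fun c => by
      rw [← w8_tor _ (hQ _ (q rfl rfl)), ← ht _ _ (q rfl rfl), ← e0, ← w8_tor _ (q rfl rfl),
        swQ_swQ, tor_x1])
    rw [← w8_w8 (hQ _ (q rfl rfl : x7 T t ∈ Q T)), e1, e0]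
    exact congrArg (x7 T) (hD _ (q rfl rfl)).2.2.2
  have rel : ∀ g k c : U T, g ∈ Q T → k ∈ Q T → c ∈ Q T → g * k = k * g * c →
      γ g * γ k = γ k * γ g * γ c := fun g k c hg hk hc e => by
    rw [← hm _ hg _ hk, e, hm _ (mul_mem hk hg) _ hc, hm _ hk _ hg]
  have rel' : ∀ g k c : U T, g ∈ Q T → k ∈ Q T → c ∈ Q T → g * k = k * g * c →
      γ g = g → γ k = k → γ c = c := fun g k c hg hk hc e e1 e2 => by
    have := rel g k c hg hk hc e
    rw [e1, e2, e] at this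
    exact (mul_left_cancel this).symm
  have y2a : ∀ t, γ (y2 T t) = y2 T t * x2 T (γ (y2 T t)).a2 := fun t => by
    have e := fix2 h0 h1 (γ (y2 T t)) (by
      rw [← ht _ _ (q rfl rfl)]; congr 1; ext <;> simp [tor_apply, sc, y2, ha])
    have e3 : (γ (y2 T t)).b2 = t := (hD _ (q rfl rfl)).2.1
    rwa [e3] at e
  have x2f : ∀ t, γ (x2 T t) = x2 T t := fun t => by
    obtain ⟨u, rfl⟩ := nrm_surj (T := T) t
    have e2 := hm (y2 T u) (q rfl rfl) (y2 T u) (q rfl rfl)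
    rwa [sq2, y2a, sq2'] at e2
  have y2f : ∀ t, γ (y2 T t) = y2 T t := fun t => by
    have : (γ (y2 T t)).a2 = 0 := by
      refine delta (T := T) h0 h1 (fun t => (γ (y2 T t)).a2) (fun c hc => ?_) (fun t u => ?_) t
      · have hc' := T.θ_ne_zero.2 hc
        have e := ht (1, (Units.mk0 c hc)⁻¹) (y2 T 1) (q rfl rfl)
        rw [show tor T (1, (Units.mk0 c hc)⁻¹) (y2 T 1) = y2 T c by
          ext <;> simp [tor_apply, sc, y2]] at e
        replace e := congrArg U.a2 e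
        simpa [tor_apply, sc] using e
      · have e := hm (y2 T t) (q rfl rfl) (y2 T u) (q rfl rfl)
        rw [yy2, hm _ (q rfl rfl) _ (q rfl rfl), x2f, y2a, y2a t, y2a u] at e
        replace e := congrArg U.a2 e
        generalize (γ (y2 T (t + u))).a2 = d1 at *
        generalize (γ (y2 T t)).a2 = d2 at *
        generalize (γ (y2 T u)).a2 = d3 at *
        o8s at e
        o8g T
    rw [y2a, this]
    ext <;> o8s
  have y6a : ∀ t, γ (y6 T t) = y6 T t * x6 T (γ (y6 T t)).a6 := fun t => by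
    have e := fix6 h0 h1 (γ (y6 T t)) (by
      rw [← ht _ _ (q rfl rfl)]; congr 1; ext <;> simp [tor_apply, sc, y6])
    have e3 : (γ (y6 T t)).b6 = t := (hD _ (q rfl rfl)).2.2.1
    rwa [e3] at e
  have x6f : ∀ t, γ (x6 T t) = x6 T t := fun t => by
    obtain ⟨u, rfl⟩ := nrm_surj (T := T) t
    have e2 := hm (y6 T u) (q rfl rfl) (y6 T u) (q rfl rfl)
    rwa [sq6, y6a, sq6'] at e2
  have y6f : ∀ t, γ (y6 T t) = y6 T t := fun t => by
    have : (γ (y6 T t)).a6 = 0 := by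
      refine delta (T := T) h0 h1 (fun t => (γ (y6 T t)).a6) (fun c hc => ?_) (fun t u => ?_) t
      · have hc' := T.θ_ne_zero.2 hc
        have e := ht (1, Units.mk0 c hc) (y6 T 1) (q rfl rfl)
        rw [show tor T (1, Units.mk0 c hc) (y6 T 1) = y6 T c by
          ext <;> simp [tor_apply, sc, y6]] at e
        replace e := congrArg U.a6 e
        simpa [tor_apply, sc] using e
      · have e := hm (y6 T t) (q rfl rfl) (y6 T u) (q rfl rfl)
        rw [yy6, hm _ (q rfl rfl) _ (q rfl rfl), x6f, y6a, y6a t, y6a u] at e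
        replace e := congrArg U.a6 e
        generalize (γ (y6 T (t + u))).a6 = d1 at *
        generalize (γ (y6 T t)).a6 = d2 at *
        generalize (γ (y6 T u)).a6 = d3 at *
        o8s at e
        o8g T
    rw [y6a, this]
    ext <;> o8s
  have y4a : ∀ t, γ (y4 T t) = y4 T t * x4 T (γ (y4 T t)).a4 := fun t => by
    have e := fix4 h0 h1 (γ (y4 T t)) (by
      rw [← ht _ _ (q rfl rfl)]; congr 1; ext <;> simp [tor_apply, sc, y4])
    have e2 := rel (x1 T 1) (y4 T t) (x2 T t) (q rfl rfl) (q rfl rfl) (q rfl rfl) (r2' t)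
    rw [x1f, x2f, e, r2] at e2
    have e3 : (γ (y4 T t)).b4 = t := congrArg U.a2 (mul_left_cancel e2)
    rwa [e3] at e
  have x4f : ∀ t, γ (x4 T t) = x4 T t := fun t => by
    obtain ⟨u, rfl⟩ := nrm_surj (T := T) t
    have e2 := hm (y4 T u) (q rfl rfl) (y4 T u) (q rfl rfl)
    rwa [sq4, y4a, sq4'] at e2
  have y4f : ∀ t, γ (y4 T t) = y4 T t := fun t => by
    have : (γ (y4 T t)).a4 = 0 := by
      refine delta (T := T) h0 h1 (fun t => (γ (y4 T t)).a4) (fun c hc => ?_) (fun t u => ?_) t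
      · have hc' := T.θ_ne_zero.2 hc
        have e := ht (Units.mk0 c hc, 1) (y4 T 1) (q rfl rfl)
        rw [show tor T (Units.mk0 c hc, 1) (y4 T 1) = y4 T c by
          ext <;> simp [tor_apply, sc, y4]] at e
        replace e := congrArg U.a4 e
        simpa [tor_apply, sc] using e
      · have e := hm (y4 T t) (q rfl rfl) (y4 T u) (q rfl rfl)
        rw [yy4, hm _ (q rfl rfl) _ (q rfl rfl), x4f, y4a, y4a t, y4a u] at e
        replace e := congrArg U.a4 e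
        generalize (γ (y4 T (t + u))).a4 = d1 at *
        generalize (γ (y4 T t)).a4 = d2 at *
        generalize (γ (y4 T u)).a4 = d3 at *
        o8s at e
        o8g T
    rw [y4a, this]
    ext <;> o8s
  have x3f : ∀ t, γ (x3 T t) = x3 T t := fun t =>
    rel' (y2 T t) (y4 T 1) _ (q rfl rfl) (q rfl rfl) (q rfl rfl) (r3 t) (y2f _) (y4f _)
  have x5f : ∀ t, γ (x5 T t) = x5 T t := fun t =>
    rel' (y4 T t) (y6 T 1) _ (q rfl rfl) (q rfl rfl) (q rfl rfl) (r5 t) (y4f _) (y6f _)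
  have mul : ∀ g k : U T, (g ∈ Q T ∧ γ g = g) → (k ∈ Q T ∧ γ k = k) →
      (g * k ∈ Q T ∧ γ (g * k) = g * k) := fun g k hg hk =>
    ⟨mul_mem hg.1 hk.1, by rw [hm _ hg.1 _ hk.1, hg.2, hk.2]⟩
  rw [nfQ hg]
  refine (mul _ _ (mul _ _ (mul _ _ (mul _ _ (mul _ _ (mul _ _ (mul _ _ (mul _ _ (mul _ _
    ⟨q rfl rfl, x1f _⟩ ⟨q rfl rfl, y2f _⟩) ⟨q rfl rfl, x2f _⟩) ⟨q rfl rfl, x3f _⟩)
    ⟨q rfl rfl, y4f _⟩) ⟨q rfl rfl, x4f _⟩) ⟨q rfl rfl, x5f _⟩) ⟨q rfl rfl, y6f _⟩)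
    ⟨q rfl rfl, x6f _⟩) ⟨q rfl rfl, x7f _⟩).2

theorem conj_x6 (s : U T) (t : K) : (s * x6 T t * s⁻¹).a6 = t := by
  have e : s * x6 T t = x4 T (s.a1 * t) * x6 T t * s := by ext <;> o8s <;> o8ring T
  rw [e, mul_inv_cancel_right]
  o8s

theorem conj_x4 (s : U T) (t : K) : s * x4 T t * s⁻¹ = x4 T t := by
  rw [cZ _ (by o8s) s, mul_inv_cancel_right]

/-- reading off an element of `C` from its action on `Z` and `W / Z` -/
theorem read [Finite K] {s : U T} {c : Kˣ × Kˣ} {φ : RingAut K} {a b : Kˣ}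
    (h4 : ∀ t, (MulAut.conj s * (tor T c * fld T φ)) (x4 T t) = x4 T (a * T.θ a * t))
    (h6 : ((MulAut.conj s * (tor T c * fld T φ)) (x6 T 1)).a6 = b * T.θ b) :
    tor T c * fld T φ = tor T (a, b) := by
  have e4 : ∀ t, c.1 * T.θ c.1 * φ t = a * T.θ a * t := fun t => by
    have := h4 t
    rw [MulAut.mul_apply, MulAut.mul_apply, MulAut.conj_apply,
      show tor T c (fld T φ (x4 T t)) = x4 T (c.1 * T.θ c.1 * φ t) by
        ext <;> simp [tor_apply, sc, fld_apply, fmap, x4], conj_x4] at this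
    exact congrArg U.a4 this
  have e1 : c.1 = a := Units.ext (nrm_inj (T := T) (by simpa using e4 1))
  have e2 : φ = 1 := RingEquiv.ext fun t => by
    have := e4 t
    rw [e1] at this
    exact mul_left_cancel₀ (mul_ne_zero a.ne_zero (T.θ_ne_zero.2 a.ne_zero)) this
  rw [e2, map_one, mul_one] at h6 ⊢
  rw [MulAut.mul_apply, MulAut.conj_apply, show tor T c (x6 T 1) = x6 T (c.2 * T.θ c.2) by
    ext <;> simp [tor_apply, sc, x6], conj_x6] at h6
  rw [← e1, ← Units.ext (nrm_inj (T := T) h6)]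

theorem rigS' [Finite K] (h2 : AEStmt T) (h4 : AQStmt T) : RigStmt T := by
  intro hq C L AQ AE hL hC bQ bE nQ nE
  obtain ⟨kE, -, bigE⟩ := h2 AE bE.toLA
  obtain ⟨kQ, -, bigQ⟩ := h4 AQ bQ.toLA
  obtain ⟨⟨nE, hnE, sE⟩, dE⟩ := bigE nE
  obtain ⟨⟨nQ, hnQ, sQ⟩, dQ⟩ := bigQ nQ
  have t1 : ∀ a : Kˣ, tor T (a, a⁻¹) ∈ L := fun a => by
    obtain ⟨δ, hδ, nm, e⟩ := dE (a * θu T a)
    obtain ⟨β, hβ, eβ⟩ := bE.ext δ hδ nm
    obtain ⟨s, l, hl, rfl⟩ := (hC β).1 hβ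
    obtain ⟨c, φ, rfl⟩ := hL l hl
    rwa [read (s := s) (a := a) (b := a⁻¹)
      (fun t => by rw [← eβ _ rfl, (e t).1]; rfl)
      (by rw [← eβ _ rfl, (e 1).2]; simp [x6, mul_comm])] at hl
  have t2 : ∀ b : Kˣ, tor T (1, b) ∈ L := fun b => by
    obtain ⟨δ, hδ, nm, e⟩ := dQ (b * θu T b)
    obtain ⟨β, hβ, eβ⟩ := bQ.ext δ hδ nm
    obtain ⟨s, l, hl, rfl⟩ := (hC β).1 hβ
    obtain ⟨c, φ, rfl⟩ := hL l hl
    rwa [read (s := s) (a := 1) (b := b)
      (fun t => by rw [← eβ _ ⟨rfl, rfl⟩, (e t).1]; simp)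
      (by
        rw [← eβ _ ⟨rfl, rfl⟩]
        have h1 := (e 1).2
        obtain ⟨z, hz, ez⟩ : ∃ z ∈ Z T, ext δ (x6 T 1) = x6 T ((b * θu T b : Kˣ) * 1) * z :=
          ⟨_, h1, by group⟩
        obtain ⟨z1, z2, z3, z4, z5, z6, z7, z8, z9, z10, z11⟩ := hz
        rw [ez]
        o8s
        simp [*])] at hl
  have tL : ∀ c, tor T c ∈ L := fun c => by
    have := L.mul_mem (t1 c.1) (t2 (c.1 * c.2))
    rw [← map_mul] at this
    simpa using this
  have tC : ∀ c, tor T c ∈ C := fun c => (hC _).2 ⟨1, _, tL c, by simp⟩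
  refine ⟨tL, ?_, ?_⟩
  · have hN : ∀ c, ∀ g ∈ Q T, tor T c g ∈ Q T := fun c _ h => tor_Q c h
    have rA : ∀ c, resT (Q T) hN c ∈ AQ := fun c => bQ.res _ (tC c) _ fun x hx => ext_resT hN c hx
    have sQ' : ∀ x ∈ Q T, Eqv (ext nQ x) (w8 x) := fun x hx =>
      ((modD (w8_mem x) (ext_mem _ hx)).1 (sQ x hx)).symm
    obtain ⟨n, hn, ⟨e, he, en⟩, ht⟩ := adjust hN bQ.toLA (swQ T) hnQ fun c => by
      refine kQ _ (AQ.mul_mem (AQ.inv_mem (rA c)) (AQ.mul_mem (AQ.mul_mem hnQ (rA _))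
        (AQ.inv_mem hnQ))) fun x hx => (modD hx (ext_mem _ hx)).2 ?_
      have hy := ext_mem nQ⁻¹ hx
      have e1 := sQ' _ hy
      rw [ext_ext_inv] at e1
      rw [← map_inv, ext_mul, ext_mul, ext_mul, ext_resT hN _ hy,
        ext_resT hN _ (ext_mem _ (hN _ _ hy))]
      have e2 := sQ' _ (hN (swQ T c) _ hy)
      rw [w8_tor _ hy] at e2
      have e3 := (e2.trans (e1.symm.tor c)).tor c⁻¹
      have e4 : tor T c⁻¹ (tor T c x) = x := by simp
      rw [e4] at e3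
      exact e3.symm
    refine ⟨n, hn, fun x hx => ?_⟩
    have := rigQ hq (fun g => w8 (ext n g))
      (fun g hg k hk => by rw [ext_map_mul n hg hk, w8_mul (ext_mem _ hg) (ext_mem _ hk)])
      (fun g _ => w8_mem _)
      (fun g hg => by
        have e1 : Eqv (ext n g) (w8 g) := by
          rw [en g hg]; exact (eqv_conj he (ext_mem _ hg)).trans (sQ' g hg)
        have e2 := e1.w8
        rwa [w8_w8 hg] at e2)
      (fun c g hg => by
        have := ht (swQ T c) g hg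
        rw [swQ_swQ] at this
        rw [this, w8_tor _ (ext_mem _ hg)]) x hx
    rw [← w8_w8 (ext_mem n hx), this]
  · have hN : ∀ c, ∀ g ∈ E T, tor T c g ∈ E T := fun c _ h => tor_E c h
    have rA : ∀ c, resT (E T) hN c ∈ AE := fun c => bE.res _ (tC c) _ fun x hx => ext_resT hN c hx
    have sE' : ∀ w ∈ W T, ext nE w = w1 w := fun w hw => by
      rw [eq_x4_x6 hw, ext_map_mul nE rfl rfl, (sE _).1, (sE _).2, w1_x46]
    obtain ⟨n, hn, ⟨e, he, en⟩, ht⟩ := adjust hN bE.toLA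
      (MulEquiv.prodComm (M := Kˣ) (N := Kˣ)).toMonoidHom hnE fun c => by
      refine kE _ (AE.mul_mem (AE.inv_mem (rA c)) (AE.mul_mem (AE.mul_mem hnE (rA _))
        (AE.inv_mem hnE))) fun w hw => ?_
      have e1 : ext nE⁻¹ w = w1 w := by
        nth_rewrite 1 [← w1_w1 (W_le_E hw), ← sE' _ (w1_W hw)]
        exact ext_inv_ext _ _
      rw [← map_inv, ext_mul, ext_mul, ext_mul, e1, ext_resT hN _ (w1_mem w),
        sE' _ (tor_W _ (w1_W hw)), ext_resT hN _ (w1_mem _)]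
      change tor T c⁻¹ (w1 (tor T c.swap (w1 w))) = w
      rw [w1_tor _ (w1_mem w), w1_w1 (W_le_E hw), ← MulAut.mul_apply, ← map_mul, inv_mul_cancel,
        map_one, MulAut.one_apply]
    refine ⟨n, hn, fun x hx => ?_⟩
    have := rig hq (fun g => w1 (ext n g))
      (fun g hg k hk => by rw [ext_map_mul n hg hk, w1_mul (ext_mem _ hg) (ext_mem _ hk)])
      (fun w hw => by
        rw [en w (W_le_E hw), sE' w hw, (cW e).1 he _ (w1_W hw), mul_inv_cancel_right,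
          w1_w1 (W_le_E hw)])
      (fun c g hg => by
        have : ext n (tor T c g) = tor T c.swap (ext n g) := ht c.swap g hg
        rw [this, w1_tor _ (ext_mem _ hg)]) x hx
    rw [← w1_w1 (ext_mem n hx), this]

theorem rigS [Finite K] (_h1 : AE1 T) (h2 : AEStmt T) (_h3 : AQ1 T) (h4 : AQStmt T) :
    RigStmt T := rigS' h2 h4

end Cfsg.Agent.H72.VB
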