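import Cfsg.Agent.H72.VBChS
import Cfsg.Agent.H72.VBRig

/-! Project VB (S5262), piece AS: the automizer of `U T`. -/

set_option autoImplicit false
set_option linter.unusedSimpArgs false
set_option linter.unnecessarySeqFocus false

namespace Cfsg.Agent.H72.VB

open Cfsg.Agent.H39 Cfsg.Agent.H15.O8 Cfsg.Agent.H96.VB Cfsg.Agent.H92.UL Subgroup
open Cfsg.Agent.H72.O8T hiding tor
open scoped commutatorElement

universe u

/-- The abstract part: `Y` a normal `2`-subgroup with an odd order supplement `Λ`. -/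
theorem abs_as {X : Type*} [Group X] [Finite X] {Y Λ I C : Subgroup X} [hY : Y.Normal]
    [hI : I.Normal] (h2 : IsPGroup 2 Y) (ho : Odd (Nat.card Λ))
    (hs : ∀ x, ∃ l ∈ Λ, l⁻¹ * x ∈ Y) (hIY : I ≤ Y) (hIC : I ≤ C) (hC : Odd (I.relIndex C)) :
    ∃ (β : X) (L : Subgroup X), L ≤ Λ ∧ ∀ γ, β * γ * β⁻¹ ∈ C ↔ ∃ i ∈ I, ∃ l ∈ L, γ = i * l := by
  haveI : Fact (Nat.Prime 2) := ⟨Nat.prime_two⟩
  have hcop : (Nat.card (I.subgroupOf C)).Coprime (I.subgroupOf C).index := by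
    obtain ⟨n, hn⟩ := ((h2.to_le hIY).comap_subtype (K := C)).exists_card_eq
    rw [show Nat.card (I.subgroupOf C) = 2 ^ n from hn]
    exact (Nat.coprime_two_left.2 hC).pow_left n
  obtain ⟨D, hD⟩ := exists_right_complement'_of_coprime hcop
  have hDo : Odd (Nat.card D) := by
    rw [← hD.symm.index_eq_card]; exact hC
  let e := MulEquiv.ofBijective ((QuotientGroup.mk' Y).comp Λ.subtype) ⟨by
    rw [injective_iff_map_eq_one]
    intro l hl
    obtain ⟨k, hk⟩ := h2 ⟨l, (QuotientGroup.eq_one_iff _).1 hl⟩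
    have h0 : (l : X) ^ 2 ^ k = 1 := congrArg Subtype.val hk
    have h1 : l ^ 2 ^ k = 1 := Subtype.ext h0
    have h3 := pow_gcd_eq_one.2 ⟨h1, pow_card_eq_one'⟩
    rwa [((Nat.coprime_two_left.2 ho).pow_left k).gcd_eq_one, pow_one] at h3, fun x => by
    obtain ⟨x, rfl⟩ := QuotientGroup.mk_surjective x
    obtain ⟨l, hl, h⟩ := hs x
    exact ⟨⟨l, hl⟩, QuotientGroup.eq.2 h⟩⟩
  let t : D →* X := C.subtype.comp D.subtype
  let s : D →* X := Λ.subtype.comp (e.symm.toMonoidHom.comp ((QuotientGroup.mk' Y).comp t))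
  obtain ⟨g, -, hg⟩ := sec2 Y h2 hDo s t fun d =>
    QuotientGroup.eq.1 (e.apply_symm_apply (QuotientGroup.mk' Y (t d)))
  refine ⟨g, s.range, ?_, fun γ => ⟨fun h => ?_, ?_⟩⟩
  · rintro _ ⟨d, rfl⟩
    exact (e.symm _).2
  · obtain ⟨⟨i, d⟩, hid⟩ := hD.2 ⟨_, h⟩
    have h1 : ((i : C) : X) * t d = g * γ * g⁻¹ := congrArg Subtype.val hid
    refine ⟨g⁻¹ * ((i : C) : X) * g⁻¹⁻¹, hI.conj_mem _ i.2 _, s d, ⟨d, rfl⟩, ?_⟩
    rw [hg] at h1
    calc γ = g⁻¹ * (g * γ * g⁻¹) * g := by group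
      _ = _ := by rw [← h1]; group
  · rintro ⟨i, hi, _, ⟨d, rfl⟩, rfl⟩
    have h1 : g * (i * s d) * g⁻¹ = g * i * g⁻¹ * t d := by rw [hg]; group
    rw [h1]
    exact C.mul_mem (hIC (hI.conj_mem i hi g)) (d : C).2

variable {K : Type u} [Field K] [Finite K] {T : Tits K}

/-- the action of a field automorphism on the torus -/
def fT (φ : RingAut K) (c : Kˣ × Kˣ) : Kˣ × Kˣ :=
  (Units.map (φ : K →* K) c.1, Units.map (φ : K →* K) c.2)

theorem fld_tor (φ : RingAut K) (c : Kˣ × Kˣ) :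
    fld T φ * tor T c = tor T (fT φ c) * fld T φ := by
  ext g <;> simp [fld_apply, fmap, tor_apply, sc, fT, aut_θ]

variable (T) in
/-- torus and field automorphisms -/
def Lam : Subgroup (MulAut (U T)) where
  carrier := {l | ∃ c φ, l = tor T c * fld T φ}
  one_mem' := ⟨1, 1, by simp⟩
  mul_mem' := by
    rintro _ _ ⟨c, φ, rfl⟩ ⟨d, ψ, rfl⟩
    exact ⟨c * fT φ d, φ * ψ, by
      rw [map_mul, map_mul, mul_assoc, ← mul_assoc (fld T φ), fld_tor, mul_assoc, mul_assoc]⟩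
  inv_mem' := by
    rintro _ ⟨c, φ, rfl⟩
    exact ⟨fT φ⁻¹ c⁻¹, φ⁻¹, by rw [← fld_tor, mul_inv_rev, map_inv, map_inv]⟩

theorem odd_Lam (h : Odd (Nat.card (RingAut K))) : Odd (Nat.card (Lam T)) := by
  have e : Nat.card ((Kˣ × Kˣ) × RingAut K) = Nat.card (Lam T) := by
    refine Nat.card_congr (Equiv.ofBijective
      (fun p => ⟨tor T p.1 * fld T p.2, p.1, p.2, rfl⟩) ⟨?_, ?_⟩)
    · rintro ⟨c, φ⟩ ⟨d, ψ⟩ e
      have e0 : tor T c * fld T φ = tor T d * fld T ψ := congrArg Subtype.val e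
      have e4 : ∀ t, (c.1 : K) * φ t = d.1 * ψ t := fun t => by
        have := congrArg (fun β : MulAut (U T) => (β (y4 T t)).b4) e0
        simpa [tor_apply, sc, fld_apply, fmap, y4] using this
      have e6 : (c.2 : K) = d.2 := by
        have := congrArg (fun β : MulAut (U T) => (β (y6 T 1)).b6) e0
        simpa [tor_apply, sc, fld_apply, fmap, y6] using this
      have e1 : c.1 = d.1 := Units.ext (by simpa using e4 1)
      refine Prod.ext (Prod.ext e1 (Units.ext e6)) (RingEquiv.ext fun t => ?_)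
      have := e4 t
      rw [e1] at this
      exact mul_left_cancel₀ d.1.ne_zero this
    · rintro ⟨_, c, φ, rfl⟩
      exact ⟨(c, φ), rfl⟩
  rw [← e, Nat.card_prod]
  exact (odd_A (T := T)).mul h

variable (T) in
/-- automorphisms trivial on `Z` and `W / Z` -/
def Y1 : Subgroup (MulAut (U T)) where
  carrier := {β | (∀ z ∈ Z T, β z = z) ∧ ∀ w ∈ W T, w⁻¹ * β w ∈ Z T}
  one_mem' := ⟨fun _ _ => rfl, fun w _ => by simp⟩
  mul_mem' := fun {a b} ha hb => ⟨fun z hz => by rw [MulAut.mul_apply, hb.1 z hz, ha.1 z hz],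
    fun w hw => by
      have e : w⁻¹ * (a * b) w = (w⁻¹ * a w) * a (w⁻¹ * b w) := by
        rw [MulAut.mul_apply, map_mul, map_inv]; group
      rw [e, ha.1 _ (hb.2 w hw)]
      exact mul_mem (ha.2 w hw) (hb.2 w hw)⟩
  inv_mem' := fun {a} ha => ⟨fun z hz => by
      nth_rewrite 1 [← ha.1 z hz]
      exact a.symm_apply_apply z,
    fun w hw => by
      have h1 := chrZ a⁻¹ _ (inv_mem (ha.2 w hw))
      rw [mul_inv_rev, inv_inv, map_mul, map_inv] at h1
      have e : a⁻¹ (a w) = w := a.symm_apply_apply w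
      rwa [e] at h1⟩

omit [Finite K] in
theorem Y1_normal : (Y1 T).Normal := ⟨fun b hb a => ⟨fun z hz => by
    rw [MulAut.mul_apply, MulAut.mul_apply, hb.1 _ (chrZ a⁻¹ z hz)]
    exact a.apply_symm_apply z, fun w hw => by
    have h1 := chrZ a _ (hb.2 _ (chrW a⁻¹ w hw))
    have e : a (a⁻¹ w) = w := a.apply_symm_apply w
    rwa [map_mul, map_inv, e] at h1⟩⟩

theorem Y1_two : IsPGroup 2 (Y1 T) := by
  rintro ⟨β, hβ⟩
  haveI : Finite (MulAut (U T)) := inferInstance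
  have h2 : ∀ w ∈ W T, (β ^ 2) w = w := fun w hw => by
    obtain ⟨z, hz, e⟩ : ∃ z ∈ Z T, β w = w * z := ⟨_, hβ.2 w hw, by group⟩
    have hz2 : z * z = 1 := sqV z ⟨hz.1, hz.2.1, hz.2.2.2.2.1, hz.2.2.2.2.2.2.1,
      hz.2.2.2.2.2.2.2.2.1, hz.2.2.2.2.2.2.2.2.2.1, hz.2.2.2.2.2.2.2.2.2.2⟩
    rw [pow_two, MulAut.mul_apply, e, map_mul, e, hβ.1 z hz, mul_assoc, hz2, mul_one]
  obtain ⟨n, k, hk, e⟩ := Nat.exists_eq_two_pow_mul_odd (orderOf_pos (β ^ 2)).ne'
  refine ⟨n + 1, Subtype.ext ?_⟩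
  change β ^ 2 ^ (n + 1) = 1
  rw [pow_succ', pow_mul]
  refine odd _ ?_ (fun w hw => ?_) (chrQ _) (chrV _)
  · rw [orderOf_pow, e, Nat.gcd_eq_right (Dvd.intro _ rfl),
      Nat.mul_div_cancel_left _ (by positivity)]
    exact hk
  · exact pow_mem (S := MulAction.stabilizer (MulAut (U T)) w) (x := β ^ 2) (h2 w hw) _

omit [Finite K] in
theorem comm_W (g : U T) {w : U T} (hw : w ∈ W T) : ⁅g, w⁆ = x4 T (g.a1 * w.a6) := by
  obtain ⟨h1, h2, h3, h4, h5, h6, h7, h8, h9, h10⟩ := hw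
  ext <;> o8s <;> simp only [h1, h2, h3, h4, h5, h6, h7, h8, h9, h10] <;> o8ring T

omit [Finite K] in
theorem eq_x4' {z : U T} (h : z ∈ Z T) : z = x4 T z.a4 := by
  obtain ⟨h1, h2, h3, h4, h5, h6, h7, h8, h9, h10, h11⟩ := h
  ext <;> o8s <;> assumption

theorem supp (β : MulAut (U T)) : ∃ l ∈ Lam T, l⁻¹ * β ∈ Y1 T := by
  have x4Z : ∀ t, x4 T t ∈ Z T := fun t => by o8s
  have x6W : ∀ t, x6 T t ∈ W T := fun t => by o8s
  obtain ⟨f4, h4⟩ : ∃ f : K → K, ∀ t, β (x4 T t) = x4 T (f t) :=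
    ⟨_, fun t => eq_x4' (chrZ β _ (x4Z t))⟩
  have key : ∀ t u, f4 (t * u) = (β (x1 T t)).a1 * (β (x6 T u)).a6 := fun t u => by
    have e : ⁅x1 T t, x6 T u⁆ = x4 T (t * u) := comm_W _ (x6W u)
    have e2 := congrArg β e
    have e3 : β (x6 T u) ∈ W T := chrW β _ (x6W u)
    rw [map_commutatorElement, comm_W (β (x1 T t)) e3, h4] at e2
    exact (congrArg U.a4 e2).symm
  have hadd : ∀ t u, f4 (t + u) = f4 t + f4 u := fun t u => by
    have e : ∀ t u, x4 T (t + u) = x4 T t * x4 T u := fun t u => by ext <;> o8s <;> o8ring T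
    have e2 := h4 (t + u)
    rw [e, map_mul, h4, h4, ← e] at e2
    exact (congrArg U.a4 e2).symm
  have hinj : Function.Injective f4 := fun t u e => by
    have : β (x4 T t) = β (x4 T u) := by rw [h4, h4, e]
    exact congrArg U.a4 (β.injective this)
  have h0 : f4 0 = 0 := by
    have := hadd 0 0
    rw [add_zero] at this
    exact left_eq_add.1 this
  have h1 : f4 1 ≠ 0 := fun e => one_ne_zero (hinj (e.trans h0.symm))
  have k1 := key 1 1
  rw [one_mul] at k1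
  have h6 : (β (x6 T 1)).a6 ≠ 0 := fun e => h1 (by rw [k1, e, mul_zero])
  have hmul : ∀ t u, f4 (t * u) * f4 1 = f4 t * f4 u := fun t u => by
    have a := key t 1
    have b := key 1 u
    rw [mul_one] at a
    rw [one_mul] at b
    rw [key, a, b, k1]; ring
  let φ₀ : K →+* K :=
    { toFun := fun t => f4 t / f4 1
      map_one' := div_self h1
      map_mul' := fun t u => by field_simp; exact hmul t u
      map_zero' := by simp [h0]
      map_add' := fun t u => by rw [hadd, add_div] }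
  let φ : RingAut K := RingEquiv.ofBijective φ₀ (Finite.injective_iff_bijective.1 φ₀.injective)
  have hφ : ∀ t, f4 t = f4 1 * φ t := fun t => by
    change _ = f4 1 * (f4 t / f4 1)
    field_simp
  have hφ6 : ∀ t, (β (x6 T t)).a6 = (β (x6 T 1)).a6 * φ t := fun t => by
    have b := key 1 t
    rw [one_mul, hφ, k1, mul_assoc] at b
    exact (mul_left_cancel₀ (left_ne_zero_of_mul (k1 ▸ h1)) b).symm
  obtain ⟨a, ha⟩ := nrm_surj (T := T) (f4 1)
  obtain ⟨b, hb⟩ := nrm_surj (T := T) (β (x6 T 1)).a6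
  have a0 : a ≠ 0 := left_ne_zero_of_mul (ha ▸ h1)
  have b0 : b ≠ 0 := left_ne_zero_of_mul (hb ▸ h6)
  set l := tor T (Units.mk0 a a0, Units.mk0 b b0) * fld T φ with hl
  have l4 : ∀ t, l (x4 T t) = β (x4 T t) := fun t => by
    rw [h4, hφ, ← ha, hl]
    ext <;> simp [tor_apply, sc, fld_apply, fmap, x4]
  have l6 : ∀ t, l (x6 T t) = x6 T (β (x6 T t)).a6 := fun t => by
    rw [hφ6, ← hb, hl]
    ext <;> simp [tor_apply, sc, fld_apply, fmap, x6]
  refine ⟨l, ⟨_, _, hl⟩, fun z hz => ?_, fun w hw => ?_⟩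
  · rw [eq_x4' hz, MulAut.mul_apply, ← l4]
    exact l.symm_apply_apply _
  · have e1 : (l w)⁻¹ * β w ∈ Z T := by
      rw [eq_x4_x6 hw, map_mul, map_mul, l4, l6, mul_inv_rev, mul_assoc, inv_mul_cancel_left]
      have h7 := eq_x4_x6 (chrW β _ (x6W w.a6))
      generalize β (x6 T w.a6) = y at *
      rw [h7]
      o8s
      o8ring T
    have e2 := chrZ l⁻¹ _ e1
    have e3 : l⁻¹ (l w) = w := l.symm_apply_apply w
    rwa [map_mul, map_inv, e3] at e2

theorem asS : ASStmt T := by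
  intro ho C hC hi
  haveI := Y1_normal (T := T)
  haveI : (MulAut.conj : U T →* MulAut (U T)).range.Normal := ⟨by
    rintro _ ⟨s, rfl⟩ g
    exact ⟨g s, MulEquiv.ext fun x => by simp⟩⟩
  obtain ⟨β, L, hL, h⟩ := abs_as (I := (MulAut.conj : U T →* MulAut (U T)).range) (C := C) Y1_two
    (odd_Lam ho) supp (by
      rintro _ ⟨s, rfl⟩
      refine ⟨fun z hz => ?_, fun w hw => ?_⟩
      · rw [MulAut.conj_apply, cZ z hz s, mul_inv_cancel_right]
      · have e : w⁻¹ * MulAut.conj s w = ⁅w⁻¹, s⁆ := by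
          rw [MulAut.conj_apply, commutatorElement_def]; group
        rw [e]
        exact (z2 _).1 (inv_mem hw) s) (by rintro _ ⟨s, rfl⟩; exact hC s) hi
  refine ⟨β, L, fun l hl => hL hl, fun γ => (h γ).trans ⟨?_, ?_⟩⟩
  · rintro ⟨_, ⟨s, rfl⟩, l, hl, e⟩
    exact ⟨s, l, hl, e⟩
  · rintro ⟨s, l, hl, e⟩
    exact ⟨_, ⟨s, rfl⟩, l, hl, e⟩

end Cfsg.Agent.H72.VB
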