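import Mathlib
import Cfsg.Agent.H4.CoprimeGen
import Cfsg.Agent.H58.Orbits
import Cfsg.Agent.H3.Cores

/-! Small lemmas on groups of order 25 and 125 acting coprimely. -/

set_option autoImplicit false

namespace Cfsg.Agent.H72.HS

open Subgroup

variable {G : Type*} [Group G] [Finite G]

theorem memC {t x : G} : x ∈ centralizer ({t} : Set G) ↔ x * t = t * x :=
  mem_centralizer_singleton_iff

theorem nconj {K : Subgroup G} {g x : G} (hg : g ∈ normalizer (K : Set G)) (hx : x ∈ K) :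
    g * x * g⁻¹ ∈ K := (mem_normalizer_iff.1 hg x).1 hx

/-- orbit counting on the nonidentity elements -/
theorem dvd_pred {K R : Subgroup G} (h : R ≤ normalizer (K : Set G)) (k : ℕ)
    (hk : ∀ x ∈ K, x ≠ 1 → k ∣ (centralizer {x}).relIndex R) : k ∣ Nat.card K - 1 := by
  letI : MulAction R G := MulAction.compHom G (MulAut.conj.comp R.subtype)
  have e : ∀ (r : R) (x : G), r • x = r * x * (r : G)⁻¹ := fun _ _ => rfl
  have := H58.dvd_ncard_of_orbits (H := R) k ((K : Set G) \ {1})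
    (fun r x hx => ⟨nconj (h r.2) hx.1, fun h1 => hx.2 (conj_eq_one_iff.1 h1)⟩) fun x hx => by
      have : MulAction.stabilizer R x = (centralizer {x}).subgroupOf R := by
        ext r
        rw [MulAction.mem_stabilizer_iff, e, mem_subgroupOf, memC, mul_inv_eq_iff_eq_mul]
      rw [this]
      exact hk x hx.1 hx.2
  rwa [Set.ncard_diff_singleton_of_mem K.one_mem] at this

theorem zp_le {x y : G} {r : ℕ} (hr : r.Prime) (hx : x ^ r = 1) (hy : y ∈ zpowers x) (y1 : y ≠ 1) :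
    x ∈ zpowers y := by
  have x1 : x ≠ 1 := fun e => y1 (by simpa [e] using hy)
  haveI := Fact.mk hr
  have h1 := orderOf_eq_prime hx x1
  have h2 : Nat.card (zpowers y) ∣ r := by
    rw [← h1, ← Nat.card_zpowers]
    exact card_dvd_of_le (zpowers_le.2 hy)
  have h3 : zpowers y = zpowers x := eq_of_le_of_card_ge (zpowers_le.2 hy) (by
    rcases (Nat.dvd_prime hr).1 h2 with h | h
    · exact absurd (card_eq_one.1 h) (zpowers_ne_bot.2 y1)
    · rw [h, Nat.card_zpowers, h1])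
  exact h3 ▸ mem_zpowers x

/-- a fixed point of an element of prime order -/
theorem exists_fix {K : Subgroup G} {g : G} {r : ℕ} (hr : r.Prime)
    (h : g ∈ normalizer (K : Set G)) (hg : g ^ r = 1) (hk : ¬ r ∣ Nat.card K - 1) :
    ∃ x ∈ K, x ≠ 1 ∧ g * x = x * g := by
  by_contra hn
  push Not at hn
  refine hk (dvd_pred (zpowers_le.2 h) r fun x hx x1 => ?_)
  have g1 : g ≠ 1 := fun e => hn x hx x1 (by simp [e])
  haveI := Fact.mk hr
  have : centralizer {x} ⊓ zpowers g = ⊥ := (eq_bot_iff_forall _).2 fun y hy => by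
    by_contra y1
    exact hn x hx x1 (memC.1 (zpowers_le.2 hy.1 (zp_le hr hg hy.2 y1)))
  rw [← inf_relIndex_right, this, relIndex_bot_left, Nat.card_zpowers, orderOf_eq_prime hg g1]

/-- a fixed point free involution inverts -/
theorem inverts {K : Subgroup G} {t : G} (h : t ∈ normalizer (K : Set G)) (tt : t * t = 1)
    (hf : ∀ x ∈ K, t * x = x * t → x = 1) : ∀ x ∈ K, t * x * t⁻¹ = x⁻¹ := by
  let φ : K → K := fun k => ⟨(k : G)⁻¹ * (t * k * t⁻¹), K.mul_mem (K.inv_mem k.2) (nconj h k.2)⟩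
  have hi : Function.Injective φ := fun a b e => by
    have e1 : (a : G)⁻¹ * (t * a * t⁻¹) = (b : G)⁻¹ * (t * b * t⁻¹) := congrArg Subtype.val e
    have := hf (b * (a : G)⁻¹) (K.mul_mem b.2 (K.inv_mem a.2)) (by
      calc _ = b * ((b : G)⁻¹ * (t * b * t⁻¹)) * t * (a : G)⁻¹ := by group
        _ = _ := by rw [← e1]; group)
    exact Subtype.ext (mul_inv_eq_one.1 this).symm
  intro x hx
  obtain ⟨k, hk⟩ := Finite.surjective_of_injective hi ⟨x, hx⟩
  have e : (k : G)⁻¹ * (t * k * t⁻¹) = x := congrArg Subtype.val hk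
  rw [← e]
  calc _ = t * (k : G)⁻¹ * t⁻¹ * ((t * t) * k * (t * t)⁻¹) := by group
    _ = _ := by rw [tt]; group

/-- generation by the fixed points of the elements of a group of type `(5, 5)` -/
theorem gen2 {x y : G} (c : Commute x y) (x5 : x ^ 5 = 1) (y5 : y ^ 5 = 1) (y1 : y ≠ 1)
    (xy : x ∉ zpowers y) {K M : Subgroup G} (hx : x ∈ normalizer (K : Set G))
    (hy : y ∈ normalizer (K : Set G)) (h5 : ¬ 5 ∣ Nat.card K)
    (h : ∀ i j : ℤ, x ^ i * y ^ j ≠ 1 → K ⊓ centralizer {x ^ i * y ^ j} ≤ M) : K ≤ M := by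
  let A : Subgroup G :=
    { carrier := {a | ∃ i j : ℤ, a = x ^ i * y ^ j}
      one_mem' := ⟨0, 0, by simp⟩
      mul_mem' := by
        rintro _ _ ⟨i, j, rfl⟩ ⟨k, l, rfl⟩
        exact ⟨i + k, j + l, by
          rw [zpow_add, zpow_add, (c.zpow_zpow k j).symm.mul_mul_mul_comm]⟩
      inv_mem' := by
        rintro _ ⟨i, j, rfl⟩
        exact ⟨-i, -j, by rw [mul_inv_rev, ← zpow_neg, ← zpow_neg, (c.zpow_zpow _ _).eq]⟩ }
  have a5 : ∀ a ∈ A, a ^ 5 = 1 := by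
    rintro _ ⟨i, j, rfl⟩
    rw [(c.zpow_zpow i j).mul_pow, ← zpow_natCast, ← zpow_natCast, ← zpow_mul, ← zpow_mul,
      mul_comm i, mul_comm j, zpow_mul, zpow_mul, zpow_natCast, zpow_natCast, x5, y5]
    simp
  haveI : IsMulCommutative A := ⟨⟨by
    rintro ⟨_, i, j, rfl⟩ ⟨_, k, l, rfl⟩
    exact Subtype.ext (((Commute.refl x).zpow_zpow i k).mul_right (c.zpow_zpow i l)
      |>.mul_left ((c.symm.zpow_zpow j k).mul_right ((Commute.refl y).zpow_zpow j l))).eq⟩⟩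
  haveI : Fact (Nat.Prime 5) := ⟨by norm_num⟩
  have hA : IsPGroup 5 A := fun a => ⟨1, Subtype.ext (by simpa using a5 a a.2)⟩
  refine H4.le_of_centralizer_singleton_le (A := A) ?_ ?_ ?_ ?_
  · intro hc
    obtain ⟨g, hg⟩ := hc.exists_generator
    have h1 : ∀ a ∈ A, a ∈ zpowers (g : G) := fun a ha => by
      obtain ⟨n, hn⟩ := hg ⟨a, ha⟩
      exact ⟨n, congrArg Subtype.val hn⟩
    exact xy (zpowers_le.2 (zp_le (by norm_num) (a5 g g.2) (h1 y ⟨0, 1, by simp⟩) y1)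
      (h1 x ⟨1, 0, by simp⟩))
  · rintro _ ⟨i, j, rfl⟩
    exact mul_mem (zpow_mem hx i) (zpow_mem hy j)
  · obtain ⟨n, hn⟩ := hA.exists_card_eq
    rw [hn]
    exact Nat.Coprime.pow_left n ((Nat.Prime.coprime_iff_not_dvd (by norm_num)).2 h5)
  · rintro _ ⟨i, j, rfl⟩ h1
    exact h i j h1

/-- a group of order 25 is generated by two independent elements -/
theorem le25 {U K : Subgroup G} (hU : Nat.card U = 25) {a b : G} (ha : a ∈ U ⊓ K) (hb : b ∈ U ⊓ K)
    (b1 : b ≠ 1) (b5 : b ^ 5 = 1) (ab : a ∉ zpowers b) : U ≤ K := by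
  haveI : Fact (Nat.Prime 5) := ⟨by norm_num⟩
  have h1 : Nat.card (U ⊓ K : Subgroup G) ∣ 5 ^ 2 :=
    (card_dvd_of_le inf_le_left).trans (by rw [hU]; norm_num)
  have h2 : 5 < Nat.card (U ⊓ K : Subgroup G) := by
    rw [← orderOf_eq_prime b5 b1, ← Nat.card_zpowers]
    refine lt_of_not_ge fun h => ab ?_
    rw [eq_of_le_of_card_ge (zpowers_le.2 hb) h]
    exact ha
  obtain ⟨k, hk, e⟩ := (Nat.dvd_prime_pow (by norm_num)).1 h1
  have h3 : U ⊓ K = U := eq_of_le_of_card_ge inf_le_left (by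
    rw [e] at h2 ⊢
    rw [hU]
    interval_cases k <;> omega)
  exact h3 ▸ inf_le_right

theorem comm25 {U : Subgroup G} (hU : Nat.card U = 25) {a b : G} (ha : a ∈ U) (hb : b ∈ U) :
    a * b = b * a := by
  haveI : Fact (Nat.Prime 5) := ⟨by norm_num⟩
  have := (IsPGroup.commutative_of_card_eq_prime_sq (p := 5) (G := U) hU) ⟨a, ha⟩ ⟨b, hb⟩
  exact congrArg Subtype.val this

/-- a transvection of a group of type `(5, 5)` -/
theorem tv {U : Subgroup G} (hU : Nat.card U = 25) (h5 : ∀ u ∈ U, u ^ 5 = 1) {p : G}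
    (hp : p ∈ normalizer (U : Set G)) (p5 : p ^ 5 = 1) (hc : p ∉ centralizer (U : Set G)) :
    ∃ z ∈ U, z ≠ 1 ∧ (∀ u ∈ U, p * u = u * p ↔ u ∈ zpowers z) ∧
      ∀ u ∈ U, p * u * p⁻¹ * u⁻¹ ∈ zpowers z := by
  obtain ⟨z, hz, z1, e⟩ := exists_fix (by norm_num) hp p5 (by rw [hU]; decide)
  have h1 : ∀ u ∈ U, p * u = u * p ↔ u ∈ zpowers z := fun u hu => ⟨fun h => by
    by_contra hn
    have := le25 (K := centralizer {p}) hU ⟨hu, memC.2 h.symm⟩ ⟨hz, memC.2 e.symm⟩ z1 (h5 z hz) hn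
    exact hc fun v hv => memC.1 (this hv),
    fun h => (memC.1 (zpowers_le.2 (memC.2 e.symm) h)).symm⟩
  refine ⟨z, hz, z1, h1, ?_⟩
  have m : ∀ u ∈ U, p * u * p⁻¹ * u⁻¹ ∈ U := fun u hu => U.mul_mem (nconj hp hu) (U.inv_mem hu)
  let δ : U →* G := MonoidHom.mk' (fun u => p * u * p⁻¹ * (u : G)⁻¹) fun a b => by
    change p * (a * b) * p⁻¹ * ((a : G) * b)⁻¹ = _
    rw [mul_assoc _ (a : G)⁻¹, comm25 hU (U.inv_mem a.2) (m b b.2)]
    group
  have hk : δ.ker = (zpowers z).subgroupOf U := by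
    ext u
    rw [MonoidHom.mem_ker, mem_subgroupOf, ← h1 u u.2]
    change p * u * p⁻¹ * (u : G)⁻¹ = 1 ↔ _
    rw [mul_inv_eq_one, mul_inv_eq_iff_eq_mul]
  haveI : Fact (Nat.Prime 5) := ⟨by norm_num⟩
  have hr : Nat.card δ.range = 5 := by
    have h2 := δ.ker.card_mul_index
    rw [index_ker, hk, hU, Nat.card_congr (subgroupOfEquivOfLe (zpowers_le.2 hz)).toEquiv,
      Nat.card_zpowers, orderOf_eq_prime (h5 z hz) z1] at h2
    omega
  obtain ⟨y, hy, y1, ey⟩ := exists_fix (K := δ.range) (by norm_num) (mem_normalizer_fintype (by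
    rintro _ ⟨u, rfl⟩
    refine ⟨⟨_, nconj hp u.2⟩, ?_⟩
    change p * (p * u * p⁻¹) * p⁻¹ * (p * u * p⁻¹)⁻¹ = p * (p * u * p⁻¹ * (u : G)⁻¹) * p⁻¹
    group)) p5 (by rw [hr]; decide)
  have yU : y ∈ U := by
    obtain ⟨u, rfl⟩ := hy
    exact m u u.2
  have h3 : zpowers y = δ.range := eq_of_le_of_card_ge (zpowers_le.2 hy) (by
    rw [hr, Nat.card_zpowers, orderOf_eq_prime (h5 y yU) y1])
  intro u hu
  exact zpowers_le.2 ((h1 y yU).1 ey) (h3 ▸ (⟨⟨u, hu⟩, rfl⟩ : _ ∈ δ.range))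

theorem conj_pow_eq {p y u : G} (c : p * y = y * p) (e : p * u * p⁻¹ = y * u) (k : ℕ) :
    p ^ k * u * (p ^ k)⁻¹ = y ^ k * u := by
  induction k with
  | zero => simp
  | succ k ih =>
    calc _ = p ^ k * (p * u * p⁻¹) * (p ^ k)⁻¹ := by rw [pow_succ]; group
      _ = p ^ k * y * (p ^ k)⁻¹ * (p ^ k * u * (p ^ k)⁻¹) := by rw [e]; group
      _ = _ := by
        rw [ih, ((Commute.pow_left c k).eq), mul_inv_cancel_right, pow_succ', mul_assoc]

theorem exists_nat {x y : G} (h : y ∈ zpowers x) : ∃ k : ℕ, x ^ k = y :=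
  (mem_powers_iff_mem_zpowers.2 h :)

end Cfsg.Agent.H72.HS
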