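import Mathlib
import Cfsg.Agent.H72.SpHSa
import Cfsg.Agent.H58.Sieve2
import Cfsg.Agent.H69.Lift
import Cfsg.Agent.H89.SpDefs

/-! A simple group of order 44352000 over a 3-group. -/

set_option autoImplicit false

namespace Cfsg.Agent.H72.HS

open Subgroup Cfsg.Agent.H89.Sp
open scoped Pointwise

universe u v

instance fact5 : Fact (Nat.Prime 5) := ⟨by norm_num⟩

/-- the hypotheses on the simple group -/
structure Hy (S : Type*) [Group S] : Prop where
  card : Nat.card S = 44352000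
  o : ∀ a b : S, a * b = b * a → orderOf b = 5 → orderOf a ≠ 4 ∧ orderOf a ≠ 7 ∧ orderOf a ≠ 11
  o25 : ∀ a : S, orderOf a ≠ 25
  cA : ∀ t : S, orderOf t = 2 → ¬ 25 ∣ Nat.card (centralizer ({t} : Set S))

theorem exists_ord {G : Type*} [Group G] [Finite G] {x : G} {m : ℕ} (h : m ∣ orderOf x) :
    ∃ k : ℕ, orderOf (x ^ k) = m := ⟨_, orderOf_pow_orderOf_div (orderOf_pos x).ne' h⟩

theorem e5 {S : Type*} [Group S] [Finite S] (h : ∀ a : S, orderOf a ≠ 25) {P : Subgroup S}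
    (hP : IsPGroup 5 P) {x : S} (hx : x ∈ P) : x ^ 5 = 1 := by
  obtain ⟨k, hk⟩ := (IsPGroup.iff_orderOf.1 hP) ⟨x, hx⟩
  rw [← orderOf_coe] at hk
  change orderOf x = _ at hk
  by_cases h2 : 2 ≤ k
  · obtain ⟨n, hn⟩ := exists_ord (x := x) (m := 25) (hk ▸ pow_dvd_pow 5 h2)
    exact absurd hn (h _)
  · refine orderOf_dvd_iff_pow_eq_one.1 ?_
    rw [hk]
    simpa using pow_dvd_pow 5 (show k ≤ 1 by omega)

theorem exists_elt {G : Type*} [Group G] [Finite G] {H : Subgroup G} {r : ℕ} (hr : r.Prime)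
    (h : r ∣ Nat.card H) : ∃ g ∈ H, orderOf g = r := by
  haveI := Fact.mk hr
  obtain ⟨g, hg⟩ := exists_prime_orderOf_dvd_card' r h
  exact ⟨g, g.2, by rw [← hg, orderOf_coe]⟩

theorem exists_sub {G : Type*} [Group G] [Finite G] {H : Subgroup G} {r n : ℕ} (hr : r.Prime)
    (h : r ^ n ∣ Nat.card H) : ∃ R ≤ H, Nat.card R = r ^ n := by
  haveI := Fact.mk hr
  obtain ⟨R, hR⟩ := Sylow.exists_subgroup_card_pow_prime r h
  exact ⟨R.map H.subtype, map_subtype_le R, by rw [card_map_of_injective H.subtype_injective, hR]⟩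

theorem nzC {G : Type*} [Group G] [Finite G] (U : Subgroup G) :
    normalizer (U : Set G) ≤ normalizer (centralizer (U : Set G) : Set G) := fun g hg =>
  mem_normalizer_fintype fun c hc u hu => by
    have := hc _ (nconj (inv_mem hg) hu)
    calc _ = g * (g⁻¹ * u * g⁻¹⁻¹ * c) * g⁻¹ := by group
      _ = _ := by rw [this]; group

namespace Hy

variable {S : Type*} [Group S] [Finite S] (h : Hy S)
include h

theorem cardP (P : Sylow 5 S) : Nat.card P = 125 := by
  have h1 := P.not_dvd_index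
  have h2 := (P : Subgroup S).card_mul_index
  obtain ⟨k, hk⟩ := P.isPGroup'.exists_card_eq
  rw [h.card, hk] at h2
  rw [hk]
  have h3 : k ≤ 3 := by
    by_contra hn
    have : 5 ^ 4 ∣ 44352000 := h2 ▸ (pow_dvd_pow 5 (by omega)).mul_right _
    norm_num at this
  interval_cases k <;> omega

theorem uniq {H : Subgroup S} (h2 : ¬ 2 ∣ Nat.card H) (h7 : ¬ 7 ∣ Nat.card H)
    (h11 : ¬ 11 ∣ Nat.card H) {P Q : Sylow 5 S} (hP : (P : Subgroup S) ≤ H)
    (hQ : (Q : Subgroup S) ≤ H) : P = Q := by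
  have h1 : Nat.card H ∣ 2 ^ 9 * (7 * (11 * 1125)) := by
    have := H.card_subgroup_dvd_card
    rwa [h.card] at this
  have c : ∀ r : ℕ, r.Prime → ¬ r ∣ Nat.card H → (Nat.card H).Coprime r := fun r hr hn =>
    ((Nat.Prime.coprime_iff_not_dvd hr).2 hn).symm
  have h3 := (c 11 (by norm_num) h11).dvd_of_dvd_mul_left ((c 7 (by norm_num) h7).dvd_of_dvd_mul_left
    (((c 2 (by norm_num) h2).pow_right 9).dvd_of_dvd_mul_left h1))
  have h4 := ((P.subtype hP : Sylow 5 H) : Subgroup H).card_mul_index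
  rw [Sylow.coe_subtype, Nat.card_congr (subgroupOfEquivOfLe hP).toEquiv, h.cardP] at h4
  have h5 : Nat.card (Sylow 5 H) ∣ 9 := (P.subtype hP).card_dvd_index.trans
    (Nat.dvd_of_mul_dvd_mul_left (by norm_num : 0 < 125) (by rw [Sylow.coe_subtype, h4]; exact h3))
  have h6 := card_sylow_modEq_one 5 H
  have h8 : Nat.card (Sylow 5 H) = 1 := by
    have := Nat.le_of_dvd (by norm_num) h5
    unfold Nat.ModEq at h6
    interval_cases Nat.card (Sylow 5 H) <;> omega
  haveI := (Nat.card_eq_one_iff_unique.1 h8).1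
  exact Sylow.subtype_injective (hP := hP) (hQ := hQ) (Subsingleton.elim _ _)

theorem cen2 {R P : Subgroup S} (hP : IsPGroup 5 P) (c25 : 25 ∣ Nat.card P)
    (hR : R ≤ normalizer (P : Set S)) (r2 : IsPGroup 2 R) {x : S} (hx : x ∈ P) (x1 : x ≠ 1) :
    Nat.card (centralizer {x} ⊓ R : Subgroup S) ∣ 2 := by
  set D := centralizer {x} ⊓ R with hD
  have x5 := orderOf_eq_prime (e5 h.o25 hP hx) x1
  have d2 : IsPGroup 2 D := r2.to_le inf_le_right
  have sq : ∀ d ∈ D, d * d = 1 := fun d hd => by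
    obtain ⟨k, hk⟩ := (IsPGroup.iff_orderOf.1 d2) ⟨d, hd⟩
    rw [← orderOf_coe] at hk
    change orderOf d = _ at hk
    by_cases h2 : 2 ≤ k
    · obtain ⟨n, hn⟩ := exists_ord (x := d) (m := 4) (hk ▸ pow_dvd_pow 2 h2)
      exact absurd hn (h.o _ _ (memC.1 (pow_mem hd.1 n)) x5).1
    · rw [← pow_two]
      refine orderOf_dvd_iff_pow_eq_one.1 ?_
      rw [hk]
      simpa using pow_dvd_pow 2 (show k ≤ 1 by omega)
  haveI : IsMulCommutative D := ⟨⟨fun a b => Subtype.ext (by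
    have h1 := sq _ (D.mul_mem a.2 b.2)
    change (a : S) * b = b * a
    rw [← inv_eq_of_mul_eq_one_right h1, mul_inv_rev, inv_eq_of_mul_eq_one_right (sq _ a.2),
      inv_eq_of_mul_eq_one_right (sq _ b.2)])⟩⟩
  by_cases hc : IsCyclic D
  · obtain ⟨g, hg⟩ := hc.exists_generator
    rw [← orderOf_eq_card_of_forall_mem_zpowers hg]
    exact orderOf_dvd_iff_pow_eq_one.2 (Subtype.ext (by rw [pow_two]; exact sq _ g.2))
  · exfalso
    have h1 : P ≤ zpowers x := H4.le_of_centralizer_singleton_le hc (inf_le_right.trans hR)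
      (IsPGroup.coprime_card_of_ne 2 5 (by norm_num) _ _ d2 hP) fun a ha a1 => by
        obtain ⟨k, hk⟩ := (hP.to_le (inf_le_left : P ⊓ centralizer {a} ≤ P)).exists_card_eq
        have h2 : k ≤ 1 := by
          by_contra hn
          refine h.cA a (orderOf_eq_prime (by rw [pow_two]; exact sq a ha) a1)
            (dvd_trans ?_ (card_dvd_of_le (inf_le_right : P ⊓ centralizer {a} ≤ _)))
          rw [hk]
          exact pow_dvd_pow 5 (show 2 ≤ k by omega)
        refine (eq_of_le_of_card_ge (zpowers_le.2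
          (show x ∈ P ⊓ centralizer {a} from ⟨hx, memC.2 (memC.1 ha.1).symm⟩)) ?_).ge
        rw [hk, Nat.card_zpowers, x5]
        interval_cases k <;> norm_num
    have := c25.trans (card_dvd_of_le h1)
    rw [Nat.card_zpowers, x5] at this
    norm_num at this

theorem not_dvd {K : Subgroup S} (hK : IsPGroup 5 K) {r : ℕ} (hr : r = 7 ∨ r = 11)
    (hk : ¬ r ∣ Nat.card K - 1) : ¬ r ∣ Nat.card (normalizer (K : Set S)) := fun hd => by
  have pr : r.Prime := by rcases hr with rfl | rfl <;> norm_num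
  obtain ⟨g, hg, e⟩ := exists_elt pr hd
  obtain ⟨x, hx, x1, c⟩ := exists_fix pr hg (e ▸ pow_orderOf_eq_one g) hk
  have := h.o g x c (orderOf_eq_prime (e5 h.o25 hK hx) x1)
  rcases hr with rfl | rfl
  · exact this.2.1 e
  · exact this.2.2 e

theorem nmod : ¬ Nat.card (Sylow 5 S) ≡ 1 [MOD 5 ^ 2] := by
  obtain ⟨P⟩ : Nonempty (Sylow 5 S) := inferInstance
  have cP := h.cardP P
  have h7 := h.not_dvd P.isPGroup' (.inl rfl) (by rw [cP]; decide)
  have h11 := h.not_dvd P.isPGroup' (.inr rfl) (by rw [cP]; decide)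
  have h16 : ¬ 2 ^ 4 ∣ Nat.card (normalizer ((P : Subgroup S) : Set S)) := fun hd => by
    obtain ⟨R, hR, cR⟩ := exists_sub Nat.prime_two hd
    have := dvd_pred hR 8 fun x hx x1 => by
      have h1 := h.cen2 P.isPGroup' (by rw [cP]; norm_num) hR (IsPGroup.of_card cR) hx x1
      have h2 := ((centralizer {x}).subgroupOf R).card_mul_index
      rw [cR, ← inf_subgroupOf_right, Nat.card_congr (subgroupOfEquivOfLe inf_le_right).toEquiv,
        inf_subgroupOf_right] at h2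
      change _ ∣ ((centralizer {x}).subgroupOf R).index
      rcases (Nat.dvd_prime Nat.prime_two).1 h1 with e | e <;> rw [e] at h2 <;> omega
    rw [cP] at this
    norm_num at this
  have h1 := (normalizer ((P : Subgroup S) : Set S)).card_mul_index
  have h2 : 125 ∣ Nat.card (normalizer ((P : Subgroup S) : Set S)) :=
    cP ▸ card_dvd_of_le le_normalizer
  rw [P.card_eq_index_normalizer]
  change ¬ (normalizer ((P : Subgroup S) : Set S)).index ≡ 1 [MOD 5 ^ 2]
  rw [h.card] at h1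
  obtain ⟨m, hm⟩ := h2
  rw [hm] at h1 h7 h11 h16
  generalize (normalizer ((P : Subgroup S) : Set S)).index = n at h1
  have h3 : m * n = 7 * (11 * (2 ^ 9 * 9)) := by
    rw [mul_assoc] at h1
    omega
  have c : ∀ r : ℕ, r.Prime → ¬ r ∣ 125 * m → m.Coprime r := fun r hr hn =>
    ((Nat.Prime.coprime_iff_not_dvd hr).2 fun h => hn (h.mul_left _)).symm
  have h4 := (c 11 (by norm_num) h11).dvd_of_dvd_mul_left ((c 7 (by norm_num) h7).dvd_of_dvd_mul_left
    (h3 ▸ dvd_mul_right m n))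
  obtain ⟨a, b, ha, hb, rfl⟩ := (Nat.dvd_mul).1 h4
  obtain ⟨k, hk, rfl⟩ := (Nat.dvd_prime_pow Nat.prime_two).1 ha
  have h5 : k ≤ 3 := by
    by_contra hn
    exact h16 (((pow_dvd_pow 2 (by omega)).mul_right b).mul_left _)
  have h6 := Nat.le_of_dvd (by norm_num) hb
  unfold Nat.ModEq
  interval_cases k <;> interval_cases b <;> omega

theorem le125 (P : Sylow 5 S) {U K : Subgroup S} (hU : Nat.card U = 25)
    (h1 : U ≤ (P : Subgroup S) ⊓ K) {a : S}
    (ha : a ∈ (P : Subgroup S) ⊓ K) (aU : a ∉ U) : (P : Subgroup S) ≤ K := by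
  have h2 : Nat.card ((P : Subgroup S) ⊓ K : Subgroup S) ∣ 5 ^ 3 :=
    (card_dvd_of_le inf_le_left).trans (by rw [h.cardP]; norm_num)
  have h3 : 25 < Nat.card ((P : Subgroup S) ⊓ K : Subgroup S) := by
    rw [← hU]
    refine lt_of_not_ge fun h => aU ?_
    rw [eq_of_le_of_card_ge h1 h]
    exact ha
  obtain ⟨k, hk, e⟩ := (Nat.dvd_prime_pow (by norm_num)).1 h2
  have h4 : (P : Subgroup S) ⊓ K = P := eq_of_le_of_card_ge inf_le_left (by
    rw [e] at h3 ⊢
    rw [h.cardP]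
    interval_cases k <;> omega)
  exact h4 ▸ inf_le_right

section U

variable {U : Subgroup S} (hU : Nat.card U = 25)
include hU

omit h in
theorem pU : IsPGroup 5 U := IsPGroup.of_card (n := 2) hU

theorem cenU {r : ℕ} (hr : r = 2 ∨ r = 7 ∨ r = 11) : ¬ r ∣ Nat.card (centralizer (U : Set S)) := by
  intro hd
  obtain ⟨g, hg, e⟩ := exists_elt (by rcases hr with rfl | rfl | rfl <;> norm_num) hd
  obtain ⟨x, hx, x5⟩ := exists_elt (H := U) (r := 5) (by norm_num) (by rw [hU]; norm_num)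
  have := h.o g x (hg x hx).symm x5
  rcases hr with rfl | rfl | rfl
  · exact h.cA g e (hU ▸ card_dvd_of_le fun u hu => memC.2 (hg u hu))
  · exact this.2.1 e
  · exact this.2.2 e

theorem eq_of_le {P Q : Sylow 5 S} (hP : (P : Subgroup S) ≤ normalizer (U : Set S))
    (hQ : (Q : Subgroup S) ≤ (P : Subgroup S) ⊔ centralizer (U : Set S)) : P = Q := by
  have h1 := H3.card_sup_dvd_of_le_normalizer
    (hP.trans (nzC U))
  rw [h.cardP] at h1
  have c : ∀ r, r = 2 ∨ r = 7 ∨ r = 11 →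
      ¬ r ∣ Nat.card ((P : Subgroup S) ⊔ centralizer (U : Set S) : Subgroup S) := fun r hr hd => by
    refine h.cenU hU hr (Nat.Coprime.dvd_of_dvd_mul_left ?_ (hd.trans h1))
    rcases hr with rfl | rfl | rfl <;> norm_num
  exact h.uniq (c 2 (by simp)) (c 7 (by simp)) (c 11 (by simp)) le_sup_left hQ

theorem mem_N {P : Sylow 5 S} (hP : (P : Subgroup S) ≤ normalizer (U : Set S)) {g : S}
    (hg : ∀ p ∈ (P : Subgroup S), g * p * g⁻¹ ∈ (P : Subgroup S) ⊔ centralizer (U : Set S)) :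
    g ∈ normalizer ((P : Subgroup S) : Set S) := by
  refine Sylow.smul_eq_iff_mem_normalizer.1 (h.eq_of_le hU hP ?_).symm
  rintro _ ⟨p, hp, rfl⟩
  exact hg p hp

theorem notC {P Q : Sylow 5 S} (hP : (P : Subgroup S) ≤ normalizer (U : Set S))
    (hQ : (Q : Subgroup S) ≤ normalizer (U : Set S)) (hne : P ≠ Q) :
    ¬ (P : Subgroup S) ≤ centralizer (U : Set S) := fun hc => by
  have h1 : (Q : Subgroup S) ≤ normalizer ((P : Subgroup S) : Set S) := fun q hq =>
    h.mem_N hU hP fun p hp => mem_sup_right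
      (nconj (nzC U (hQ hq)) (hc hp))
  have h2 := Q.isPGroup'.inf_normalizer_sylow P
  refine hne (h.eq_of_le hU hP (le_trans ?_ le_sup_left))
  exact (inf_eq_left.2 h1).symm.le.trans (h2.le.trans inf_le_right)

theorem exists_w {P Q : Sylow 5 S} (hP : (P : Subgroup S) ≤ normalizer (U : Set S))
    (hQ : (Q : Subgroup S) ≤ normalizer (U : Set S)) (UP : U ≤ P) (UQ : U ≤ Q) (hne : P ≠ Q) :
    ∃ w : S, ∀ u ∈ U, w * u * w⁻¹ = u⁻¹ := by
  have u5 : ∀ u ∈ U, u ^ 5 = 1 := fun u hu => e5 h.o25 (pU hU) hu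
  have p5 : Nat.Prime 5 := by norm_num
  obtain ⟨p, hp, pc⟩ := SetLike.not_le_iff_exists.1 (h.notC hU hP hQ hne)
  obtain ⟨q, hq, qc⟩ := SetLike.not_le_iff_exists.1 (h.notC hU hQ hP hne.symm)
  obtain ⟨z, hz, z1, f1, f2⟩ := tv hU u5 (hP hp) (e5 h.o25 P.isPGroup' hp) pc
  obtain ⟨b, hb, b1, g1, g2⟩ := tv hU u5 (hQ hq) (e5 h.o25 Q.isPGroup' hq) qc
  have zU : zpowers z ≤ U := zpowers_le.2 hz
  have bU : zpowers b ≤ U := zpowers_le.2 hb
  by_cases bz : b ∈ zpowers z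
  · exfalso
    obtain ⟨u, hu, uc⟩ : ∃ u ∈ U, p * u ≠ u * p := by
      by_contra hn
      push Not at hn
      exact pc fun u hu => (hn u hu).symm
    have y1 : p * u * p⁻¹ * u⁻¹ ≠ 1 := fun e => uc (by
      rwa [mul_inv_eq_one, mul_inv_eq_iff_eq_mul] at e)
    obtain ⟨k, hk⟩ := exists_nat (zpowers_le.2 (zp_le p5 (u5 z hz) (f2 u hu) y1)
      (zpowers_le.2 bz (g2 u hu)))
    have e1 := conj_pow_eq ((f1 _ (zU (f2 u hu))).2 (f2 u hu)) (inv_mul_cancel_right _ u).symm k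
    rw [hk, inv_mul_cancel_right] at e1
    have e2 : q * z = z * q := (g1 z hz).2 (zp_le p5 (u5 z hz) bz b1)
    have e3 : p * z = z * p := (f1 z hz).2 (mem_zpowers z)
    have hc : U ≤ centralizer {q⁻¹ * p ^ k} := le25 hU (a := u) (b := z)
      ⟨hu, memC.2 (by
        calc _ = q⁻¹ * (q * u * q⁻¹) * p ^ k := by group
          _ = _ := by rw [← e1]; group)⟩
      ⟨hz, memC.2 ((Commute.inv_left e2).mul_left (Commute.pow_left e3 k)).symm.eq⟩ z1 (u5 z hz)
      fun e => uc ((f1 u hu).2 e)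
    have hc' : q⁻¹ * p ^ k ∈ centralizer (U : Set S) := fun v hv => memC.1 (hc hv)
    refine hne (h.eq_of_le hU hP (h.le125 Q hU (le_inf UQ (UP.trans le_sup_left)) (a := q)
      ⟨hq, ?_⟩ fun e => qc fun v hv => comm25 hU hv e))
    have := mul_mem (mem_sup_left (pow_mem hp k) : p ^ k ∈ (P : Subgroup S) ⊔ centralizer (U : Set S))
      (inv_mem (mem_sup_right hc'))
    simpa using this
  · have a1 : p * b * p⁻¹ * b⁻¹ ≠ 1 := fun e => bz ((f1 b hb).1 (by
      rwa [mul_inv_eq_one, mul_inv_eq_iff_eq_mul] at e))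
    have az := f2 b hb
    have e1 : p * b * p⁻¹ = p * b * p⁻¹ * b⁻¹ * b := (inv_mul_cancel_right _ b).symm
    generalize p * b * p⁻¹ * b⁻¹ = a at a1 az e1
    have ha := zU az
    have e2 : p * a * p⁻¹ = a := by rw [(f1 a ha).2 az, mul_inv_cancel_right]
    have ab : a ∉ zpowers b := fun e =>
      bz (zp_le p5 (u5 b hb) (zpowers_le.2 e (zp_le p5 (u5 z hz) az a1)) z1)
    have y1 : q * a * q⁻¹ * a⁻¹ ≠ 1 := fun e => ab ((g1 a ha).1 (by
      rwa [mul_inv_eq_one, mul_inv_eq_iff_eq_mul] at e))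
    obtain ⟨k, hk⟩ := exists_nat (inv_mem (zp_le p5 (u5 b hb) (g2 a ha) y1))
    have e3 := conj_pow_eq ((g1 _ (bU (g2 a ha))).2 (g2 a ha)) (inv_mul_cancel_right _ a).symm k
    rw [hk] at e3
    have e4 : q ^ k * b * (q ^ k)⁻¹ = b := by
      rw [(Commute.pow_left ((g1 b hb).2 (mem_zpowers b)) k).eq, mul_inv_cancel_right]
    generalize q ^ k = r at e3 e4
    have c := comm25 hU ha hb
    have n1 : p * r * p * a * (p * r * p)⁻¹ = b⁻¹ := by
      calc _ = p * (r * (p * a * p⁻¹) * r⁻¹) * p⁻¹ := by group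
        _ = p * (b⁻¹ * a) * p⁻¹ := by rw [e2, e3]
        _ = (p * b * p⁻¹)⁻¹ * (p * a * p⁻¹) := by group
        _ = _ := by rw [e1, e2]; group
    have n2 : p * r * p * b * (p * r * p)⁻¹ = a := by
      calc _ = p * (r * (p * b * p⁻¹) * r⁻¹) * p⁻¹ := by group
        _ = p * ((r * a * r⁻¹) * (r * b * r⁻¹)) * p⁻¹ := by rw [e1]; group
        _ = _ := by rw [e3, e4, mul_assoc b⁻¹, c, inv_mul_cancel_left, e2]
    generalize p * r * p = n at n1 n2
    let K : Subgroup S :=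
      { carrier := {u | u ∈ U ∧ n * n * u * (n * n)⁻¹ = u⁻¹}
        one_mem' := ⟨U.one_mem, by simp⟩
        mul_mem' := fun {x y} hx hy => ⟨U.mul_mem hx.1 hy.1, by
          rw [← conj_mul, hx.2, hy.2, comm25 hU hx.1 hy.1, mul_inv_rev]⟩
        inv_mem' := fun {x} hx => ⟨U.inv_mem hx.1, by rw [← conj_inv, hx.2]⟩ }
    refine ⟨n * n, fun u hu => (le25 (K := K) hU ⟨ha, ha, ?_⟩ ⟨hb, hb, ?_⟩ b1 (u5 b hb) ab hu).2⟩
    · calc _ = n * (n * a * n⁻¹) * n⁻¹ := by group
        _ = _ := by rw [n1, ← conj_inv, n2]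
    · calc _ = n * (n * b * n⁻¹) * n⁻¹ := by group
        _ = _ := by rw [n2, n1]

theorem exists_t {w : S} (hw : ∀ u ∈ U, w * u * w⁻¹ = u⁻¹) :
    ∃ t : S, t * t = 1 ∧ ∀ u ∈ U, t * u * t⁻¹ = u⁻¹ := by
  have h1 : w * w ∈ centralizer (U : Set S) := fun u hu => by
    have : w * w * u * (w * w)⁻¹ = u := by
      calc _ = w * (w * u * w⁻¹) * w⁻¹ := by group
        _ = _ := by rw [hw u hu, ← conj_inv, hw u hu, inv_inv]
    exact (mul_inv_eq_iff_eq_mul.1 this).symm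
  obtain ⟨j, hj⟩ : Odd (orderOf (w * w)) := by
    rw [← Nat.not_even_iff_odd, even_iff_two_dvd]
    exact fun e => h.cenU hU (.inl rfl) (e.trans (orderOf_dvd_natCard _ h1))
  refine ⟨(w * w) ^ j * w, ?_, fun u hu => ?_⟩
  · rw [← pow_orderOf_eq_one (w * w), hj, ← pow_two w, ← pow_mul, ← pow_mul, ← pow_succ,
      ← pow_add]
    congr 1
    ring
  · calc _ = (w * w) ^ j * (w * u * w⁻¹) * ((w * w) ^ j)⁻¹ := by group
      _ = _ := by rw [hw u hu, ← pow_mem h1 j _ (U.inv_mem hu), mul_inv_cancel_right]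

end U

theorem data : ∃ (H : Subgroup S) (t x u y : H), ¬ 3 ∣ Nat.card H ∧ t * t = 1 ∧ t ≠ 1 ∧
    t * x = x * t ∧ t * y * t⁻¹ = y⁻¹ ∧ x * y = y * x ∧ u * y = y * u ∧ x * u * x⁻¹ = y * u ∧
    x ^ 5 = 1 ∧ y ^ 5 = 1 ∧ y ≠ 1 ∧ x ∉ zpowers y := by
  obtain ⟨P, Q, hne, iP, iQ⟩ := H58.exists_inter_index h.nmod
  have nU : ∀ (R : Sylow 5 S) (U : Subgroup S), U ≤ R → U.relIndex R = 5 →
      Nat.card U = 25 ∧ (R : Subgroup S) ≤ normalizer (U : Set S) := fun R U hR e => by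
    have h1 := (U.subgroupOf R).card_mul_index
    rw [Nat.card_congr (subgroupOfEquivOfLe hR).toEquiv, h.cardP] at h1
    change _ * U.relIndex R = _ at h1
    rw [e] at h1
    refine ⟨by omega, (normal_subgroupOf_iff_le_normalizer hR).1
      (normal_of_index_eq_minFac_card ?_)⟩
    rw [h.cardP]
    exact e.trans (by norm_num)
  obtain ⟨hU, hP⟩ := nU P _ inf_le_left iP
  obtain ⟨-, hQ⟩ := nU Q _ inf_le_right iQ
  obtain ⟨w, hw⟩ := h.exists_w hU hP hQ inf_le_left inf_le_right hne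
  obtain ⟨t, tt, ht⟩ := h.exists_t hU hw
  have pc := h.notC hU hP hQ hne
  have UP : (P : Subgroup S) ⊓ Q ≤ P := inf_le_left
  generalize (P : Subgroup S) ⊓ Q = U at hU hP ht pc UP
  have u5 : ∀ u ∈ U, u ^ 5 = 1 := fun u hu => e5 h.o25 (pU hU) hu
  have tN : t ∈ normalizer ((P : Subgroup S) : Set S) := h.mem_N hU hP fun p hp => by
    have h1 : t * p * t⁻¹ * p⁻¹ ∈ centralizer (U : Set S) := fun u hu => by
      have h3 := ht _ (nconj (inv_mem (hP hp)) hu)
      have h4 := ht u hu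
      have ti : t⁻¹ = t := inv_eq_of_mul_eq_one_right tt
      refine (mul_inv_eq_iff_eq_mul.1 ?_).symm
      calc _ = t * p * (t⁻¹ * (p⁻¹ * u * p⁻¹⁻¹) * t⁻¹⁻¹) * p⁻¹ * t⁻¹ := by group
        _ = t * p * (p⁻¹ * u * p⁻¹⁻¹)⁻¹ * p⁻¹ * t⁻¹ := by rw [← h3, inv_inv t, ti]
        _ = (t * u * t⁻¹)⁻¹ := by group
        _ = u := by rw [h4, inv_inv]
    simpa using mul_mem (mem_sup_right h1 : _ ∈ (P : Subgroup S) ⊔ centralizer (U : Set S))
      (mem_sup_left hp)
  obtain ⟨x, hx, tx, x1⟩ : ∃ x ∈ (P : Subgroup S), t * x = x * t ∧ x ≠ 1 := by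
    by_contra hn
    push Not at hn
    have h1 := inverts tN tt hn
    refine pc fun a ha b hb => ?_
    have := h1 _ (mul_mem ha (UP hb))
    rw [← conj_mul, h1 a ha, h1 b (UP hb), ← mul_inv_rev, inv_inj] at this
    exact this
  have x5 := e5 h.o25 P.isPGroup' hx
  have no : ∀ u ∈ U, t * u = u * t → u = 1 := fun u hu e => by
    have h1 := ht u hu
    rw [e, mul_inv_cancel_right, eq_inv_iff_mul_eq_one] at h1
    have h2 := u5 u hu
    rwa [show u ^ 5 = u * u * (u * u) * u by simp only [pow_succ, pow_zero, one_mul, mul_assoc], h1,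
      one_mul, one_mul] at h2
  have xU : x ∉ U := fun e => x1 (no x e tx)
  have xc : x ∉ centralizer (U : Set S) := fun e => pc (h.le125 P hU
    (K := centralizer (U : Set S)) (le_inf UP fun a ha b hb => comm25 hU hb ha) ⟨hx, e⟩ xU)
  obtain ⟨z, hz, z1, f1, f2⟩ := tv hU u5 (hP hx) x5 xc
  obtain ⟨u, hu, uc⟩ : ∃ u ∈ U, x * u ≠ u * x := by
    by_contra hn
    push Not at hn
    exact xc fun u hu => (hn u hu).symm
  have y1 : x * u * x⁻¹ * u⁻¹ ≠ 1 := fun e => uc (by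
    rwa [mul_inv_eq_one, mul_inv_eq_iff_eq_mul] at e)
  have yz := f2 u hu
  have e1 : x * u * x⁻¹ = x * u * x⁻¹ * u⁻¹ * u := (inv_mul_cancel_right _ u).symm
  generalize x * u * x⁻¹ * u⁻¹ = y at y1 yz e1
  have hy := zpowers_le.2 hz yz
  refine ⟨zpowers t ⊔ P, ⟨t, mem_sup_left (mem_zpowers t)⟩, ⟨x, mem_sup_right hx⟩,
    ⟨u, mem_sup_right (UP hu)⟩, ⟨y, mem_sup_right (UP hy)⟩, fun e => ?_, Subtype.ext tt,
    fun e => y1 (no y hy (by rw [show t = 1 from congrArg Subtype.val e]; simp)), Subtype.ext tx,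
    Subtype.ext (ht y hy), Subtype.ext ((f1 y hy).2 yz), Subtype.ext (comm25 hU hu hy),
    Subtype.ext e1, Subtype.ext x5, Subtype.ext (u5 y hy), fun e => y1 (congrArg Subtype.val e),
    fun ⟨n, e⟩ => xU ((show y ^ n = x from congrArg Subtype.val e) ▸ zpow_mem hy n)⟩
  have h1 := e.trans (H3.card_sup_dvd_of_le_normalizer (zpowers_le.2 tN))
  rw [h.cardP, Nat.card_zpowers] at h1
  have h2 : orderOf t ∣ 2 := orderOf_dvd_iff_pow_eq_one.2 (by rw [pow_two, tt])
  have := h1.trans (Nat.mul_dvd_mul_right h2 _)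
  norm_num at this

end Hy

theorem om_mul {G : Type*} [Group G] {a b : G} {m n : ℕ} (c : a * b = b * a) (ha : orderOf a = m)
    (hb : orderOf b = n) (h : m.Coprime n) : Om G (m * n) :=
  ⟨a * b, by rw [Commute.orderOf_mul_eq_mul_orderOf_of_coprime c (by rwa [ha, hb]), ha, hb]⟩

theorem hs3 : HS3Stmt.{u, v} := by
  intro X _ _ S _ _ f hf hs hc hV hV1
  by_contra hn
  simp only [not_or] at hn
  obtain ⟨n20, n21, n25, n30, n35, n55⟩ := hn
  haveI : Fact (Nat.Prime 3) := ⟨by norm_num⟩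
  have up : ∀ x : X, ∀ m, orderOf (f x) = m → ∃ k : ℕ, orderOf (x ^ k) = m := fun x m e =>
    exists_ord (e ▸ orderOf_map_dvd f x)
  have down : ∀ m, Om S m → Om X m := by
    rintro m ⟨g, e⟩
    obtain ⟨x, rfl⟩ := hf g
    obtain ⟨k, hk⟩ := up x m e
    exact ⟨_, hk⟩
  have v3 : ∀ v ∈ f.ker, v ≠ 1 → ∃ k : ℕ, orderOf (v ^ k) = 3 := fun v hv v1 => by
    obtain ⟨k, hk⟩ := (IsPGroup.iff_orderOf.1 hV) ⟨v, hv⟩
    rw [← orderOf_coe] at hk
    change orderOf v = _ at hk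
    refine exists_ord (hk ▸ dvd_pow_self 3 fun e => v1 ?_)
    rwa [e, pow_zero, orderOf_eq_one_iff] at hk
  obtain ⟨g7, -, o7⟩ := exists_elt (H := (⊤ : Subgroup S)) (r := 7) (by norm_num)
    (by rw [card_top, hc]; norm_num)
  have faith : ∀ x, x ∈ centralizer (f.ker : Set X) → f x = 1 := fun x hx => by
    rcases hs.eq_bot_or_eq_top_of_normal ((centralizer (f.ker : Set X)).map f)
      (Normal.map inferInstance f hf) with e | e
    · exact mem_bot.1 (e ▸ mem_map_of_mem f hx)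
    · obtain ⟨c, hc, rfl⟩ : g7 ∈ (centralizer (f.ker : Set X)).map f := e ▸ mem_top _
      obtain ⟨k, hk⟩ := up c 7 o7
      obtain ⟨⟨v, hv⟩, v1⟩ := ne_bot_iff_exists_ne_one.1 hV1
      obtain ⟨l, hl⟩ := v3 v hv fun e => v1 (Subtype.ext e)
      exact absurd (om_mul (pow_mem hc k _ (pow_mem hv l)) hl hk (by norm_num)) n21
  have no30 : ∀ t x : X, t * t = 1 → t ≠ 1 → x ^ 5 = 1 → x ≠ 1 → t * x = x * t →
      ∀ v ∈ f.ker ⊓ centralizer {x}, t * v = v * t → v = 1 := fun t x tt t1 x5 x1 tx v hv tv => by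
    by_contra v1
    obtain ⟨l, hl⟩ := v3 v hv.1 v1
    have c : Commute (v ^ l) (t * x) :=
      ((Commute.symm tv).mul_right (memC.1 hv.2)).pow_left l
    refine n30 (om_mul (n := 10) c hl ?_ (by norm_num))
    have o2 := orderOf_eq_prime (by rw [pow_two, tt]) t1
    have o5 := orderOf_eq_prime x5 x1
    rw [Commute.orderOf_mul_eq_mul_orderOf_of_coprime tx (by rw [o2, o5]; norm_num), o2, o5]
  have lift : ∀ H : Subgroup S, ¬ 3 ∣ Nat.card H →
      ∃ σ : H →* X, Function.Injective σ ∧ ∀ g, f (σ g) = g := fun H h3 => by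
    obtain ⟨n, hn⟩ := hV.exists_card_eq
    obtain ⟨σ, hσ⟩ := H69.exists_lift_of_coprime f hf
      (hn ▸ ((Nat.Prime.coprime_iff_not_dvd (by norm_num)).2 h3).pow_left n) H.subtype
    exact ⟨σ, fun a b e => Subtype.ext ((hσ a).symm.trans ((congrArg f e).trans (hσ b))), hσ⟩
  have c5 : ∀ K ≤ f.ker, ¬ 5 ∣ Nat.card K := fun K hK e => by
    obtain ⟨n, hn⟩ := (hV.to_le hK).exists_card_eq
    rw [hn] at e
    have := (show Nat.Prime 5 by norm_num).dvd_of_dvd_pow e
    norm_num at this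
  have nV : ∀ a b : X, a * b = b * a → a ∈ normalizer ((f.ker ⊓ centralizer {b} : Subgroup X) : Set X) :=
    fun a b c => mem_normalizer_fintype fun v hv => ⟨Normal.conj_mem inferInstance v hv.1 a,
      (centralizer {b}).mul_mem ((centralizer {b}).mul_mem (memC.2 c) hv.2)
        ((centralizer {b}).inv_mem (memC.2 c))⟩
  have nK : ∀ a : X, a ∈ normalizer (f.ker : Set X) := fun a => le_normalizer_of_normal (mem_top a)
  have pw : ∀ {x y : X}, Commute x y → x ^ 5 = 1 → y ^ 5 = 1 → ∀ i j : ℤ,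
      (x ^ i * y ^ j) ^ 5 = 1 := fun {x y} c x5 y5 i j => by
    rw [(c.zpow_zpow i j).mul_pow, ← zpow_natCast, ← zpow_natCast, ← zpow_mul, ← zpow_mul,
      mul_comm i, mul_comm j, zpow_mul, zpow_mul, zpow_natCast, zpow_natCast, x5, y5]
    simp
  have zp : ∀ {H : Subgroup S} (σ : H →* X), Function.Injective σ → ∀ x y : H, x ∉ zpowers y →
      σ x ∉ zpowers (σ y) := fun σ hσ x y h ⟨n, e⟩ => h ⟨n, hσ ((map_zpow σ y n).trans e)⟩
  have o25 : ∀ a : S, orderOf a ≠ 25 := fun a e => n25 (down _ ⟨a, e⟩)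
  have oo : ∀ a b : S, a * b = b * a → orderOf b = 5 →
      orderOf a ≠ 4 ∧ orderOf a ≠ 7 ∧ orderOf a ≠ 11 := fun a b c e =>
    ⟨fun e' => n20 (down _ (om_mul c e' e (by norm_num))),
      fun e' => n35 (down _ (om_mul c e' e (by norm_num))),
      fun e' => n55 (down _ (om_mul c e' e (by norm_num)))⟩
  have h : Hy S := ⟨hc, oo, o25, fun t t2 hd => by
    obtain ⟨U, UC, hU⟩ := exists_sub (r := 5) (n := 2) (by norm_num) hd
    obtain ⟨b, hb, b5⟩ := exists_elt (H := U) (r := 5) (by norm_num) (by rw [hU]; norm_num)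
    obtain ⟨a, ha, ab⟩ : ∃ a ∈ U, a ∉ zpowers b := SetLike.not_le_iff_exists.1 fun e => by
      have := card_le_of_le e
      rw [hU, Nat.card_zpowers, b5] at this
      norm_num at this
    have tN : t ∈ normalizer (U : Set S) := mem_normalizer_fintype fun x hx => by
      rw [← memC.1 (UC hx), mul_inv_cancel_right]; exact hx
    obtain ⟨σ, hσ, fσ⟩ := lift (zpowers t ⊔ U) fun e => by
      have := e.trans (H3.card_sup_dvd_of_le_normalizer (zpowers_le.2 tN))
      rw [hU, Nat.card_zpowers, t2] at this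
      norm_num at this
    let t' : (zpowers t ⊔ U : Subgroup S) := ⟨t, mem_sup_left (mem_zpowers t)⟩
    let a' : (zpowers t ⊔ U : Subgroup S) := ⟨a, mem_sup_right ha⟩
    let b' : (zpowers t ⊔ U : Subgroup S) := ⟨b, mem_sup_right hb⟩
    have tt : t * t = 1 := by rw [← pow_two, ← t2, pow_orderOf_eq_one]
    have t1 : t ≠ 1 := fun e => by rw [e, orderOf_one] at t2; omega
    have tt' : σ t' * σ t' = 1 := by rw [← map_mul, show t' * t' = 1 from Subtype.ext tt, map_one]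
    have t1' : σ t' ≠ 1 := fun e => t1 (congrArg Subtype.val (hσ (e.trans (map_one σ).symm)))
    have ca : Commute (σ t') (σ a') :=
      Commute.map (show Commute t' a' from Subtype.ext (memC.1 (UC ha)).symm) σ
    have cb : Commute (σ t') (σ b') :=
      Commute.map (show Commute t' b' from Subtype.ext (memC.1 (UC hb)).symm) σ
    have cab : Commute (σ a') (σ b') :=
      Commute.map (show Commute a' b' from Subtype.ext (comm25 hU ha hb)) σ
    have u5 : ∀ x : (zpowers t ⊔ U : Subgroup S), (x : S) ∈ U → σ x ^ 5 = 1 := fun x hx => by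
      rw [← map_pow, show x ^ 5 = 1 from Subtype.ext (e5 o25 (Hy.pU hU) hx), map_one]
    have h1 : f.ker ⊓ centralizer {σ t'} ≤ ⊥ := gen2 cab (u5 a' ha) (u5 b' hb)
      (fun e => by
        have : b = 1 := congrArg Subtype.val (hσ (e.trans (map_one σ).symm))
        rw [this, orderOf_one] at b5
        omega)
      (zp σ hσ _ _ fun ⟨n, e⟩ => ab ⟨n, congrArg Subtype.val e⟩) (nV _ _ ca.symm.eq)
      (nV _ _ cb.symm.eq) (c5 _ inf_le_left) fun i j h1 v hv =>
        no30 _ _ tt' t1' (pw cab (u5 a' ha) (u5 b' hb) i j) h1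
          ((ca.zpow_right i).mul_right (cb.zpow_right j)) v ⟨hv.1.1, hv.2⟩ (memC.1 hv.1.2).symm
    have h2 := inverts (nK (σ t')) tt' fun v hv e => h1 ⟨hv, memC.2 e.symm⟩
    have h3 : t ∈ center S := mem_center_iff.2 fun g => by
      obtain ⟨g, rfl⟩ := hf g
      have := faith (σ t' * (g * σ t' * g⁻¹)) fun v hv => (mul_inv_eq_iff_eq_mul.1 (by
        calc _ = σ t' * (g * (σ t' * (g⁻¹ * v * g⁻¹⁻¹) * (σ t')⁻¹) * g⁻¹) * (σ t')⁻¹ := by group
          _ = (σ t' * v * (σ t')⁻¹)⁻¹ := by rw [h2 _ (nconj (nK _) hv)]; group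
          _ = v := by rw [h2 v hv, inv_inv])).symm
      simp only [map_mul, map_inv, fσ] at this
      rw [← mul_inv_eq_iff_eq_mul, ← inv_eq_of_mul_eq_one_right this]
      exact inv_eq_of_mul_eq_one_right tt
    rcases hs.eq_bot_or_eq_top_of_normal (center S) inferInstance with e | e
    · exact t1 (mem_bot.1 (e ▸ h3))
    · exact (oo g7 b (mem_center_iff.1 (e ▸ mem_top b) g7) b5).2.1 o7⟩
  obtain ⟨H, t, x, u, y, h3, tt, t1, tx, ty, xy, uy, xu, x5, y5, y1, nxy⟩ := h.data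
  obtain ⟨σ, hσ, fσ⟩ := lift H h3
  have ne : ∀ a : H, a ≠ 1 → σ a ≠ 1 := fun a a1 e => a1 (hσ (e.trans (map_one σ).symm))
  have fy : f (σ y) ≠ 1 := fun e => y1 (Subtype.ext ((fσ y).symm.trans e))
  have nxy' := zp σ hσ _ _ nxy
  have t1' := ne t t1
  have y1' := ne y y1
  replace tt := congrArg σ tt
  replace tx := congrArg σ tx
  replace ty := congrArg σ ty
  replace xy := congrArg σ xy
  replace uy := congrArg σ uy
  replace xu := congrArg σ xu
  replace x5 := congrArg σ x5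
  replace y5 := congrArg σ y5
  simp only [map_mul, map_inv, map_pow, map_one] at tt tx ty xy uy xu x5 y5
  generalize σ t = t, σ x = x, σ u = u, σ y = y at *
  have x1 : x ≠ 1 := fun e => nxy' (e ▸ one_mem _)
  have p5 : Nat.Prime 5 := by norm_num
  have k1 : f.ker ⊓ centralizer {x} ≤ centralizer {y} := fun v hv => by
    have h1 := inverts (nV t x tx) tt (no30 t x tt t1' x5 x1 tx)
    have h2 := h1 _ (nconj (inv_mem (nV y x xy.symm)) hv)
    have h3 : y * v⁻¹ * y⁻¹ = (y⁻¹ * v * y⁻¹⁻¹)⁻¹ := by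
      calc _ = (t * y * t⁻¹)⁻¹ * (t * v * t⁻¹) * (t * y * t⁻¹) := by rw [ty, h1 v hv, inv_inv]
        _ = _ := by rw [← h2]; group
    have h4 : y * y ∈ centralizer {v} := memC.2 (by
      calc _ = v * y * (y⁻¹ * v * y⁻¹⁻¹)⁻¹ * y * v := by group
        _ = _ := by rw [← h3]; group)
    have h5 : y ∈ zpowers (y * y) := by
      have := pow_mem (mem_zpowers (y * y)) 3
      rwa [← pow_two, ← pow_mul, show y ^ (2 * 3) = y ^ 5 * y from pow_succ y 5, y5, one_mul,
        pow_two] at this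
    exact memC.2 (memC.1 (zpowers_le.2 h4 h5)).symm
  have k2 : ∀ l : ℕ, f.ker ⊓ centralizer {y ^ l * x} ≤ centralizer {y} := fun l v hv => by
    have e := conj_pow_eq (p := u⁻¹) (y := y) (u := x) (Commute.inv_left uy)
      (by rw [inv_inv, mul_assoc, mul_inv_eq_iff_eq_mul.1 xu, ← uy]; group) l
    have cy : u⁻¹ ^ l ∈ centralizer {y} := pow_mem (inv_mem (memC.2 uy)) l
    have := k1 (x := (u⁻¹ ^ l)⁻¹ * v * (u⁻¹ ^ l)⁻¹⁻¹) ⟨nconj (nK _) hv.1, memC.2 (by
      calc _ = (u⁻¹ ^ l)⁻¹ * (v * (u⁻¹ ^ l * x * (u⁻¹ ^ l)⁻¹)) * u⁻¹ ^ l := by group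
        _ = (u⁻¹ ^ l)⁻¹ * ((u⁻¹ ^ l * x * (u⁻¹ ^ l)⁻¹) * v) * u⁻¹ ^ l := by rw [e, memC.1 hv.2]
        _ = _ := by group)⟩
    simpa [mul_assoc] using mul_mem (mul_mem cy this) (inv_mem cy)
  have k3 : f.ker ≤ centralizer {y} := gen2 xy x5 y5 y1' nxy' (nK x) (nK y) (c5 _ le_rfl)
    fun i j h1 v hv => by
      have cv : ∀ w ∈ zpowers (x ^ i * y ^ j), v ∈ centralizer {w} := fun w hw =>
        memC.2 (memC.1 (zpowers_le.2 (memC.2 (memC.1 hv.2).symm) hw)).symm
      by_cases e : x ^ i = 1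
      · rw [e, one_mul] at h1 cv
        exact cv y (zp_le p5 y5 (zpow_mem (mem_zpowers y) j) h1)
      · obtain ⟨k, hk⟩ := exists_nat (zp_le p5 x5 (zpow_mem (mem_zpowers x) i) e)
        obtain ⟨l, hl⟩ := exists_nat (pow_mem (zpow_mem (mem_zpowers y) j) k)
        refine k2 l ⟨hv.1, cv _ ?_⟩
        have := pow_mem (mem_zpowers (x ^ i * y ^ j)) k
        rwa [(Commute.zpow_zpow xy i j).mul_pow, hk, ← hl, (Commute.pow_right xy l).eq] at this
  exact fy (faith y fun v hv => memC.1 (k3 hv))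

end Cfsg.Agent.H72.HS
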