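import Cfsg.Agent.H53.MWDefs2
import Cfsg.Agent.H21.Landau

/-! Project MW2: groups with at most four conjugacy classes. -/

set_option autoImplicit false

namespace Cfsg.Agent.H72.MW

open Cfsg.Agent.H53.MW

universe u

theorem inv_le_of {a k : ℕ} (hk : 0 < k) (h : k ≤ a) : (1 : ℚ) / a ≤ 1 / k :=
  one_div_le_one_div_of_le (by exact_mod_cast hk) (by exact_mod_cast h)

theorem egy1 {a : ℕ} (ha : 0 < a) (h : (1 : ℚ) / a < 1) : (1 : ℚ) / a ≤ 1 / 2 := by
  rcases Nat.lt_or_ge a 2 with h2 | h2
  · obtain rfl : a = 1 := by omega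
    norm_num at h
  · exact_mod_cast inv_le_of (k := 2) (by norm_num) h2

theorem egy2' {a b : ℕ} (ha : 0 < a) (hab : a ≤ b) (h : (1 : ℚ) / a + 1 / b < 1) :
    (1 : ℚ) / a + 1 / b ≤ 5 / 6 := by
  have hb : (0 : ℚ) < 1 / b := by
    have : 0 < b := by omega
    positivity
  rcases Nat.lt_or_ge a 3 with h3 | h3
  · have : a = 1 ∨ a = 2 := by omega
    rcases this with rfl | rfl
    · norm_num at h hb; linarith
    · rcases Nat.lt_or_ge b 3 with h4 | h4
      · obtain rfl : b = 2 := by omega
        norm_num at h
      · have := inv_le_of (k := 3) (by norm_num) h4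
        push_cast at this ⊢
        linarith
  · have h1 := inv_le_of (k := 3) (by norm_num) h3
    have h2 := inv_le_of (k := 3) (by norm_num) (h3.trans hab)
    push_cast at h1 h2
    linarith

theorem egy2 {a b : ℕ} (ha : 0 < a) (hb : 0 < b) (h : (1 : ℚ) / a + 1 / b < 1) :
    (1 : ℚ) / a + 1 / b ≤ 5 / 6 := by
  rcases le_total a b with h1 | h1
  · exact egy2' ha h1 h
  · rw [add_comm] at h ⊢
    exact egy2' hb h1 h

theorem egy3' {a b c : ℕ} (ha : 0 < a) (hab : a ≤ b) (hbc : b ≤ c)
    (h : (1 : ℚ) / a + 1 / b + 1 / c < 1) : (1 : ℚ) / a + 1 / b + 1 / c ≤ 41 / 42 := by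
  have hb : (0 : ℚ) < 1 / b := by
    have : 0 < b := by omega
    positivity
  have hc : (0 : ℚ) < 1 / c := by
    have : 0 < c := by omega
    positivity
  have key : ∀ k : ℕ, 0 < k → c < k ∨ (1 : ℚ) / c ≤ 1 / k := fun k hk => by
    rcases Nat.lt_or_ge c k with h | h
    · exact Or.inl h
    · exact Or.inr (inv_le_of hk h)
  rcases Nat.lt_or_ge a 4 with h4 | h4
  · have : a = 1 ∨ a = 2 ∨ a = 3 := by omega
    rcases this with rfl | rfl | rfl
    · push_cast at h; linarith
    · rcases Nat.lt_or_ge b 5 with h5 | h5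
      · have : b = 2 ∨ b = 3 ∨ b = 4 := by omega
        rcases this with rfl | rfl | rfl
        · push_cast at h; linarith
        · rcases key 7 (by norm_num) with h7 | h7
          · have := inv_le_of (a := 6) (k := c) (by omega) (by omega)
            push_cast at h this; linarith
          · push_cast at h7 ⊢; linarith
        · rcases key 5 (by norm_num) with h7 | h7
          · have := inv_le_of (a := 4) (k := c) (by omega) (by omega)
            push_cast at h this; linarith
          · push_cast at h7 ⊢; linarith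
      · have h1 := inv_le_of (k := 5) (by norm_num) h5
        have h2 := inv_le_of (k := 5) (by norm_num) (h5.trans hbc)
        push_cast at h1 h2 ⊢; linarith
    · rcases key 4 (by norm_num) with h7 | h7
      · have h1 := inv_le_of (a := 3) (k := c) (by omega) (by omega)
        have h2 := inv_le_of (a := 3) (k := b) (by omega) (by omega)
        push_cast at h h1 h2; linarith
      · have h2 := inv_le_of (k := 3) (by norm_num) hab
        push_cast at h7 h2 ⊢; linarith
  · have h1 := inv_le_of (k := 4) (by norm_num) h4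
    have h2 := inv_le_of (k := 4) (by norm_num) (h4.trans hab)
    have h3 := inv_le_of (k := 4) (by norm_num) ((h4.trans hab).trans hbc)
    push_cast at h1 h2 h3
    linarith

theorem egy3 {a b c : ℕ} (ha : 0 < a) (hb : 0 < b) (hc : 0 < c)
    (h : (1 : ℚ) / a + 1 / b + 1 / c < 1) : (1 : ℚ) / a + 1 / b + 1 / c ≤ 41 / 42 := by
  rcases le_total a b with h1 | h1 <;> rcases le_total b c with h2 | h2 <;>
    rcases le_total a c with h3 | h3
  · exact egy3' ha h1 h2 h
  · exact egy3' ha h1 h2 h
  · have := egy3' ha h3 h2 (by linarith); linarith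
  · have := egy3' hc h3 h1 (by linarith); linarith
  · have := egy3' hb h1 h3 (by linarith); linarith
  · have := egy3' hb h2 h3 (by linarith); linarith
  · have := egy3' hc h2 h1 (by linarith); linarith
  · have := egy3' hc h2 h1 (by linarith); linarith

theorem le_of_inv {n k : ℕ} (hn : 0 < n) (hk : 0 < k) (h : (1 : ℚ) / k ≤ 1 / n) : n ≤ k := by
  have hn' : (0 : ℚ) < n := by exact_mod_cast hn
  have hk' : (0 : ℚ) < k := by exact_mod_cast hk
  exact_mod_cast (one_div_le_one_div hk' hn').1 h

/-- the class equation in the form `1 = 1/|G| + ∑ 1/|C(x)|` -/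
theorem class_eq (G : Type*) [Group G] [Finite G] :
    ∃ (s : Finset (ConjClasses G)) (d : ConjClasses G → ℕ), (∀ c, 0 < d c) ∧
      s.card + 1 = Nat.card (ConjClasses G) ∧
      (1 : ℚ) / Nat.card G + ∑ c ∈ s, (1 : ℚ) / d c = 1 := by
  classical
  have := Fintype.ofFinite (ConjClasses G)
  have hG : (0 : ℚ) < Nat.card G := by exact_mod_cast Nat.card_pos
  refine ⟨Finset.univ.erase (ConjClasses.mk 1),
    fun C => Nat.card (Subgroup.centralizer ({H17.rep C} : Set G)), fun _ => Nat.card_pos, ?_, ?_⟩
  · rw [Finset.card_erase_add_one (Finset.mem_univ _), Finset.card_univ, Nat.card_eq_fintype_card]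
  · have h := H21.sum_index_centralizer_rep G
    have h' : ∑ C : ConjClasses G, (((Subgroup.centralizer ({H17.rep C} : Set G)).index : ℕ) : ℚ) =
        Nat.card G := by exact_mod_cast h
    have h2 : ∀ C : ConjClasses G, (1 : ℚ) /
        (Nat.card (Subgroup.centralizer ({H17.rep C} : Set G)) : ℕ) =
        (((Subgroup.centralizer ({H17.rep C} : Set G)).index : ℕ) : ℚ) / Nat.card G := by
      intro C
      have hc : (0 : ℚ) < (Nat.card (Subgroup.centralizer ({H17.rep C} : Set G)) : ℕ) := by
        exact_mod_cast Nat.card_pos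
      rw [div_eq_div_iff hc.ne' hG.ne', one_mul]
      exact_mod_cast (Subgroup.index_mul_card _).symm
    have h3 : ∑ C : ConjClasses G, (1 : ℚ) /
        (Nat.card (Subgroup.centralizer ({H17.rep C} : Set G)) : ℕ) = 1 := by
      simp_rw [h2]
      rw [← Finset.sum_div, h', div_self hG.ne']
    have h1 : H17.rep (ConjClasses.mk (1 : G)) = 1 := by
      have := H17.isConj_rep_mk (1 : G)
      exact isConj_one_left.1 this
    have h4 : Subgroup.centralizer ({1} : Set G) = ⊤ := by
      rw [eq_top_iff]
      intro x _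
      rw [Subgroup.mem_centralizer_iff]
      rintro y rfl
      simp
    rw [← Finset.add_sum_erase _ _ (Finset.mem_univ (ConjClasses.mk (1 : G))), h1, h4,
      Subgroup.card_top] at h3
    exact h3

theorem landau : LandauStmt.{u} := by
  intro G _ _
  obtain ⟨s, d, hd, hs, h⟩ := class_eq G
  have hG : 0 < Nat.card G := Nat.card_pos
  have hG' : (0 : ℚ) < 1 / Nat.card G := by positivity
  have c0 : s.card = 0 → Nat.card G ≤ 1 := fun e => by
    rw [Finset.card_eq_zero.1 e, Finset.sum_empty] at h
    exact le_of_inv hG one_pos (by push_cast; linarith)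
  have c1 : s.card = 1 → Nat.card G ≤ 2 := fun e => by
    obtain ⟨a, rfl⟩ := Finset.card_eq_one.1 e
    rw [Finset.sum_singleton] at h
    have := egy1 (hd a) (by linarith)
    exact le_of_inv hG two_pos (by push_cast; linarith)
  have c2 : s.card = 2 → Nat.card G ≤ 6 := fun e => by
    classical
    obtain ⟨a, b, hab, rfl⟩ := Finset.card_eq_two.1 e
    rw [Finset.sum_pair hab] at h
    have := egy2 (hd a) (hd b) (by linarith)
    exact le_of_inv hG (by norm_num) (by push_cast; linarith)
  have c3 : s.card = 3 → Nat.card G ≤ 42 := fun e => by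
    classical
    obtain ⟨a, b, c, hab, hac, hbc, rfl⟩ := Finset.card_eq_three.1 e
    rw [Finset.sum_insert (by simp [hab, hac]), Finset.sum_pair hbc] at h
    have := egy3 (hd a) (hd b) (hd c) (by linarith)
    exact le_of_inv hG (by norm_num) (by push_cast; linarith)
  refine ⟨fun e => ?_, fun e => ?_, fun e => ?_⟩
  · have : s.card = 0 ∨ s.card = 1 := by omega
    rcases this with e | e
    · have := c0 e; omega
    · exact c1 e
  · have : s.card = 0 ∨ s.card = 1 ∨ s.card = 2 := by omega
    rcases this with e | e | e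
    · have := c0 e; omega
    · have := c1 e; omega
    · exact c2 e
  · have : s.card = 0 ∨ s.card = 1 ∨ s.card = 2 ∨ s.card = 3 := by omega
    rcases this with e | e | e | e
    · have := c0 e; omega
    · have := c1 e; omega
    · have := c2 e; omega
    · exact c3 e

end Cfsg.Agent.H72.MW
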