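import Cfsg.Agent.H72.MWLandau
import Cfsg.Agent.H5.Supersolvable

/-! Project MW2: the class number bound `49 p ≤ 60 k(G)` from the linear statement. -/

set_option autoImplicit false

namespace Cfsg.Agent.H72.MW

open Cfsg.Agent.H53.MW Cfsg.Agent.H12.RO MulAction
open scoped commutatorElement

universe u

/-- small primes: counting orbits -/
theorem small (C : CpKit.{u}) (G N : Type u) [Group G] [Finite G] [AddCommGroup N] [Finite N]
    [DistribMulAction G N] {p : ℕ} (hp : p = 5 ∨ p = 7) (hN : p ^ 2 ≤ Nat.card N) :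
    49 * p + 60 ≤ 60 * ko G N := by
  obtain ⟨-, -, h3⟩ := C.am G N
  obtain ⟨-, l3, l4⟩ := landau (img G N)
  have hk : 0 < Nat.card (ConjClasses (img G N)) := Nat.card_pos
  unfold ko
  generalize Nat.card (ConjClasses (img G N)) = k at *
  generalize Nat.card (orbitRel.Quotient G N) = o at *
  generalize Nat.card (img G N) = h at *
  generalize Nat.card N = n at *
  have key : ∀ a b : ℕ, h ≤ a → a * b < n - 1 → b + 2 ≤ o := fun a b h1 h2 => by
    by_contra hc
    have : (o - 1) * h ≤ b * a := Nat.mul_le_mul (by omega) h1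
    rw [mul_comm b a] at this
    omega
  have k0 : 2 ≤ o := key h 0 le_rfl (by rcases hp with rfl | rfl <;> omega)
  rcases hp with rfl | rfl
  · by_cases h4 : k ≤ 3
    · have := key 6 3 (l3 h4) (by omega)
      omega
    · omega
  · by_cases h4 : k ≤ 3
    · have := key 6 7 (l3 h4) (by omega)
      omega
    by_cases h5 : k ≤ 4
    · have := key 42 1 (l4 h5) (by omega)
      omega
    · omega

/-- abelian image -/
theorem of_comm (C : CpKit.{u}) (G N : Type u) [Group G] [Finite G] [AddCommGroup N] [Finite N]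
    [DistribMulAction G N] {p : ℕ} (hp : 2 ≤ p) (hN : p ^ 2 ≤ Nat.card N)
    (hc : ∀ g h : G, ∀ x : N, ⁅g, h⁆ • x = x) : 49 * p + 60 ≤ 60 * ko G N := by
  obtain ⟨h1, h2, -⟩ := C.am G N
  have hcp : cp G N = 1 := by
    unfold cp
    rw [commProb_eq_one_iff]
    refine ⟨⟨?_⟩⟩
    rintro ⟨_, g, rfl⟩ ⟨_, h, rfl⟩
    apply Subtype.ext
    change toPermHom G N g * toPermHom G N h = toPermHom G N h * toPermHom G N g
    rw [← commutatorElement_eq_one_iff_mul_comm, ← map_commutatorElement]
    exact Equiv.ext (hc g h)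
  rw [hcp] at h1
  by_contra hlt
  have h3 : ko G N ≤ p := by omega
  have h4 : (ko G N : ℚ) ≤ p := by exact_mod_cast h3
  have h5 : (2 : ℚ) ≤ ko G N := by exact_mod_cast h2
  have h6 : (p : ℚ) ^ 2 ≤ Nat.card N := by exact_mod_cast hN
  have h7 : (2 : ℚ) ≤ p := by exact_mod_cast hp
  nlinarith

section Str

variable {G : Type u} [Group G] [Finite G]

/-- a normal subgroup of order `p²` over a normal subgroup of order `p`, of index prime to `p`:
commutators centralise it -/
theorem comm_cent {p : ℕ} (hp : p.Prime) {V M : Subgroup G} [V.Normal] [M.Normal] (hVM : V ≤ M)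
    (hV : Nat.card V = p) (hM : Nat.card M = p ^ 2) (hi : ¬ p ∣ M.index) (g h : G) {x : G}
    (hx : x ∈ M) : Commute ⁅g, h⁆ x := by
  haveI := Fact.mk hp
  have hcomm : IsMulCommutative M := IsPGroup.isMulCommutative_of_card_eq_prime_sq hM
  have hc : ⁅g, h⁆ ∈ commutator G :=
    Subgroup.commutator_mem_commutator (Subgroup.mem_top g) (Subgroup.mem_top h)
  generalize ⁅g, h⁆ = c at hc
  haveI : IsCyclic V := isCyclic_of_prime_card hV
  have h1 : c ∈ Subgroup.centralizer (V : Set G) :=
    H5.commutator_le_centralizer_of_isCyclic V hc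
  have hcard : Nat.card (M.map (QuotientGroup.mk' V)) = p := by
    have e1 := Subgroup.card_mul_index (V.subgroupOf M)
    have e2 : Nat.card (V.subgroupOf M) = p := by
      rw [Nat.card_congr (Subgroup.subgroupOfEquivOfLe hVM).toEquiv, hV]
    have e3 : (V.subgroupOf M).index = Nat.card (M.map (QuotientGroup.mk' V)) := by
      have := Subgroup.relIndex_ker M (QuotientGroup.mk' V)
      rw [QuotientGroup.ker_mk'] at this
      exact this
    rw [e2, e3, hM, pow_two] at e1
    exact Nat.eq_of_mul_eq_mul_left hp.pos e1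
  haveI : IsCyclic (M.map (QuotientGroup.mk' V)) := isCyclic_of_prime_card hcard
  haveI : (M.map (QuotientGroup.mk' V)).Normal :=
    Subgroup.Normal.map inferInstance _ (QuotientGroup.mk'_surjective V)
  have h2 : (QuotientGroup.mk' V c) ∈
      Subgroup.centralizer (M.map (QuotientGroup.mk' V) : Set (G ⧸ V)) := by
    apply H5.commutator_le_centralizer_of_isCyclic
    rw [commutator_def, ← Subgroup.map_top_of_surjective _ (QuotientGroup.mk'_surjective V),
      ← Subgroup.map_commutator]
    exact ⟨c, hc, rfl⟩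
  have h3 : x⁻¹ * (c * x * c⁻¹) ∈ V := by
    rw [← QuotientGroup.eq_one_iff]
    have := h2 _ ⟨x, hx, rfl⟩
    simp only [QuotientGroup.mk'_apply] at this
    simp only [QuotientGroup.mk_mul, QuotientGroup.mk_inv]
    rw [← this]
    group
  obtain ⟨v, hv, e⟩ : ∃ v ∈ V, c * x * c⁻¹ = x * v := ⟨_, h3, by group⟩
  have hcv : c * v = v * c := (h1 v hv).symm
  have h4 : ∀ k : ℕ, c ^ k * x * (c ^ k)⁻¹ = x * v ^ k := by
    intro k
    induction k with
    | zero => simp
    | succ k ih =>
      have hcv' : Commute c (v ^ k) := Commute.pow_right hcv k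
      calc c ^ (k + 1) * x * (c ^ (k + 1))⁻¹ = c * (c ^ k * x * (c ^ k)⁻¹) * c⁻¹ := by group
        _ = (c * x * c⁻¹) * (c * v ^ k * c⁻¹) := by rw [ih]; group
        _ = x * v ^ (k + 1) := by rw [e, hcv'.eq]; group
  have h5 : c ^ p ∈ Subgroup.centralizer ({x} : Set G) := by
    rw [Subgroup.mem_centralizer_singleton_iff]
    have hvp : v ^ p = 1 := by
      have := pow_card_eq_one' (x := (⟨v, hv⟩ : V))
      rw [hV] at this
      exact congrArg Subtype.val this
    have := h4 p
    rw [hvp, mul_one] at this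
    calc c ^ p * x = (c ^ p * x * (c ^ p)⁻¹) * c ^ p := by group
      _ = x * c ^ p := by rw [this]
  have h6 : c ^ M.index ∈ Subgroup.centralizer ({x} : Set G) := by
    rw [Subgroup.mem_centralizer_singleton_iff]
    exact congrArg Subtype.val (hcomm.is_comm.comm (⟨_, M.pow_index_mem c⟩ : M) ⟨x, hx⟩)
  have h7 : c ∈ Subgroup.centralizer ({x} : Set G) := by
    have hcop : Nat.Coprime p M.index := (Nat.Prime.coprime_iff_not_dvd hp).2 hi
    have := (Subgroup.centralizer ({x} : Set G)).mul_mem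
      ((Subgroup.centralizer ({x} : Set G)).zpow_mem h5 (Nat.gcdA p M.index))
      ((Subgroup.centralizer ({x} : Set G)).zpow_mem h6 (Nat.gcdB p M.index))
    rw [← zpow_natCast, ← zpow_natCast, ← zpow_mul, ← zpow_mul, ← zpow_add,
      ← Nat.gcd_eq_gcd_ab, hcop.gcd_eq_one] at this
    simpa using this
  exact Subgroup.mem_centralizer_singleton_iff.1 h7

/-- the structure of a minimal counterexample -/
theorem struct [Group.IsSolvable G] {p : ℕ} (hp : p.Prime) (hG : p ^ 2 ∣ Nat.card G)
    (hq : ∀ V : Subgroup G, V.Normal → V ≠ ⊥ → ¬ p ^ 2 ∣ V.index) :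
    ∃ M : Subgroup G, M.Normal ∧ ⁅M, M⁆ ≤ ⊥ ∧ p ^ 2 ≤ Nat.card M ∧
      (((∀ x ∈ M, x ^ p = 1) ∧ ∀ L : Subgroup G, L.Normal → ⊥ ≤ L → L ≤ M → L = ⊥ ∨ L = M) ∨
        ∀ g h : G, ∀ x ∈ M, Commute ⁅g, h⁆ x) := by
  haveI := Fact.mk hp
  have hdvd : ∀ V : Subgroup G, V.Normal → V ≠ ⊥ → p ∣ Nat.card V := fun V hV h0 => by
    by_contra hc
    apply hq V hV h0
    rw [← V.card_mul_index] at hG
    exact (Nat.Coprime.pow_left 2 ((Nat.Prime.coprime_iff_not_dvd hp).2 hc)).dvd_of_dvd_mul_left hG
  have hbt : (⊥ : Subgroup G) < ⊤ := by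
    rw [bot_lt_iff_ne_bot]
    intro h
    have h1 : Nat.card G = 1 := by rw [← Subgroup.card_top, h, Subgroup.card_bot]
    rw [h1, Nat.dvd_one] at hG
    have := hp.two_le
    nlinarith
  obtain ⟨V, hVn, hV0, -, hmin⟩ := exists_chief_above hbt
  obtain ⟨hab, r, hr, hexp, k, hk⟩ := chief_elem hV0 hmin
  rw [Subgroup.relIndex_bot_left] at hk
  have hpV := hdvd V hVn hV0.ne'
  obtain rfl : p = r := by
    rw [hk] at hpV
    exact (Nat.prime_dvd_prime_iff_eq hp hr).1 (hp.dvd_of_dvd_pow hpV)
  rcases Nat.lt_or_ge k 2 with hk2 | hk2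
  swap
  · exact ⟨V, hVn, hab, hk ▸ Nat.pow_le_pow_right hp.pos hk2,
      Or.inl ⟨fun x hx => Subgroup.mem_bot.1 (hexp x hx), hmin⟩⟩
  have hVc : Nat.card V = p := by
    have : k = 0 ∨ k = 1 := by omega
    rcases this with rfl | rfl
    · rw [hk, pow_zero, Nat.dvd_one] at hpV
      exact absurd hpV hp.ne_one
    · rw [hk, pow_one]
  haveI : IsCyclic V := isCyclic_of_prime_card hVc
  have hpi : p ∣ V.index := by
    rw [← V.card_mul_index, hVc, pow_two] at hG
    exact Nat.dvd_of_mul_dvd_mul_left hp.pos hG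
  -- the centralizer of `V` is bigger than `V`
  have hVC : V < Subgroup.centralizer (V : Set G) := by
    have hle : V ≤ Subgroup.centralizer (V : Set G) := by
      rw [← Subgroup.commutator_eq_bot_iff_le_centralizer]
      exact le_bot_iff.1 hab
    refine lt_of_le_of_ne hle fun h => ?_
    have h1 : (MulAut.conjNormal (H := V)).ker = Subgroup.centralizer (V : Set G) := by
      ext g
      rw [MonoidHom.mem_ker, Subgroup.mem_centralizer_iff, MulEquiv.ext_iff]
      constructor
      · intro h v hv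
        have := congrArg Subtype.val (h ⟨v, hv⟩)
        simp only [MulAut.conjNormal_apply, MulAut.one_apply] at this
        calc v * g = (g * v * g⁻¹) * g := by rw [this]
          _ = g * v := by group
      · intro h v
        apply Subtype.ext
        simp only [MulAut.conjNormal_apply, MulAut.one_apply]
        rw [← h v v.2]; group
    have h2 : V.index ∣ Nat.card (MulAut V) := by
      have h3 : V.index = (MulAut.conjNormal (H := V)).ker.index := by rw [h1, ← h]
      rw [h3, Subgroup.index_ker]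
      exact Subgroup.card_subgroup_dvd_card _
    rw [IsCyclic.card_mulAut, hVc, Nat.totient_prime hp] at h2
    have := Nat.le_of_dvd (by have := hp.two_le; omega) (hpi.trans h2)
    have := hp.pos
    omega
  obtain ⟨M, hMn, hVM, hMC, hminM⟩ := exists_chief_above hVC
  obtain ⟨habM, r, hr, hexpM, j, hj⟩ := chief_elem hVM hminM
  have hvp : ∀ v ∈ V, v ^ p = 1 := fun v hv => Subgroup.mem_bot.1 (hexp v hv)
  by_cases hrp : r = p
  · subst hrp
    have hj1 : j = 1 := by
      have h1 : ¬ r ^ 2 ∣ r ^ j := fun h =>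
        hq V hVn hV0.ne' (h.trans (hj ▸ Subgroup.relIndex_dvd_index_of_le hVM.le))
      have h2 : j ≠ 0 := by
        rintro rfl
        rw [pow_zero, Subgroup.relIndex_eq_one] at hj
        exact hVM.not_ge hj
      by_contra h3
      exact h1 (pow_dvd_pow r (by omega))
    subst hj1
    have hMc : Nat.card M = r ^ 2 := by
      have e1 := Subgroup.card_mul_index (V.subgroupOf M)
      rw [Nat.card_congr (Subgroup.subgroupOfEquivOfLe hVM.le).toEquiv, hVc] at e1
      rw [← e1, pow_two]
      congr 1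
      rw [← pow_one r, ← hj]; rfl
    have hi : ¬ r ∣ M.index := fun h => by
      apply hq V hVn hV0.ne'
      rw [← Subgroup.relIndex_mul_index hVM.le, hj, pow_one, pow_two]
      exact Nat.mul_dvd_mul_left r h
    have hcomm : IsMulCommutative M := IsPGroup.isMulCommutative_of_card_eq_prime_sq hMc
    refine ⟨M, hMn, ?_, hMc.ge, Or.inr fun g h x hx => comm_cent hp hVM.le hVc hMc hi g h hx⟩
    rw [le_bot_iff, Subgroup.commutator_eq_bot_iff_le_centralizer]
    intro a ha b hb
    exact congrArg Subtype.val (hcomm.is_comm.comm (⟨b, hb⟩ : M) ⟨a, ha⟩)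
  · exfalso
    have hcop : Nat.Coprime p r := (Nat.coprime_primes hp hr).2 (Ne.symm hrp)
    have hMM : ∀ x ∈ M, ∀ y ∈ M, Commute x y := by
      intro x hx y hy
      have hc : ⁅x, y⁆ ∈ V := habM (Subgroup.commutator_mem_commutator hx hy)
      have hcx : Commute ⁅x, y⁆ x := hMC hx _ hc
      have h1 : ∀ n : ℕ, ⁅x ^ n, y⁆ = ⁅x, y⁆ ^ n := by
        intro n
        induction n with
        | zero => simp
        | succ n ih =>
          calc ⁅x ^ (n + 1), y⁆ = x * ⁅x ^ n, y⁆ * x⁻¹ * ⁅x, y⁆ := by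
                simp only [commutatorElement_def]; group
            _ = ⁅x, y⁆ ^ (n + 1) := by
                rw [ih, ← (hcx.pow_left n).eq, mul_inv_cancel_right, pow_succ]
      have h2 : ⁅x, y⁆ ^ r = 1 := by
        rw [← h1, commutatorElement_eq_one_iff_mul_comm]
        exact hMC hy _ (hexpM x hx)
      have h3 : ⁅x, y⁆ = 1 := by
        have := pow_gcd_eq_one.2 ⟨hvp _ hc, h2⟩
        rwa [hcop.gcd_eq_one, pow_one] at this
      exact commutatorElement_eq_one_iff_commute.1 h3
    let R : Subgroup G :=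
      { carrier := {x | x ∈ M ∧ x ^ r = 1}
        one_mem' := ⟨M.one_mem, one_pow _⟩
        mul_mem' := fun {a b} ha hb => ⟨M.mul_mem ha.1 hb.1, by
          rw [(hMM a ha.1 b hb.1).mul_pow, ha.2, hb.2, one_mul]⟩
        inv_mem' := fun {a} ha => ⟨M.inv_mem ha.1, by rw [inv_pow, ha.2, inv_one]⟩ }
    have hRn : R.Normal := ⟨fun a ha g => ⟨hMn.conj_mem a ha.1 g, by
      rw [conj_pow, ha.2]; group⟩⟩
    have hR0 : R ≠ ⊥ := by
      obtain ⟨x, hxM, hxV⟩ := SetLike.exists_of_lt hVM
      intro h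
      have h1 : x ^ p ∈ R := ⟨M.pow_mem hxM p, by
        rw [← pow_mul, mul_comm, pow_mul]; exact hvp _ (hexpM x hxM)⟩
      rw [h, Subgroup.mem_bot] at h1
      apply hxV
      have := V.mul_mem (V.zpow_mem (h1 ▸ V.one_mem : x ^ p ∈ V) (Nat.gcdA p r))
        (V.zpow_mem (hexpM x hxM) (Nat.gcdB p r))
      rw [← zpow_natCast, ← zpow_natCast, ← zpow_mul, ← zpow_mul, ← zpow_add,
        ← Nat.gcd_eq_gcd_ab, hcop.gcd_eq_one] at this
      simpa using this
    obtain ⟨y, hy⟩ := exists_prime_orderOf_dvd_card' p (hdvd R hRn hR0)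
    have h1 : y ^ r = 1 := Subtype.ext y.2.2
    have h2 := orderOf_dvd_of_pow_eq_one h1
    rw [hy] at h2
    exact hrp ((Nat.prime_dvd_prime_iff_eq hp hr).1 h2).symm

end Str

theorem hk (C : CpKit.{u}) (l : LinStmt.{u}) : HKStmt.{u} := by
  intro G _ _ _ p hp hG
  induction hn : Nat.card G using Nat.strong_induction_on generalizing G with
  | _ n ih =>
  have hle : p ^ 2 ≤ Nat.card G := Nat.le_of_dvd Nat.card_pos hG
  by_cases hp3 : p ≤ 3
  · obtain ⟨l2, l3, -⟩ := landau G
    have h2 := hp.two_le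
    have : p = 2 ∨ p = 3 := by omega
    rcases this with rfl | rfl <;> omega
  by_cases hq : ∃ V : Subgroup G, V.Normal ∧ V ≠ ⊥ ∧ p ^ 2 ∣ V.index
  · obtain ⟨V, hV, h0, hd⟩ := hq
    have h1 : Nat.card (G ⧸ V) < n := by
      rw [← hn, ← V.card_mul_index]
      have h2 : 1 < Nat.card V := (Subgroup.one_lt_card_iff_ne_bot V).2 h0
      have h3 : 0 < V.index := Nat.pos_of_ne_zero Subgroup.index_ne_zero_of_finite
      change V.index < _
      nlinarith
    have h2 := ih _ h1 (G ⧸ V) hd rfl
    have h3 := C.quo G (G ⧸ V) (QuotientGroup.mk' V) (QuotientGroup.mk'_surjective V)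
    omega
  push Not at hq
  obtain ⟨M, hMn, hab, hMc, hcase⟩ := struct hp hG hq
  obtain ⟨N, _, _, π, S⟩ := exists_sec ⊥ M hab
  haveI := S.finite
  have hN : Nat.card N = Nat.card M := by
    rw [S.card, bot_inf_eq, Subgroup.card_bot, mul_one]
  have hko := C.sec G N ⊥ M π bot_le S
  suffices 49 * p + 60 ≤ 60 * ko G N by omega
  rw [← hN] at hMc
  rcases hcase with ⟨hexp, hmin⟩ | hc
  · by_cases h11 : 11 ≤ p
    · haveI : Nontrivial N := by
        rw [← Finite.one_lt_card_iff_nontrivial]
        nlinarith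
      refine (l p hp h11 G N (S.irr bot_le hmin).cr fun v => ?_).2 hMc
      obtain ⟨a, ha, rfl⟩ := S.surj v
      rw [← S.pow ha, hexp a ha, S.one]
    · refine small C G N ?_ hMc
      have h4 : 4 ≤ p := by omega
      have h10 : p ≤ 10 := by omega
      interval_cases p <;> first | omega | exact absurd hp (by norm_num)
  · refine of_comm C G N hp.two_le hMc fun g h x => ?_
    obtain ⟨a, ha, rfl⟩ := S.surj x
    rw [← S.conj _ a ha, (hc g h a ha).eq, mul_inv_cancel_right]

end Cfsg.Agent.H72.MW
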