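import Cfsg.Agent.H53.MWDefs2

/-! Project MW2: the primitive case with `e = 2`. -/

set_option autoImplicit false

namespace Cfsg.Agent.H72.MW

open Cfsg.Agent.H53.MW Cfsg.Agent.H12.RO MulAction

universe u

theorem lin_of (C : CpKit.{u}) (G V : Type u) [Group G] [Finite G] [AddCommGroup V] [Finite V]
    [DistribMulAction G V] {p : ℕ} (hp : 11 ≤ p)
    (h : 3 / 16 * (p : ℚ) ^ 2 ≤ cp G V * Nat.card V) : Lin p G V := by
  have hp' : (11 : ℚ) ≤ p := by exact_mod_cast hp
  refine ⟨by nlinarith, fun _ => ?_⟩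
  obtain ⟨h1, h2, -⟩ := C.am G V
  have hc : cp G V ≤ 1 := commProb_le_one _
  by_contra hlt
  have h3 : 60 * ko G V ≤ 49 * p + 60 := by omega
  have h4 : 60 * (ko G V : ℚ) ≤ 49 * p + 60 := by exact_mod_cast h3
  have h5 : (2 : ℚ) ≤ ko G V := by exact_mod_cast h2
  have h6 : ((ko G V : ℚ) - 1) ^ 2 ≤ (49 / 60 * p) ^ 2 :=
    pow_le_pow_left₀ (by linarith) (by linarith) 2
  nlinarith

theorem num6 {p u j k o : ℕ} (hp : 11 ≤ p) (hj : u * j + 1 = p) (hk : 4 * u ≤ k)
    (ho : p ^ 2 - 1 ≤ (o - 1) * (u * 24)) : 49 * p + 60 ≤ 60 * (k + o) := by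
  have hu : 0 < u := Nat.pos_of_ne_zero (by rintro rfl; omega)
  have h1 : p ^ 2 - 1 = u * (j * (p + 1)) := by
    subst hj
    have : (u * j + 1) ^ 2 = u * (j * (u * j + 1 + 1)) + 1 := by ring
    omega
  have h2 : j * (p + 1) ≤ (o - 1) * 24 := by
    apply Nat.le_of_mul_le_mul_left _ hu
    rw [← h1]
    calc _ ≤ _ := ho
      _ = _ := by ring
  have hj0 : 0 < j := Nat.pos_of_ne_zero (by rintro rfl; omega)
  obtain ⟨m, rfl⟩ : ∃ m, o = m + 1 := by
    refine ⟨o - 1, ?_⟩
    have : 0 < j * (p + 1) := by positivity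
    omega
  rw [Nat.add_sub_cancel] at h2
  rcases Nat.lt_or_ge j 10 with h | h
  · interval_cases j <;> omega
  · obtain ⟨i, rfl⟩ : ∃ i, j = i + 10 := ⟨j - 10, by omega⟩
    subst hj
    nlinarith [Nat.zero_le (u * i), Nat.zero_le (u * i * i)]

theorem num_pow {p : ℕ} (hp : 11 ≤ p) : ∀ F : ℕ, 2 ≤ F → 3 * F * p ≤ p ^ F := by
  intro F hF
  induction F, hF using Nat.le_induction with
  | base => nlinarith
  | succ F hF ih =>
    rw [pow_succ]
    calc 3 * (F + 1) * p ≤ (3 * F * p) * 11 := by nlinarith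
      _ ≤ p ^ F * p := Nat.mul_le_mul ih hp

theorem card_le_classes (H : Type*) [Group H] [Finite H] (U : Subgroup H)
    (hU : U ≤ Subgroup.center H) : Nat.card U ≤ Nat.card (ConjClasses H) := by
  refine Nat.card_le_card_of_injective (fun a : U => ConjClasses.mk (a : H)) fun a b h => ?_
  obtain ⟨c, hc⟩ := isConj_iff.1 (ConjClasses.mk_eq_mk_iff_isConj.1 h)
  apply Subtype.ext
  rw [← hc, Subgroup.mem_center_iff.1 (hU a.2) c, mul_inv_cancel_right]

theorem img_dvd_six (G W : Type*) [Group G] [AddCommGroup W] [Finite W] [DistribMulAction G W]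
    (h : Nat.card W = 4) : Nat.card (img G W) ∣ 6 := by
  classical
  have h1 : img G W ≤ stabilizer (Equiv.Perm W) (0 : W) := by
    rintro _ ⟨g, rfl⟩
    exact smul_zero g
  have h2 := Subgroup.card_mul_index (stabilizer (Equiv.Perm W) (0 : W))
  rw [MulAction.index_stabilizer_of_transitive, Nat.card_perm, h] at h2
  have h3 : Nat.card (stabilizer (Equiv.Perm W) (0 : W)) = 6 := by
    simp only [Nat.factorial] at h2
    omega
  exact h3 ▸ Subgroup.card_dvd_of_le h1

theorem four_elts {W : Type*} [Finite W] (h : Nat.card W = 4) {a b c d : W} (h1 : a ≠ b)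
    (h2 : a ≠ c) (h3 : a ≠ d) (h4 : b ≠ c) (h5 : b ≠ d) (h6 : c ≠ d) (y : W) :
    y = a ∨ y = b ∨ y = c ∨ y = d := by
  classical
  have := Fintype.ofFinite W
  have h7 : ({a, b, c, d} : Finset W) = Finset.univ := by
    apply Finset.eq_univ_of_card
    rw [← Nat.card_eq_fintype_card, h, Finset.card_insert_of_notMem (by simp [h1, h2, h3]),
      Finset.card_insert_of_notMem (by simp [h4, h5]), Finset.card_pair h6]
  have : y ∈ ({a, b, c, d} : Finset W) := h7 ▸ Finset.mem_univ y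
  simpa using this

theorem two_smul_eq {W A : Type*} [AddCommGroup W] [Finite W] [CommGroup A] (h : Nat.card W = 4)
    (b : W → W → A) (h1 : ∀ x y z, b x (y + z) = b x y * b x z) (h2 : ∀ x, b x x = 1)
    (h3 : ∀ x, (∀ y, b x y = 1) → x = 0) (w : W) : w + w = 0 := by
  by_contra hc
  have h0 : w ≠ 0 := by rintro rfl; simp at hc
  have hb0 : b w 0 = 1 := by
    have := h1 w 0 0
    rw [add_zero] at this
    exact left_eq_mul.1 this
  have h4 : (4 : ℕ) • w = 0 := h ▸ card_nsmul_eq_zero'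
  have h5 : w + w + w + w = 0 := by rw [← h4]; abel
  have h6 : w + w + w ≠ 0 := fun e => h0 (by rwa [e, zero_add] at h5)
  refine h0 (h3 w fun y => ?_)
  rcases four_elts h (a := 0) (b := w) (c := w + w) (d := w + w + w) h0.symm (Ne.symm hc) h6.symm
    (by simpa using h0) (by rw [add_assoc]; simpa using hc) (by simpa using h0) y with
    rfl | rfl | rfl | rfl
  · exact hb0
  · exact h2 _
  · rw [h1, h2, one_mul]
  · rw [h1, h1, h2, one_mul, one_mul]

section Cls

variable {G : Type u} [Group G]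

open Classical in
/-- an invariant of the conjugacy classes modulo `U` -/
noncomputable def lvl (U M : Subgroup G) (x : G) : ℕ :=
  if x ∈ U then 0 else if x ∈ M then 1 else if x ^ 2 ∈ U then 2 else if x ^ 2 ∈ M then 3 else 4

theorem mem_iff_of_conj {N : Subgroup G} [hN : N.Normal] {g x y a : G} (ha : a ∈ N)
    (h : g * x * g⁻¹ = a * y) : x ∈ N ↔ y ∈ N := by
  rw [← N.mul_mem_cancel_left ha (y := y), ← h]
  exact ⟨fun hx => hN.conj_mem x hx g, fun hx => by simpa [mul_assoc] using hN.conj_mem _ hx g⁻¹⟩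

theorem lvl_conj {U M : Subgroup G} [M.Normal] (hU : U ≤ Subgroup.center G) (hUM : U ≤ M)
    {g x y a : G} (ha : a ∈ U) (h : g * x * g⁻¹ = a * y) : lvl U M x = lvl U M y := by
  haveI : U.Normal := ⟨fun n hn g => by
    rw [Subgroup.mem_center_iff.1 (hU hn) g, mul_inv_cancel_right]; exact hn⟩
  have h2 : g * x ^ 2 * g⁻¹ = a ^ 2 * y ^ 2 := by
    rw [← conj_pow, h, Commute.mul_pow (Subgroup.mem_center_iff.1 (hU ha) y).symm]
  unfold lvl
  rw [mem_iff_of_conj ha h, mem_iff_of_conj (hUM ha) h, mem_iff_of_conj (U.pow_mem ha 2) h2,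
    mem_iff_of_conj (hUM (U.pow_mem ha 2)) h2]

/-- every multiplier of the class of `y` has order dividing `n` -/
def Zc (U : Subgroup G) (y : G) (n : ℕ) : Prop :=
  ∀ g : G, ∀ a ∈ U, g * y * g⁻¹ = a * y → a ^ n = 1

theorem zc_one (U : Subgroup G) : Zc U 1 1 := fun g a _ h => by simpa using h.symm

theorem cls_bound [Finite G] (C : CpKit.{u}) {U M : Subgroup G} [M.Normal]
    (hU : U ≤ Subgroup.center G) (hc : IsCyclic U) (hUM : U ≤ M) (k : ℕ) (x : Fin k → G)
    (z : Fin k → ℕ) (l : Fin k → ℕ) (hl : Function.Injective l) (hz : ∀ i, 0 < z i)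
    (h1 : ∀ i, lvl U M (x i) = l i) (h2 : ∀ i, Zc U (x i) (z i)) :
    ∑ i, (Nat.card U : ℚ) / z i ≤ Nat.card (ConjClasses G) :=
  C.cls G U hU hc k x z hz
    (fun i j _ _ ha h => hl (by rw [← h1, ← h1]; exact lvl_conj hU hUM ha h))
    (fun i g a ha h => h2 i g a ha h)

variable {W : Type u} [AddCommGroup W] [Finite W] [DistribMulAction G W] {U M : Subgroup G}
  {π : G → W}

/-- the two classes over a transposition -/
theorem exists_inv [M.Normal] (S : IsSec U M π) (hW : Nat.card W = 4) (h2 : ∀ w : W, w + w = 0)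
    (hU : U ≤ Subgroup.center G) (hUM : U ≤ M) (hk : ∀ g : G, (∀ w : W, g • w = w) → g ∈ M)
    {s : G} (hs : s ∉ M) (hs2 : s ^ 2 ∈ M) :
    ∃ s₁ s₂ : G, lvl U M s₁ = 2 ∧ lvl U M s₂ = 3 ∧ Zc U s₂ 1 := by
  have hMn : M.Normal := inferInstance
  have hnU : ∀ {x : G}, x ∉ M → x ∉ U := fun h h' => h (hUM h')
  -- the statement for a lift whose square is not in `U`
  have key : ∀ r : G, r ∉ M → r ^ 2 ∈ M → r ^ 2 ∉ U → Zc U r 1 := by
    intro r hr hr2 hrU
    obtain ⟨w, hw⟩ : ∃ w : W, r • w ≠ w := by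
      by_contra hc
      push Not at hc
      exact hr (hk r hc)
    set c := π (r ^ 2) with hc
    have hc0 : c ≠ 0 := fun e => hrU ((S.ker _ hr2).1 e)
    have hrc : r • c = c := by
      rw [hc, ← S.conj r _ hr2]; congr 1; group
    have hw0 : w ≠ 0 := by rintro rfl; exact hw (smul_zero r)
    have hwc : w ≠ c := by rintro rfl; exact hw hrc
    have hwc0 : w + c ≠ 0 := fun e => hwc (by
      have := h2 c
      rw [← e] at this
      exact (add_right_cancel this).symm)
    have h4 := four_elts hW (a := 0) (b := c) (c := w) (d := w + c) hc0.symm hw0.symm hwc0.symm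
      hwc.symm (by simpa using hw0) (by simpa using hc0)
    have hfix : ∀ y : W, r • y = y → y = 0 ∨ y = c := fun y hy => by
      rcases h4 y with h | h | h | h
      · exact Or.inl h
      · exact Or.inr h
      · exact absurd (h ▸ hy) hw
      · rw [h, smul_add, hrc] at hy
        exact absurd (add_right_cancel hy) hw
    have htriv : ∀ g : G, g • c = c → g • w = w → g ∈ M := fun g e1 e2 => hk g fun y => by
      rcases h4 y with rfl | rfl | rfl | rfl
      · exact smul_zero g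
      · exact e1
      · exact e2
      · rw [smul_add, e1, e2]
    have hM : ∀ g ∈ M, ∀ a ∈ U, g * r * g⁻¹ = a * r → a = 1 := by
      intro g hg a ha h
      have e1 : a = g * (r * g⁻¹ * r⁻¹) := by
        rw [← mul_inv_cancel_right a r, ← h]; group
      have e2 : π a = 0 := (S.ker a (hUM ha)).2 ha
      rw [e1, S.mul _ hg _ (hMn.conj_mem _ (M.inv_mem hg) r), S.conj _ _ (M.inv_mem hg),
        S.inv hg, smul_neg, ← sub_eq_add_neg, sub_eq_zero] at e2
      have hcm : Commute g r := by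
        rcases hfix _ e2.symm with h0 | h0
        · exact (Subgroup.mem_center_iff.1 (hU ((S.ker g hg).1 h0)) r).symm
        · have h1 : (r ^ 2)⁻¹ * g ∈ U := (S.eq_iff hr2 hg).1 h0.symm
          have h3 : Commute ((r ^ 2)⁻¹ * g) r := (Subgroup.mem_center_iff.1 (hU h1) r).symm
          have h5 : Commute (r ^ 2) r := (Commute.refl r).pow_left 2
          simpa using h5.mul_left h3
      rw [hcm.eq, mul_inv_cancel_right] at h
      exact (right_eq_mul.1 h)
    intro g a ha h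
    rw [pow_one]
    have hcomm : ∀ y : W, r • g • y = g • r • y := fun y => by
      have e : g * r = a * (r * g) := by rw [← mul_assoc, ← h]; group
      rw [← mul_smul g r, e, mul_smul, S.smul_of_mem (hUM ha), mul_smul]
    have hgc : g • c = c := by
      rcases hfix (g • c) (by rw [hcomm, hrc]) with h0 | h0
      · exact absurd ((smul_eq_zero_iff_eq g).1 h0) hc0
      · exact h0
    have hne : ∀ x : G, x • c = c → x • w = w ∨ x • w = w + c := fun x hx => by
      rcases h4 (x • w) with h0 | h0 | h0 | h0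
      · exact absurd ((smul_eq_zero_iff_eq x).1 h0) hw0
      · exact absurd (smul_left_cancel x (h0.trans hx.symm)) hwc
      · exact Or.inl h0
      · exact Or.inr h0
    rcases hne g hgc with h0 | h0
    · exact hM g (htriv g hgc h0) a ha h
    · have hrw : r • w = w + c := (hne r hrc).resolve_left hw
      refine hM (g * r) (htriv _ (by rw [mul_smul, hrc, hgc]) ?_) a ha (by rw [← h]; group)
      rw [mul_smul, hrw, smul_add, h0, hgc, add_assoc, h2, add_zero]
  obtain ⟨w, hw⟩ : ∃ w : W, s • w ≠ w := by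
    by_contra hc
    push Not at hc
    exact hs (hk s hc)
  obtain ⟨t, ht, rfl⟩ := S.surj w
  have hst : s * t ∉ M := fun h => hs ((M.mul_mem_cancel_right ht).1 h)
  have e : (s * t) ^ 2 = (s * t * s⁻¹) * (s ^ 2 * t) := by rw [pow_two, pow_two]; group
  have hst2 : (s * t) ^ 2 ∈ M := e ▸ M.mul_mem (hMn.conj_mem t ht s) (M.mul_mem hs2 ht)
  have hπ : π ((s * t) ^ 2) = s • π t + (π (s ^ 2) + π t) := by
    rw [e, S.mul _ (hMn.conj_mem t ht s) _ (M.mul_mem hs2 ht), S.mul _ hs2 _ ht, S.conj _ _ ht]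
  have hd : s • π t + π t ≠ 0 := fun h => hw (by
    have := h2 (π t)
    rw [← h] at this
    exact (add_right_cancel this).symm)
  have l2 : ∀ r : G, r ∉ M → r ^ 2 ∈ U → lvl U M r = 2 := fun r h1 h3 => by
    simp [lvl, h1, hnU h1, h3]
  have l3 : ∀ r : G, r ∉ M → r ^ 2 ∈ M → r ^ 2 ∉ U → lvl U M r = 3 := fun r h1 h3 h4 => by
    simp [lvl, h1, hnU h1, h3, h4]
  by_cases hsU : s ^ 2 ∈ U
  · have h1 : (s * t) ^ 2 ∉ U := fun h => hd (by
      rw [(S.ker _ hst2).2 h, (S.ker _ hs2).2 hsU, zero_add] at hπ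
      exact hπ.symm)
    exact ⟨s, s * t, l2 s hs hsU, l3 _ hst hst2 h1, key _ hst hst2 h1⟩
  · refine ⟨s * t, s, l2 _ hst ((S.ker _ hst2).1 ?_), l3 s hs hs2 hsU, key s hs hs2 hsU⟩
    have hc0 : π (s ^ 2) ≠ 0 := fun e => hsU ((S.ker _ hs2).1 e)
    have hrc : s • π (s ^ 2) = π (s ^ 2) := by
      rw [← S.conj s _ hs2]; congr 1; group
    have hw0 : π t ≠ 0 := fun e => hw (by rw [e, smul_zero])
    have hwc : π t ≠ π (s ^ 2) := fun e => hw (by rw [e, hrc])
    have hwc0 : π t + π (s ^ 2) ≠ 0 := fun e => hwc (by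
      have := h2 (π (s ^ 2))
      rw [← e] at this
      exact (add_right_cancel this).symm)
    rcases four_elts hW (a := 0) (b := π (s ^ 2)) (c := π t) (d := π t + π (s ^ 2)) hc0.symm
      hw0.symm hwc0.symm hwc.symm (by simpa using hw0) (by simpa using hc0) (s • π t) with
      h0 | h0 | h0 | h0
    · exact absurd ((smul_eq_zero_iff_eq s).1 h0) hw0
    · exact absurd (smul_left_cancel s (h0.trans hrc.symm)) hwc
    · exact absurd h0 hw
    · rw [hπ, h0, add_comm (π (s ^ 2)), h2]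

/-- lifting an element of prime order of the image -/
theorem exists_lift (hk : ∀ g : G, (∀ w : W, g • w = w) ↔ g ∈ M) {r : ℕ} (hr : r.Prime)
    (h : r ∣ Nat.card (img G W)) : ∃ x : G, x ^ r ∈ M ∧ ∀ k : ℕ, x ^ k ∈ M → r ∣ k := by
  haveI := Fact.mk hr
  obtain ⟨⟨_, x, rfl⟩, hx⟩ := exists_prime_orderOf_dvd_card' r h
  have h1 : orderOf (toPermHom G W x) = r := by
    rw [← hx]; exact (Subgroup.orderOf_coe (H := img G W) ⟨_, x, rfl⟩)
  have h2 : ∀ k : ℕ, x ^ k ∈ M ↔ r ∣ k := fun k => by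
    rw [← hk, ← h1, orderOf_dvd_iff_pow_eq_one, ← map_pow, Equiv.ext_iff]
    rfl
  exact ⟨x, (h2 r).2 dvd_rfl, fun k => (h2 k).1⟩

end Cls

theorem lp2 (C : CpKit.{u}) (O : OrdKit.{u}) : LinP.{u} (fun e => e = 2) := by
  intro G V K W _ _ _ _ _ _ _ _ _ _ _ _ _ σ U To E M π b e P he p hp h11 hV
  obtain rfl : e = 2 := he
  obtain ⟨cV, -, cG, hF, -, hcm, hdet⟩ := O.pk G V K W σ U To E M π b 2 P
  obtain ⟨F, hK, hfF, hF0⟩ := hF p hp hV
  obtain ⟨ci, ccp, cko⟩ := C.faith G V P.faith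
  have hW : Nat.card W = 4 := P.card
  have hn : 2 ≤ Module.finrank K V := P.le
  have hUM : U ≤ M := P.M_eq ▸ le_sup_left
  have hu : 0 < Nat.card U := Nat.card_pos
  have hu' : (0 : ℚ) < Nat.card U := by exact_mod_cast hu
  have hp' : (11 : ℚ) ≤ p := by exact_mod_cast h11
  have h6 := img_dvd_six σ.ker W hW
  haveI := P.Mn
  by_cases hbig : F = 1 ∧ Module.finrank K V = 2
  swap
  · -- the large cases
    apply lin_of C G V h11
    have hUk : U ≤ σ.ker := fun a ha => P.σM a (hUM ha)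
    have h1 : Nat.card U ≤ Nat.card (ConjClasses σ.ker) := by
      rw [← Nat.card_congr (Subgroup.subgroupOfEquivOfLe hUk).toEquiv]
      refine card_le_classes _ _ fun a ha => Subgroup.mem_center_iff.2 fun g => ?_
      exact Subtype.ext (hcm g g.2 a ha).symm
    have h2 : (1 : ℚ) / 24 ≤ commProb σ.ker := by
      rw [commProb_def', div_le_div_iff₀ (by norm_num) (by exact_mod_cast Nat.card_pos), cG]
      have h3 : Nat.card (img σ.ker W) ≤ 6 := Nat.le_of_dvd (by norm_num) h6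
      have h4 : 1 * (Nat.card U * 2 ^ 2 * Nat.card (img σ.ker W)) ≤
          Nat.card (ConjClasses σ.ker) * 24 := by nlinarith
      exact_mod_cast h4
    have h3 := Subgroup.commProb_subgroup_le σ.ker
    have hf : σ.ker.index ≤ F := Nat.le_of_dvd hF0 hfF
    have h4 : 9 * F ^ 2 * p ^ 2 ≤ Nat.card V := by
      rw [cV, hK]
      rcases Nat.lt_or_ge F 2 with h5 | h5
      · obtain rfl : F = 1 := by omega
        have h7 : 3 ≤ Module.finrank K V := by
          by_contra h8
          exact hbig ⟨rfl, by omega⟩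
        calc 9 * 1 ^ 2 * p ^ 2 ≤ p ^ 3 := by nlinarith
          _ ≤ (p ^ 1) ^ Module.finrank K V := by
            rw [pow_one]; exact Nat.pow_le_pow_right hp.pos h7
      · calc 9 * F ^ 2 * p ^ 2 = (3 * F * p) ^ 2 := by ring
          _ ≤ (p ^ F) ^ 2 := Nat.pow_le_pow_left (num_pow h11 F h5) 2
          _ ≤ _ := Nat.pow_le_pow_right (pow_pos hp.pos F) hn
    have h5 : 9 * (F : ℚ) ^ 2 * (p : ℚ) ^ 2 ≤ Nat.card V := by exact_mod_cast h4
    have h7 : (σ.ker.index : ℚ) ^ 2 ≤ (F : ℚ) ^ 2 := by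
      exact_mod_cast Nat.pow_le_pow_left hf 2
    have h8 : 0 < commProb G := commProb_pos G
    rw [ccp]
    have h9 : (1 : ℚ) / 24 ≤ commProb G * (F : ℚ) ^ 2 := by nlinarith
    calc 3 / 16 * (p : ℚ) ^ 2 ≤ 9 * (1 / 24) * (p : ℚ) ^ 2 := by nlinarith
      _ ≤ 9 * (commProb G * (F : ℚ) ^ 2) * (p : ℚ) ^ 2 := by gcongr
      _ = commProb G * (9 * (F : ℚ) ^ 2 * (p : ℚ) ^ 2) := by ring
      _ ≤ _ := by gcongr
  obtain ⟨rfl, hn2⟩ := hbig
  rw [pow_one] at hK
  rw [hK, hn2] at cV
  rw [hn2] at hdet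
  have htop : σ.ker = ⊤ := Subgroup.index_eq_one.1 (Nat.dvd_one.1 hfF)
  have hσ : ∀ g : G, g ∈ σ.ker := fun g => htop ▸ Subgroup.mem_top g
  have himg : img σ.ker W = img G W :=
    (C.quot σ.ker G W σ.ker.subtype (fun g => ⟨⟨g, hσ g⟩, rfl⟩) (fun _ _ => rfl)).1
  rw [himg] at cG h6
  have cG' : Nat.card G = Nat.card U * 4 * Nat.card (img G W) := by
    rw [← Subgroup.card_top, ← htop, cG]; norm_num
  have hU : U ≤ Subgroup.center G := fun a ha =>
    Subgroup.mem_center_iff.2 fun g => (hcm g (hσ g) a ha).symm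
  have hk : ∀ g : G, (∀ w : W, g • w = w) ↔ g ∈ M :=
    fun g => ⟨P.kerW g (hσ g), fun h => P.sec.smul_of_mem h⟩
  have h2 := two_smul_eq hW b P.b_add_right P.b_self P.b_nd
  have z2 : ∀ y : G, Zc U y 2 := fun y g a ha h => hdet y (hσ y) g (hσ g) a ha h
  have l0 : lvl U M 1 = 0 := by simp [lvl]
  obtain ⟨t, lt⟩ : ∃ t, lvl U M t = 1 := by
    haveI : Nontrivial W := Finite.one_lt_card_iff_nontrivial.1 (by omega)
    obtain ⟨w, hw⟩ := exists_ne (0 : W)
    obtain ⟨t, ht, rfl⟩ := P.sec.surj w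
    have : t ∉ U := fun h => hw ((P.sec.ker t ht).2 h)
    exact ⟨t, by simp [lvl, ht, this]⟩
  have hcp : ∀ c : ℚ, c * Nat.card U ≤ Nat.card (ConjClasses G) →
      ∀ h : ℕ, Nat.card (img G W) ≤ h → 3 / 16 * (4 * h) ≤ c → Lin p G V := by
    intro c h1 h h3 h4
    apply lin_of C G V h11
    rw [ccp, cV, commProb_def']
    push_cast
    refine mul_le_mul_of_nonneg_right ?_ (by positivity)
    have h0 : (0 : ℚ) < Nat.card G := by exact_mod_cast Nat.card_pos
    rw [le_div_iff₀ h0, cG']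
    have h5 : (Nat.card (img G W) : ℚ) ≤ h := by exact_mod_cast h3
    push_cast
    nlinarith
  by_cases h3 : 3 ∣ Nat.card (img G W)
  swap
  · have hb := cls_bound C hU P.cyc hUM 2 ![1, t] ![1, 2] ![0, 1] (by decide) (by decide)
      (fun i => by fin_cases i <;> assumption)
      (fun i => by fin_cases i; exacts [zc_one U, z2 t])
    simp only [Fin.sum_univ_two, Matrix.cons_val_zero, Matrix.cons_val_one] at hb
    refine hcp (3 / 2) (by push_cast at hb; linarith) 2 ?_ (by norm_num)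
    have := Nat.le_of_dvd (by norm_num) h6
    generalize Nat.card (img G W) = h at *
    interval_cases h <;> omega
  obtain ⟨x, lx, zx⟩ : ∃ x, lvl U M x = 4 ∧ Zc U x 1 := by
    obtain ⟨x, hx3, hx⟩ := exists_lift hk Nat.prime_three h3
    have e1 : x ^ 2 ∉ M := fun h => absurd (hx 2 h) (by norm_num)
    have e2 : (x ^ 2) ^ 2 ∉ M := fun h => absurd (hx 4 (by rwa [← pow_mul] at h)) (by norm_num)
    refine ⟨x ^ 2, by simp [lvl, e1, e2, mt (hUM ·) e1, mt (hUM ·) e2], fun g a ha h => ?_⟩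
    have e3 : (x ^ 2) ^ 3 ∈ U := by
      rw [← pow_mul, show 2 * 3 = 3 * 2 by norm_num, pow_mul,
        ← P.sec.ker _ (M.pow_mem hx3 2), P.sec.pow hx3, two_nsmul, h2]
    have e4 : g * (x ^ 2) ^ 3 * g⁻¹ = a ^ 3 * (x ^ 2) ^ 3 := by
      rw [← conj_pow, h, Commute.mul_pow (Subgroup.mem_center_iff.1 (hU ha) _).symm]
    rw [Subgroup.mem_center_iff.1 (hU e3) g, mul_inv_cancel_right] at e4
    have e5 : a ^ 3 = 1 := right_eq_mul.1 e4
    rw [pow_succ, z2 _ g a ha h, one_mul] at e5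
    rw [e5, one_pow]
  by_cases h2' : 2 ∣ Nat.card (img G W)
  swap
  · have hb := cls_bound C hU P.cyc hUM 3 ![1, t, x] ![1, 2, 1] ![0, 1, 4] (by decide) (by decide)
      (fun i => by fin_cases i <;> assumption)
      (fun i => by fin_cases i; exacts [zc_one U, z2 t, zx])
    simp only [Fin.sum_univ_three, Matrix.cons_val_zero, Matrix.cons_val_one,
      Matrix.cons_val] at hb
    refine hcp (5 / 2) (by push_cast at hb; linarith) 3 ?_ (by norm_num)
    have := Nat.le_of_dvd (by norm_num) h6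
    generalize Nat.card (img G W) = h at *
    interval_cases h <;> omega
  obtain ⟨s, hs2, hs⟩ := exists_lift hk Nat.prime_two h2'
  obtain ⟨s₁, s₂, l1, l2, zs⟩ := exists_inv P.sec hW h2 hU hUM (fun g => (hk g).1)
    (fun h => absurd (hs 1 (by rwa [pow_one])) (by norm_num)) hs2
  have hb := cls_bound C hU P.cyc hUM 5 ![1, t, s₁, s₂, x] ![1, 2, 2, 1, 1] ![0, 1, 2, 3, 4]
    (by decide) (by decide) (fun i => by fin_cases i <;> assumption)
    (fun i => by fin_cases i; exacts [zc_one U, z2 t, z2 s₁, zs, zx])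
  simp only [Fin.sum_univ_five, Matrix.cons_val_zero, Matrix.cons_val_one,
    Matrix.cons_val] at hb
  have hb' : 4 * (Nat.card U : ℚ) ≤ Nat.card (ConjClasses G) := by push_cast at hb; linarith
  have hh : Nat.card (img G W) = 6 := by
    have := Nat.le_of_dvd (by norm_num) h6
    generalize Nat.card (img G W) = h at *
    interval_cases h <;> omega
  rw [hh] at cG'
  refine ⟨?_, fun _ => ?_⟩
  · rw [ccp, cV, commProb_def', cG']
    have : (1 : ℚ) / 6 ≤ Nat.card (ConjClasses G) / ((Nat.card U * 4 * 6 : ℕ) : ℚ) := by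
      rw [div_le_div_iff₀ (by norm_num) (by positivity)]
      push_cast
      linarith
    push_cast at this ⊢
    nlinarith
  · obtain ⟨-, -, ho⟩ := C.am G V
    obtain ⟨j, hj⟩ := P.U_dvd
    rw [cko]
    rw [ci, cV, cG', mul_assoc] at ho
    exact num6 h11 (j := j) (by rw [← hj, hK]; omega) (by exact_mod_cast hb') ho

end Cfsg.Agent.H72.MW
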