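import Cfsg.Agent.H37.FkTF

/-! Frames of commuting `SL₂`'s: normalisers permute the factors, and the start. -/

set_option autoImplicit false

namespace Cfsg.Agent.H72.FkFr2

open Cfsg Subgroup Cfsg.Agent.H37.FK

universe u

variable {K : Type u} [Group K] [Finite K] {Fr : Frame K} {S : Sylow 2 K}

omit [Finite K] in
theorem zf (slq : SlqStmt) (i : Fr.ι) : Fr.z i ≠ 1 ∧ Fr.z i * Fr.z i = 1 ∧ Fr.z i ∈ Fr.J i ∧
    ∀ x ∈ Fr.J i, x * x = 1 → x = 1 ∨ x = Fr.z i := by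
  obtain ⟨Q⟩ : Nonempty (Sylow 2 (SL2 (Fr.F i))) := inferInstance
  obtain ⟨-, ⟨h1, h2⟩, -⟩ := slq _ (Fr.odd i) Q
  refine ⟨fun h => h1 (Fr.inj i (h.trans (map_one _).symm)), ?_, ⟨_, rfl⟩, ?_⟩
  · rw [Frame.z, ← map_mul, neg_mul_neg, one_mul, map_one]
  · rintro _ ⟨a, rfl⟩ h
    exact (h2 a (Fr.inj i (by rw [map_mul, h, map_one]))).imp (fun e => by rw [e, map_one])
      fun e => by rw [e, Frame.z]

theorem qf (slq : SlqStmt) (hS : Fr.Syl S) (i : Fr.ι) :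
    Fr.z i ∈ (S : Subgroup K) ⊓ Fr.J i ∧
      ∃ a ∈ (S : Subgroup K) ⊓ Fr.J i, ∃ b ∈ (S : Subgroup K) ⊓ Fr.J i, a * b ≠ b * a := by
  have h := hS.syl i
  obtain ⟨Q, hQ⟩ := (h.isPGroup.comap_of_injective (Fr.φ i) (Fr.inj i)).exists_le_sylow
  have e : (Q : Subgroup _).map (Fr.φ i) = (S : Subgroup K) ⊓ Fr.J i :=
    h.eq_of_le (map_le_range _ _) (Q.isPGroup'.map _)
      ((map_comap_eq_self inf_le_right).ge.trans (map_mono hQ))
  obtain ⟨⟨a, ha, b, hb, ne⟩, -⟩ := slq _ (Fr.odd i) Q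
  have ha' := e ▸ mem_map_of_mem (Fr.φ i) ha
  have ne' : Fr.φ i a * Fr.φ i b ≠ Fr.φ i b * Fr.φ i a := fun h =>
    ne (Fr.inj i (by rw [map_mul, map_mul, h]))
  refine ⟨?_, _, ha', _, e ▸ mem_map_of_mem (Fr.φ i) hb, ne'⟩
  have : Nontrivial ↥((S : Subgroup K) ⊓ Fr.J i) := (nontrivial_iff_exists_ne_one _).2
    ⟨_, ha', fun h => ne' (by rw [h, one_mul, mul_one])⟩
  obtain ⟨n, hn, hc⟩ := h.isPGroup.nontrivial_iff_card.1 this
  obtain ⟨x, hx⟩ := exists_prime_orderOf_dvd_card' 2 (hc ▸ dvd_pow_self 2 hn.ne')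
  rcases (zf slq i).2.2.2 x x.2.2 (by
    have := pow_orderOf_eq_one x
    rw [hx, sq] at this
    exact congrArg Subtype.val this) with h1 | h1
  · rw [show x = 1 from Subtype.ext h1, orderOf_one] at hx
    omega
  · exact h1 ▸ x.2

omit [Finite K] in
theorem mz (slq : SlqStmt) {g : K} {i j : Fr.ι} (h : Maps g (Fr.J i) (Fr.J j)) :
    g * Fr.z i * g⁻¹ = Fr.z j := by
  obtain ⟨h1, h2, h3, -⟩ := zf slq i
  refine ((zf slq j).2.2.2 _ ((h _).1 h3) ?_).resolve_left (by simpa using h1)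
  calc _ = g * (Fr.z i * Fr.z i) * g⁻¹ := by group
    _ = 1 := by rw [h2]; group

omit [Finite K] in
theorem zm (slq : SlqStmt) (hA : Fr.CaseA) {g : K} {i j : Fr.ι}
    (h : g * Fr.z i * g⁻¹ = Fr.z j) : Maps g (Fr.J i) (Fr.J j) := by
  obtain ⟨-, h1, k, h2⟩ := hA
  obtain ⟨a, ha⟩ := h1 i k
  obtain ⟨b, hb⟩ := h1 j k
  have h3 := mem_normalizer_iff.1 (h2 (mem_centralizer_singleton_iff.2 (show
    b * g * a⁻¹ * Fr.z k = Fr.z k * (b * g * a⁻¹) by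
      conv_lhs => rw [← mz slq ha]
      rw [← mz slq hb, ← h]
      group)))
  intro x
  rw [ha, h3, hb]
  exact iff_of_eq (by congr 1; group)

/-- **FR2** -/
theorem fr2 (slq : SlqStmt) (te : TeStmt.{u}) : Fr2Stmt.{u} := by
  intro K _ _ Fr S hS hS2 ⟨i0⟩ hc T hT _ hQ g hg
  have cj : ∀ {g x : K}, g ∈ normalizer (T : Set K) → x ∈ T → g * x * g⁻¹ ∈ T :=
    fun hg hx => (mem_normalizer_iff.1 hg _).1 hx
  rcases hc with hA | ⟨z, hz, hB⟩
  swap
  · obtain ⟨z1, z2, -⟩ := zf slq i0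
    have zT := hQ i0 (qf slq hS i0).1
    rw [hz] at z1 z2 zT
    have h1 : ∀ s ∈ T, s * z * s⁻¹ = z := fun s hs => by
      obtain ⟨π, -, h⟩ := hS.perm s (hT hs)
      simpa [hz] using mz slq (h i0)
    have h2 := hS2.om _ (hT (cj hg zT)) (fun i y hy => by
      have := h1 _ (cj (inv_mem hg) (hQ i hy))
      calc g * z * g⁻¹ * y = g * (g⁻¹ * y * g⁻¹⁻¹ * z * (g⁻¹ * y * g⁻¹⁻¹)⁻¹) * g⁻¹ * y := by
            rw [this]
        _ = _ := by group) (by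
      calc _ = g * (z * z) * g⁻¹ := by group
        _ = 1 := by rw [z2]; group)
    have h3 : ∀ w ∈ closure (Set.range Fr.z), w = 1 ∨ w = z := fun w hw => by
      induction hw using closure_induction with
      | mem x hx => obtain ⟨i, rfl⟩ := hx; exact .inr (hz i)
      | one => exact .inl rfl
      | mul x y _ _ hx hy => rcases hx with rfl | rfl <;> rcases hy with rfl | rfl <;> simp [z2]
      | inv x _ hx =>
        rcases hx with rfl | rfl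
        · simp
        · exact .inr (inv_eq_of_mul_eq_one_right z2)
    have h4 := (h3 _ h2).resolve_left (by simpa using z1)
    exact ⟨1, fun i => mem_normalizer_iff.1 (hB i (mem_centralizer_singleton_iff.2
      (mul_inv_eq_iff_eq_mul.1 h4)))⟩
  classical
  let Q : K → Fr.ι → Subgroup K := fun g i => T ⊓ (Fr.J i).comap (MulAut.conj g⁻¹).toMonoidHom
  have mQ : ∀ g i x, x ∈ Q g i ↔ x ∈ T ∧ g⁻¹ * x * g ∈ Fr.J i := fun g i x => by simp [Q]
  have mQ' : ∀ g ∈ normalizer (T : Set K), ∀ i, ∀ x ∈ (S : Subgroup K) ⊓ Fr.J i,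
      g * x * g⁻¹ ∈ Q g i := fun g hg i x hx =>
    (mQ _ _ _).2 ⟨cj hg (hQ i hx), by simpa [mul_assoc] using hx.2⟩
  have nc : ∀ g ∈ normalizer (T : Set K), ∀ i, ∃ a ∈ Q g i, ∃ b ∈ Q g i, a * b ≠ b * a :=
    fun g hg i => by
      obtain ⟨-, a, ha, b, hb, ne⟩ := qf slq hS i
      exact ⟨_, mQ' g hg i a ha, _, mQ' g hg i b hb, fun h => ne (conj_injective (x := g) (by
        simpa [mul_assoc] using h))⟩
  have un : ∀ g i, ∀ x ∈ Q g i, x * x = 1 → x = 1 ∨ x = g * Fr.z i * g⁻¹ := fun g i x hx h =>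
    ((zf slq i).2.2.2 _ ((mQ _ _ _).1 hx).2 (by
      calc _ = g⁻¹ * (x * x) * g := by group
        _ = 1 := by rw [h]; group)).imp (fun e => conj_injective (x := g⁻¹) (by simpa using e))
      fun e => by rw [← e]; group
  have sq : ∀ g i, g * Fr.z i * g⁻¹ * (g * Fr.z i * g⁻¹) = 1 := fun g i => by
    calc _ = g * (Fr.z i * Fr.z i) * g⁻¹ := by group
      _ = 1 := by rw [(zf slq i).2.1]; group
  have n1 : ∀ g i, g * Fr.z i * g⁻¹ ≠ 1 := fun g i => by simpa using (zf slq i).1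
  let ζ : Subgroup K → K := fun R => if h : ∃ x ∈ R, x * x = 1 ∧ x ≠ 1 then h.choose else 1
  have hζ : ∀ g ∈ normalizer (T : Set K), ∀ i, ζ (Q g i) = g * Fr.z i * g⁻¹ := fun g hg i => by
    have h : ∃ x ∈ Q g i, x * x = 1 ∧ x ≠ 1 := ⟨_, mQ' g hg i _ (qf slq hS i).1, sq g i, n1 g i⟩
    exact (dif_pos h).trans
      ((un g i _ h.choose_spec.1 h.choose_spec.2.1).resolve_left h.choose_spec.2.2)
  have eqQ : ∀ g g' i j, g * Fr.z i * g⁻¹ = g' * Fr.z j * g'⁻¹ →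
      ∀ x, g⁻¹ * x * g ∈ Fr.J i ↔ g'⁻¹ * x * g' ∈ Fr.J j := fun g g' i j h x => by
    rw [zm slq hA (g := g'⁻¹ * g) (i := i) (j := j) (by
      calc _ = g'⁻¹ * (g * Fr.z i * g⁻¹) * g' := by group
        _ = _ := by rw [h]; group)]
    exact iff_of_eq (by congr 1; group)
  have key := te K T (S.isPGroup'.to_le hT) {R | ∃ g ∈ normalizer (T : Set K), ∃ i, R = Q g i} ζ
    (by rintro _ ⟨g, -, i, rfl⟩; exact inf_le_left)
    (by rintro _ ⟨g, hg, i, rfl⟩; exact nc g hg i)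
    (by
      rintro _ ⟨g, hg, i, rfl⟩
      rw [hζ g hg]
      exact ⟨mQ' g hg i _ (qf slq hS i).1, n1 g i, sq g i, un g i⟩)
    (by
      rintro _ ⟨g, hg, i, rfl⟩ s hs
      refine ⟨s * g, mul_mem (le_normalizer hs) hg, i, ?_⟩
      ext x
      rw [mem_map_equiv, mQ, mQ, MulAut.conj_symm_apply, mul_mem_cancel_right hs,
        mul_mem_cancel_left (inv_mem hs)]
      exact and_congr_right' (iff_of_eq (by congr 1; group)))
    (by
      rintro _ ⟨g, hg, i, rfl⟩ s hs h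
      rw [hζ g hg] at h
      refine mem_normalizer_iff.2 fun x => ?_
      rw [mQ, mQ, mul_mem_cancel_right (inv_mem hs), mul_mem_cancel_left hs,
        eqQ g (s⁻¹ * g) i i (by
          calc _ = s⁻¹ * (s * (g * Fr.z i * g⁻¹)) := by group
            _ = _ := by rw [h]; group)]
      exact and_congr_right' (iff_of_eq (by congr 1; group)))
    (by
      rintro _ ⟨g, hg, i, rfl⟩ _ ⟨g', hg', j, rfl⟩ h
      rw [hζ g hg, hζ g' hg'] at h
      ext x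
      rw [mQ, mQ, eqQ g g' i j h])
  have ex : ∀ i, ∃ j, g * Fr.z i * g⁻¹ = Fr.z j := fun i => by
    by_contra! h
    have h1 : ∀ a ∈ Q g i, Fr.Cen S a := fun a ha j y hy =>
      key _ ⟨g, hg, i, rfl⟩ _ ⟨1, one_mem _, j, rfl⟩ (fun e => h j (by
        rw [← hζ g hg, e, hζ 1 (one_mem _)]; simp)) a ha y (by
          simpa using mQ' 1 (one_mem _) j y hy)
    obtain ⟨a, ha, b, hb, ne⟩ := nc g hg i
    exact ne (hS2.ab a (hT ha.1) b (hT hb.1) (h1 a ha) (h1 b hb))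
  choose π hπ using ex
  exact ⟨Equiv.ofBijective π (Finite.injective_iff_bijective.1 fun i j h => hA.1
    (conj_injective ((hπ i).trans (h ▸ (hπ j).symm)))), fun i => zm slq hA (hπ i)⟩

/-- **FR3** -/
theorem fr3 (dich : DichStmt.{u}) (gold : GoldStmt.{u}) (slq : SlqStmt) : Fr3Stmt.{u} := by
  intro K _ _ hK h8 Fr S hS hS2 X hX ⟨x, hx, x1⟩
  obtain ⟨t, ⟨tX, tS⟩, ht⟩ : ∃ t ∈ hX.part _ S.isPGroup', ¬ Fr.Cen S t := by
    by_contra! h
    obtain ⟨g, hg⟩ := exists_conj_sylow S (hX.two x hx).zpowers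
    have := gold K hK h8 S _ (hX.sc _ S.isPGroup') fun a ha b hb =>
      hS2.ab a ha.2 b hb.2 (h a ha) (h b hb)
    exact x1 (by simpa using this.le ⟨hX.conj x hx g trivial, hg x (mem_zpowers x)⟩)
  simp only [Frame.Cen, not_forall] at ht
  obtain ⟨i, y, ⟨-, c, rfl⟩, ne⟩ := ht
  have D := dich K X hX _ (Fr.odd i) (Fr.φ i) (((MonoidHom.ker_eq_bot_iff _).2 (Fr.inj i)).trans_le
    bot_le)
  refine ⟨i, ?_⟩
  rintro _ ⟨d, rfl⟩
  obtain ⟨π, -, hπ⟩ := hS.perm t tS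
  by_cases h : π i = i
  · exact D t tX (mem_normalizer_iff.2 (by have := hπ i; rwa [h] at this)) ⟨c, ne⟩ d
  obtain ⟨-, a, ⟨aS, ha⟩, _, ⟨-, b, rfl⟩, ne⟩ := qf slq hS i
  obtain ⟨e, he⟩ := (hπ i a).1 ha
  have h1 : ∀ b, t * a * t⁻¹ * Fr.φ i b = Fr.φ i b * (t * a * t⁻¹) := fun b =>
    he ▸ Fr.comm _ _ h e b
  refine D (a⁻¹ * (t * a * t⁻¹)) ?_ (mul_mem (le_normalizer (inv_mem ha))
    (centralizer_le_normalizer _ ?_)) ⟨b, fun h2 => ne ?_⟩ d
  · simpa [mul_assoc] using hX.mul _ S.isPGroup' _ (hX.conj t tX a⁻¹ trivial) _ (hX.inv tX)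
      (mul_mem (mul_mem (inv_mem aS) tS) (inv_mem (inv_mem aS))) (inv_mem tS)
  · rintro _ ⟨b, rfl⟩
    exact (h1 b).symm
  · rw [mul_assoc, h1, ← mul_assoc, ← mul_assoc (Fr.φ i b), mul_left_inj] at h2
    exact Commute.inv_left_iff.1 h2

end Cfsg.Agent.H72.FkFr2
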