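import Cfsg.Agent.H72.A8PatF

/-!
# A standard subgroup of type `A₈`: the fusion pattern of outer involutions
-/

set_option autoImplicit false

namespace Cfsg.Agent.H72.A8P

open Cfsg Cfsg.Agent.H63 Cfsg.Agent.H63.SL Cfsg.Agent.H63.WR Subgroup Cfsg.Agent.H63.A8
open Equiv (swap)
open Equiv.Perm (sign)

universe u

section Codes

variable {H : Type*} [Group H] {ρ : Cd → H}

theorem r_zero (hm : ∀ x y, ρ (ad x y) = ρ x * ρ y) : ρ (false, 0) = 1 := by
  have := hm (false, 0) (false, 0)
  rw [ad_self] at this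
  exact (mul_eq_left.mp this.symm)

theorem r_sq (hm : ∀ x y, ρ (ad x y) = ρ x * ρ y) (x : Cd) : ρ x * ρ x = 1 := by
  rw [← hm, ad_self, r_zero hm]

/-- The image of the codes. -/
def rsub (ρ : Cd → H) (hm : ∀ x y, ρ (ad x y) = ρ x * ρ y) : Subgroup H where
  carrier := Set.range ρ
  mul_mem' := by
    rintro _ _ ⟨x, rfl⟩ ⟨y, rfl⟩
    exact ⟨ad x y, hm x y⟩
  one_mem' := ⟨(false, 0), r_zero hm⟩
  inv_mem' := by
    rintro _ ⟨x, rfl⟩
    exact ⟨x, (inv_eq_of_mul_eq_one_right (r_sq hm x)).symm⟩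

theorem rsub_p (hm : ∀ x y, ρ (ad x y) = ρ x * ρ y) : IsPGroup 2 (rsub ρ hm) := by
  rintro ⟨_, x, rfl⟩
  refine ⟨1, Subtype.ext ?_⟩
  simpa [pow_two] using r_sq hm x

theorem rsub_card (hm : ∀ x y, ρ (ad x y) = ρ x * ρ y) (d : Cd) (hd : d ≠ (false, 0))
    (h1 : ρ d = 1) (hk : ∀ x, ρ x = 1 → x = (false, 0) ∨ x = d) :
    Nat.card (rsub ρ hm) = 16 := by
  classical
  have hf : ∀ a ∈ (Finset.univ : Finset Cd).image ρ,
      (Finset.univ.filter fun x => ρ x = a).card = 2 := by
    intro a ha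
    obtain ⟨x, -, rfl⟩ := Finset.mem_image.mp ha
    have : (Finset.univ.filter fun y => ρ y = ρ x) = {x, ad x d} := by
      ext y
      simp only [Finset.mem_filter, Finset.mem_univ, true_and, Finset.mem_insert,
        Finset.mem_singleton]
      constructor
      · intro hy
        have h2 : ρ (ad x y) = 1 := by rw [hm, hy, r_sq hm]
        rcases hk _ h2 with h3 | h3
        · left
          have := ad_eq _ _ _ h3
          rw [this]
          revert x
          intro x _ _ _ _ _
          rcases x with ⟨e, k⟩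
          simp [ad]
        · exact Or.inr (ad_eq _ _ _ h3)
      · rintro (rfl | rfl)
        · rfl
        · rw [hm, h1, mul_one]
    rw [this, Finset.card_pair (ad_ne x d hd)]
  have h2 := Finset.card_le_mul_card_image (f := ρ) Finset.univ 2 fun a ha => (hf a ha).le
  have h3 := Finset.mul_card_image_le_card (f := ρ) Finset.univ 2 fun a ha => (hf a ha).ge
  have h4 : (Finset.univ : Finset Cd).card = 32 := by simp
  have h5 : Nat.card (rsub ρ hm) = ((Finset.univ : Finset Cd).image ρ).card := by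
    rw [← Nat.card_eq_finsetCard]
    refine Nat.card_congr (Equiv.subtypeEquivRight fun a => ?_)
    rw [Finset.mem_image]
    exact ⟨fun ⟨x, hx⟩ => ⟨x, Finset.mem_univ _, hx⟩, fun ⟨x, _, hx⟩ => ⟨x, hx⟩⟩
  omega

end Codes

variable {G : Type u} [Group G]

/-- The element with a given code. -/
def el (t : G) (j : S8 →* G) (E : Fin 16 → S8) (x : Cd) : G := (if x.1 then t else 1) * j (E x.2)

theorem el_mul {t : G} {j : S8 →* G} (t2 : t * t = 1) (hc : ∀ p, Commute (j p) t)
    {E : Fin 16 → S8} (hE : ∀ k l, E (k ^^^ l) = E k * E l) (x y : Cd) :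
    el t j E (ad x y) = el t j E x * el t j E y := by
  rcases x with ⟨e, k⟩
  rcases y with ⟨e', l⟩
  have h1 := (hc (E k)).eq
  cases e <;> cases e' <;> simp only [el, ad, hE, map_mul, Bool.xor_false, Bool.xor_true,
    Bool.not_false, Bool.not_true, if_true, Bool.false_eq_true, if_false, one_mul]
  · rw [← mul_assoc (j (E k)), h1, mul_assoc]
  · rw [mul_assoc]
  · rw [mul_assoc t, ← mul_assoc (j (E k)), h1, ← mul_assoc, ← mul_assoc, t2, one_mul]

/-- Invariance of the count. -/
theorem cnt_eq {t g : G} {φ ψ : Cd → G} (hφ : ∀ x y, φ (ad x y) = φ x * φ y)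
    (hψ : ∀ x y, ψ (ad x y) = ψ x * ψ y) (hi : Function.Injective φ)
    (hg : ∀ x, ∃ y, g * φ x * g⁻¹ = ψ y) {Z Z' : Cd → Bool}
    (hZ : ∀ x, Z x = true ↔ IsConj t (φ x)) (hZ' : ∀ x, Z' x = true ↔ IsConj t (ψ x))
    {d d' : Cd} (hd : g * φ d * g⁻¹ = ψ d') : cnt Z d = cnt Z' d' := by
  choose σ hσ using hg
  have hinj : Function.Injective σ := fun x y hxy => by
    apply hi
    have : g * φ x * g⁻¹ = g * φ y * g⁻¹ := by rw [hσ, hσ, hxy]
    simpa using this
  let e : Cd ≃ Cd := Equiv.ofBijective σ (Finite.injective_iff_bijective.mp hinj)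
  have key : ∀ a b : G, g * a * g⁻¹ = b → (IsConj t a ↔ IsConj t b) := by
    intro a b hab
    have : IsConj a b := isConj_iff.mpr ⟨g, hab⟩
    exact ⟨fun h => h.trans this, fun h => h.trans this.symm⟩
  have h1 : ∀ x, Z x = Z' (e x) := fun x => by
    rw [Bool.eq_iff_iff, hZ, hZ']
    exact key _ _ (hσ x)
  have h2 : ∀ x y, Z (ad (ad x y) d) = Z' (ad (ad (e x) (e y)) d') := fun x y => by
    rw [Bool.eq_iff_iff, hZ, hZ']
    refine key _ _ ?_
    rw [hφ, hφ, hψ, hψ, ← hd]
    change _ = ψ (σ x) * ψ (σ y) * _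
    rw [← hσ, ← hσ]
    group
  unfold cnt
  symm
  rw [← Equiv.sum_comp e]
  refine Finset.sum_congr rfl fun x _ => ?_
  rw [← Equiv.sum_comp e]
  refine Finset.sum_congr rfl fun y _ => ?_
  rw [h1 x, h1 y, h2 x y]

/-- Membership in the class depends only on the type. -/
theorem mem_type {ι : Alt →* G} {π : G → S8} {t : G} {j : S8 →* G} (f : F8) (h : Hy ι π t)
    (k : Kit ι π t) (hz : ¬ IsConj t (t * ι z)) (hj : Hj ι π t j) {b : Fin 5 → Bool}
    (b0 : b 0 = true ↔ IsConj t (j (swap 0 1)))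
    (b1 : b 1 = true ↔ IsConj t (j (w.1 * swap 4 5)))
    (b2 : b 2 = true ↔ IsConj t (t * j (swap 0 1)))
    (b3 : b 3 = true ↔ IsConj t (t * j (w.1 * swap 4 5)))
    (b4 : b 4 = true ↔ IsConj t (t * ι w))
    (e : Bool) (p : S8) (hp : p * p = 1) :
    Y b e p.support.card = true ↔ IsConj t ((if e then t else 1) * j p) := by
  have key : ∀ a q : S8, a * p * a⁻¹ = q → ((Y b e q.support.card = true ↔
      IsConj t ((if e then t else 1) * j q)) → (Y b e p.support.card = true ↔
      IsConj t ((if e then t else 1) * j p))) := by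
    intro a q ha hq
    have h1 : q.support.card = p.support.card := by rw [← ha, Equiv.Perm.card_support_conj]
    have h2 : IsConj ((if e then t else 1) * j p) ((if e then t else 1) * j q) := by
      refine isConj_iff.mpr ⟨j a, ?_⟩
      have h3 : Commute (j a) (if e then t else 1) := by
        cases e
        · exact Commute.one_right _
        · exact hj.com a
      rw [← ha, map_mul, map_mul, map_inv, ← mul_assoc, h3.eq]
      group
    rw [← h1, hq]
    exact ⟨fun h => h.trans h2.symm, fun h => h.trans h2⟩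
  have n1 : (swap (0 : Fin 8) 1).support.card = 2 := by decide +kernel
  have n2 : (w.1).support.card = 4 := by decide +kernel
  have n3 : (w.1 * swap 4 5).support.card = 6 := by decide +kernel
  have n4 : (z.1).support.card = 8 := by decide +kernel
  obtain ⟨a, rfl | ha | ha | ha | ha⟩ := f.inv p hp
  · cases e
    · simp [Y, h.t1]
    · simpa [Y] using (⟨1, by simp⟩ : ∃ c, c * t * c⁻¹ = t)
  · refine key _ _ ha ?_
    rw [n1]
    cases e
    · simpa [Y] using b0
    · simpa [Y] using b2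
  · refine key _ _ ha ?_
    rw [n2, hj.ext]
    cases e
    · simpa [Y] using k.nl w
    · simpa [Y] using b4
  · refine key _ _ ha ?_
    rw [n3]
    cases e
    · simpa [Y] using b1
    · simpa [Y] using b3
  · refine key _ _ ha ?_
    rw [n4, hj.ext]
    cases e
    · simpa [Y] using k.nl z
    · simpa [Y] using hz

theorem odd_type (f : F8) {p : S8} (hp : p * p = 1) (hs : sign p = -1) :
    ∃ a : S8, a * p * a⁻¹ = swap 0 1 ∨ a * p * a⁻¹ = w.1 * swap 4 5 := by
  have key : ∀ a q : S8, a * p * a⁻¹ = q → sign q = -1 := by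
    rintro a q rfl
    rw [map_mul, map_mul, map_inv, hs, mul_comm (sign a), mul_inv_cancel_right]
  obtain ⟨a, rfl | ha | ha | ha | ha⟩ := f.inv p hp
  · simp at hs
  · exact ⟨a.1, Or.inl ha⟩
  · exact absurd (key _ _ ha) (by rw [Equiv.Perm.mem_alternatingGroup.mp w.2]; decide)
  · exact ⟨a.1, Or.inr ha⟩
  · exact absurd (key _ _ ha) (by rw [Equiv.Perm.mem_alternatingGroup.mp z.2]; decide)

theorem pat : PatStmt.{u} := by
  intro f G _ _ ι π t h k hz j hj
  classical
  by_contra hcon
  push Not at hcon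
  obtain ⟨⟨p, hp, hpD⟩, p', hp', hpD'⟩ := hcon
  have sq : ∀ x : G, IsConj t x → x * x = 1 := by
    intro x hx
    obtain ⟨g, rfl⟩ := isConj_iff.mp hx
    have : g * t * g⁻¹ * (g * t * g⁻¹) = g * (t * t) * g⁻¹ := by group
    rw [this, h.t2]; group
  have jinj : ∀ q, j q = 1 → q = 1 := fun q hq => by rw [← hj.sec q, hq, k.one]
  have pp : p * p = 1 := jinj _ (by rw [map_mul]; exact sq _ hpD)
  have pp' : p' * p' = 1 := jinj _ (by
    have h1 := sq _ hpD'
    rw [mul_assoc, ← mul_assoc (j p'), (hj.com p').eq, ← mul_assoc, ← mul_assoc, h.t2,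
      one_mul] at h1
    rw [map_mul]; exact h1)
  set a1 := decide (IsConj t (j (swap 0 1))) with ha1
  set a3 := decide (IsConj t (j (w.1 * swap 4 5))) with ha3
  set b1 := decide (IsConj t (t * j (swap 0 1))) with hb1
  set b3 := decide (IsConj t (t * j (w.1 * swap 4 5))) with hb3
  set bw := decide (IsConj t (t * ι w)) with hbw
  have hY := mem_type f h k hz hj (b := ![a1, a3, b1, b3, bw]) (by simp [ha1]) (by simp [ha3])
    (by simp [hb1]) (by simp [hb3]) (by simp [hbw])
  have cj : ∀ (a q : S8) (s : G), Commute (j a) s → IsConj t (s * j q) →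
      IsConj t (s * j (a * q * a⁻¹)) := by
    intro a q s hs hq
    refine hq.trans (isConj_iff.mpr ⟨j a, ?_⟩)
    rw [map_mul, map_mul, map_inv, ← mul_assoc, hs.eq]
    group
  have hA : (a1 || a3) = true := by
    obtain ⟨a, ha | ha⟩ := odd_type f pp hp
    · have := cj a p 1 (Commute.one_right _) (by rwa [one_mul])
      rw [ha, one_mul] at this
      rw [Bool.or_eq_true]; exact Or.inl (decide_eq_true this)
    · have := cj a p 1 (Commute.one_right _) (by rwa [one_mul])
      rw [ha, one_mul] at this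
      rw [Bool.or_eq_true]; exact Or.inr (decide_eq_true this)
  have hB : (b1 || b3) = true := by
    obtain ⟨a, ha | ha⟩ := odd_type f pp' hp'
    · have := cj a p' t (hj.com a) hpD'
      rw [ha] at this
      rw [Bool.or_eq_true]; exact Or.inl (decide_eq_true this)
    · have := cj a p' t (hj.com a) hpD'
      rw [ha] at this
      rw [Bool.or_eq_true]; exact Or.inr (decide_eq_true this)
  obtain ⟨c0, c1, c2, c3, c4⟩ := fin_check a1 a3 b1 b3 bw hA hB
  set d := sel a1 a3 b1 b3 bw
  have hZ : ∀ (E : Fin 16 → S8) (n : Fin 16 → ℕ), (∀ k l, E (k ^^^ l) = E k * E l) →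
      (∀ k, (E k).support.card = n k) → ∀ x : Cd,
      Y ![a1, a3, b1, b3, bw] x.1 (n x.2) = true ↔ IsConj t (el t j E x) := by
    intro E n hE hn x
    rw [← hn]
    refine hY _ _ ?_
    have h0 : E 0 = 1 := by
      have := hE 0 0
      exact (mul_eq_left.mp this.symm)
    rw [← hE, ← h0]
    congr 1
    ext
    simp
  have hφ := el_mul h.t2 hj.com bb_mul
  have elc : ∀ (E : Fin 16 → S8) (x : Cd), Commute (el t j E x) t := by
    rintro E ⟨e, l⟩
    refine Commute.mul_left ?_ (hj.com _)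
    cases e
    · exact Commute.one_left _
    · exact Commute.refl _
  have elπ : ∀ (E : Fin 16 → S8) (x : Cd), π (el t j E x) = E x.2 := by
    rintro E ⟨e, l⟩
    cases e
    · simp [el, hj.sec]
    · simp only [el, if_true]
      rw [h.mul _ _ (Commute.refl _) (hj.com _), k.pt, one_mul, hj.sec]
  have hk : ∀ x, el t j bb x = 1 → x = (false, 0) := by
    rintro ⟨e, l⟩ hx
    have h1 : l = 0 := bb_inj l (by rw [← k.one, ← hx, elπ])
    subst h1
    have h0 : bb 0 = 1 := by decide +kernel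
    cases e
    · rfl
    · simp [el, h0, h.t1] at hx
  have hi : Function.Injective (el t j bb) := by
    intro x y hxy
    have h1 : el t j bb (ad x y) = 1 := by rw [hφ, hxy, r_sq hφ]
    have h2 := ad_eq _ _ _ (hk _ h1)
    rw [h2]
    rcases x with ⟨e, l⟩
    simp [ad]
  have hd : IsConj t (el t j bb d) := (hZ bb nb bb_mul bb_n d).mp c0
  obtain ⟨g, hg⟩ := isConj_iff.mp hd.symm
  let ρ : Cd → G := fun x => g * el t j bb x * g⁻¹
  have hρ : ∀ x y, ρ (ad x y) = ρ x * ρ y := fun x y => by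
    simp only [ρ, hφ]; group
  have ρc : ∀ x, Commute (ρ x) t := fun x => by
    change ρ x * t = t * ρ x
    have : ρ d = t := hg
    rw [← this, ← hρ, ← hρ, ad_comm]
  have hπ : ∀ x y, π (ρ (ad x y)) = π (ρ x) * π (ρ y) := fun x y => by
    rw [hρ, h.mul _ _ (ρc x) (ρc y)]
  have hc : Nat.card (rsub (fun x => π (ρ x)) hπ) = 16 := by
    refine rsub_card hπ d c1 (by change π (g * _ * g⁻¹) = 1; rw [hg, k.pt]) fun x hx => ?_
    have h2 : Is2 (ρ x) := ⟨1, by simpa [pow_two] using r_sq hρ x⟩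
    rcases h.r2 _ (ρc x) hx h2 with h3 | h3
    · left
      apply hk
      simpa [ρ] using h3
    · right
      apply hi
      have : g * el t j bb x * g⁻¹ = g * el t j bb d * g⁻¹ := by rw [hg]; exact h3
      simpa using this
  obtain ⟨o, oc, -, ho⟩ := hj.syl (rsub (fun x => π (ρ x)) hπ) (rsub ρ hρ) (rsub_p hπ) (rsub_p hρ)
    (by
      rintro _ ⟨x, rfl⟩
      exact mem_centralizer_singleton_iff.mpr (ρc x).eq)
    (by
      rintro _ ⟨x, rfl⟩
      exact ⟨x, rfl⟩)
  have main : ∀ (E : Fin 16 → S8) (n : Fin 16 → ℕ) (a : S8), (∀ k l, E (k ^^^ l) = E k * E l) →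
      (∀ k, (E k).support.card = n k) → (∀ x, ∃ l, a * π (ρ x) * a⁻¹ = E l) →
      cnt (fun x => Y ![a1, a3, b1, b3, bw] x.1 (nb x.2)) d =
        cnt (fun x => Y ![a1, a3, b1, b3, bw] x.1 (n x.2)) (true, 0) := by
    intro E n a hE hn ha
    have h0 : E 0 = 1 := by
      have := hE 0 0
      exact (mul_eq_left.mp this.symm)
    refine cnt_eq (t := t) (g := j a * o * g) hφ (el_mul h.t2 hj.com hE) hi (fun x => ?_)
      (hZ bb nb bb_mul bb_n) (hZ E n hE hn) ?_
    · obtain ⟨l, hl⟩ := ha x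
      have h1 : j a * o * g * el t j bb x * (j a * o * g)⁻¹ = j a * (o * ρ x * o⁻¹) * (j a)⁻¹ := by
        simp only [ρ]; group
      rw [h1]
      rcases ho (ρ x) ⟨x, rfl⟩ with h2 | h2
      · refine ⟨(false, l), ?_⟩
        simp [h2, el, ← hl]
      · refine ⟨(true, l), ?_⟩
        simp only [h2, el, ← hl, if_true, map_mul, map_inv]
        rw [← mul_assoc, (hj.com a).eq]
        group
    · have h1 : j a * o * g * el t j bb d * (j a * o * g)⁻¹ =
          j a * (o * (g * el t j bb d * g⁻¹) * o⁻¹) * (j a)⁻¹ := by group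
      rw [h1, hg, oc.eq, mul_inv_cancel_right, (hj.com a).eq, mul_inv_cancel_right]
      simp [el, h0]
  obtain ⟨a, ha | ha | ha⟩ := f.e16 _ (by
    rintro _ ⟨x, rfl⟩
    exact r_sq (ρ := fun x => π (ρ x)) hπ x) hc
  · exact c4 (main _ nv a.1 vv_mul vv_n fun x => (ha _).mp ⟨x, rfl⟩)
  · exact c3 (main _ nvb a.1 vb_mul vb_n fun x => (ha _).mp ⟨x, rfl⟩)
  · exact c2 (main _ nb a.1 bb_mul bb_n fun x => (ha _).mp ⟨x, rfl⟩)

end Cfsg.Agent.H72.A8P
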