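import Cfsg.Agent.H42.HtDefs

/-! # Project HT, piece STD: the image of `A` is standard in the quotient -/

set_option autoImplicit false

namespace Cfsg.Agent.H72.HtStd

open Cfsg Cfsg.Agent.H63 Cfsg.Agent.H63.SL Cfsg.Agent.H42.HT Subgroup
open Equiv (swap)
open Equiv.Perm (sign)

universe u

theorem two_part {G H : Type u} [Group G] [Finite G] [Group H] (f : G →* H) {m : G}
    (h : Is2 (f m)) : ∃ k : ℕ, Is2 (m ^ k) ∧ f (m ^ k) = f m := by
  obtain ⟨e, he⟩ := h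
  obtain ⟨a, c, hc, ho⟩ := Nat.exists_eq_two_pow_mul_odd (orderOf_pos m).ne'
  have h1 : c ^ (2 ^ e).totient ≡ 1 [MOD 2 ^ e] :=
    Nat.ModEq.pow_totient ((Nat.coprime_two_right.2 hc).pow_right e)
  refine ⟨c ^ (2 ^ e).totient, ⟨a, ?_⟩, ?_⟩
  · rw [← pow_mul, ← orderOf_dvd_iff_pow_eq_one, ho, mul_comm]
    exact Nat.mul_dvd_mul_right (dvd_pow_self c (Nat.totient_pos.2 (by positivity)).ne') _
  · rw [map_pow, pow_eq_pow_mod _ he, h1, ← pow_eq_pow_mod _ he, pow_one]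

theorem std : StdStmt.{u} := fun ff G _ _ β τ w r md hN H _ f qu => by
  have hw : ∀ n, Commute n w := fun n => (hN n).1
  have e1 : τ * r = r * w * τ := mul_inv_eq_iff_eq_mul.1 md.τr
  have e2 : r * (τ * w) * r⁻¹ = τ := by
    rw [mul_inv_eq_iff_eq_mul, e1, (hw τ).eq, mul_assoc]
  have e3 : r * (τ * r) * r⁻¹ = τ * (r * w) := by
    rw [← mul_assoc, mul_inv_cancel_right, ← mul_assoc, e1, mul_assoc _ τ, (hw τ).eq,
      ← mul_assoc, mul_assoc r, md.w2, mul_one]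
  have ker : ∀ σ, f (β σ) = 1 → σ = 1 := fun σ h => by
    rcases ff.c8 2 3 (by decide) σ.1 fun ρ hρ =>
      congrArg Subtype.val (md.inj (by simpa using (qu.cA _ h ⟨ρ, hρ⟩).eq) : σ * ⟨ρ, hρ⟩ = ⟨ρ, hρ⟩ * σ)
      with e | e
    · exact Subtype.ext e
    · have := (H78.mem_altOn.1 σ.2).2
      rw [e] at this
      exact absurd this (by decide)
  have lift : ∀ n, Commute n (f τ) → ∃ m, f m = n ∧ Commute m τ := fun n hn => by
    obtain ⟨m, rfl⟩ := qu.surj n
    obtain ⟨o, ho, x, hx, e⟩ := qu.lift τ (m * τ * m⁻¹) md.τ2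
      (by rw [conj_mul, md.τ2, mul_one, mul_inv_cancel])
      (by rw [map_mul, map_mul, hn.eq, map_inv, mul_inv_cancel_right])
    have e' : (o * m) * τ * (o * m)⁻¹ = τ * x := by rw [← e]; group
    rcases hx with rfl | rfl | rfl | rfl
    · exact ⟨o * m, by rw [map_mul, ho, one_mul], mul_inv_eq_iff_eq_mul.1 (by rwa [mul_one] at e')⟩
    · refine ⟨r * (o * m), by rw [map_mul, map_mul, ho, qu.kr, one_mul, one_mul],
        mul_inv_eq_iff_eq_mul.1 ?_⟩
      rw [← e'] at e2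
      rw [← e2.symm.symm]
      nth_rewrite 1 [e2]
      group
    · exact absurd (isConj_iff.2 ⟨_, e'⟩) md.nc
    · exact absurd ((isConj_iff.2 ⟨_, e'⟩).trans (isConj_iff.2 ⟨_, e3⟩).symm) md.nc
  refine ⟨⟨(injective_iff_map_eq_one _).2 ker, by rw [← map_mul, md.τ2, map_one], fun e => ?_,
    fun σ => (md.cτ σ).map f, fun n hn => ?_, fun n hn hA h2 => ?_⟩, fun hc => ?_⟩
  · refine md.w1 (mul_eq_left.1 (md.τr.symm.trans ?_))
    rw [(qu.cr τ e).eq, mul_inv_cancel_right]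
  · obtain ⟨m, rfl, hm⟩ := lift n hn
    rw [MonoidHom.range_comp]
    exact le_normalizer_map f ⟨m, md.cN m hm (hw m), rfl⟩
  · obtain ⟨m, rfl, hm⟩ := lift n hn
    obtain ⟨k, k1, k2⟩ := two_part f h2
    have hk := hm.pow_left k
    have k3 := md.two _ hk (hw _) (fun σ => by
      obtain ⟨ρ, hρ⟩ := (mem_normalizer_iff.1 (md.cN _ hk (hw _)) _).1 ⟨σ, rfl⟩
      have : ρ * σ⁻¹ = 1 := ker _ (by
        have := (hA σ).eq
        rw [MonoidHom.comp_apply] at this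
        rw [map_mul, hρ, map_inv, map_mul, map_mul, map_mul, map_inv, map_inv, k2, this]
        group)
      rw [mul_inv_eq_one.1 this] at hρ
      exact mul_inv_eq_iff_eq_mul.1 hρ.symm) k1
    rw [← k2]
    rcases k3 with e | e | e | e <;> simp [e, qu.kw]
  · obtain ⟨c, hc⟩ := isConj_iff.1 hc
    obtain ⟨m, rfl⟩ := qu.surj c
    have e4 : w2' * w2' = 1 := Subtype.ext (by decide)
    obtain ⟨o, -, x, hx, e⟩ := qu.lift (τ * β w2') (m * τ * m⁻¹)
      (by rw [(md.cτ _).symm.mul_mul_mul_comm, md.τ2, ← map_mul, e4, map_one, one_mul])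
      (by rw [conj_mul, md.τ2, mul_one, mul_inv_cancel])
      (by rw [map_mul, ← hc, map_mul, map_mul, map_inv])
    exact ⟨x, hx, isConj_iff.2 ⟨o * m, by rw [← e]; group⟩⟩

end Cfsg.Agent.H72.HtStd
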