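import Cfsg.Agent.H46.J2Defs

/-! A standard subgroup of type `J₂`: the weak closure of `E` in `C(e)`. -/

set_option autoImplicit false
open scoped Pointwise
open Subgroup

namespace Cfsg.Agent.H72.S94Wc
open Cfsg.Agent.H8 Cfsg.Agent.H46.S94

universe u

local notation "C[" A "]" => Subgroup.centralizer (SetLike.coe A)
local notation "N[" A "]" => Subgroup.normalizer (SetLike.coe A)

variable {G : Type u} [Group G] [Finite G]

theorem sylN {S L : Subgroup G} (hS : IsSylowIn 2 S L) {ε : G} (hε : ε ∈ N[L]) (h : ε * ε = 1) :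
    ∃ y ∈ L, y * ε * y⁻¹ ∈ N[S] := by
  obtain ⟨T, hT, h1⟩ := exists_isSylowIn_ge (p := 2) (Q := zpowers ε) (H := N[L])
    (IsPGroup.of_card_dvd_pow (n := 1) (by
      rw [Nat.card_zpowers]; exact orderOf_dvd_of_pow_eq_one (by rw [pow_one, sq, h])))
    (zpowers_le.2 hε)
  have h2 := hT.inf_of_le_normalizer (N := L) le_rfl
  rw [inf_eq_right.2 le_normalizer] at h2
  obtain ⟨y, hy, e⟩ := h2.exists_conj_eq hS
  refine ⟨y, hy, ?_⟩
  rw [← e, normalizer_conj_smul, conj_mem_conj_smul]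
  exact inf_normalizer_le_normalizer_inf ⟨le_normalizer (h1 (mem_zpowers ε)), hε⟩

theorem four {E : Subgroup G} (h4 : Nat.card E = 4) (h2 : ∀ x ∈ E, x * x = 1) {e : G} (he : e ∈ E)
    (e1 : e ≠ 1) : ∃ e' ∈ E, E = zpowers e ⊔ zpowers e' := by
  have o : Nat.card (zpowers e) = 2 := by
    rw [Nat.card_zpowers]; exact orderOf_eq_prime ((sq _).trans (h2 e he)) e1
  obtain ⟨e', he', n⟩ : ∃ e' ∈ E, e' ∉ zpowers e := by
    by_contra! h
    have := card_le_of_le (show E ≤ zpowers e from h)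
    omega
  have hle : zpowers e ⊔ zpowers e' ≤ E := sup_le (zpowers_le.2 he) (zpowers_le.2 he')
  refine ⟨e', he', (eq_of_le_of_card_ge hle ?_).symm⟩
  obtain ⟨m, hm⟩ := card_dvd_of_le (le_sup_left : zpowers e ≤ zpowers e ⊔ zpowers e')
  have h1 : m ≠ 1 := fun h => n ((eq_of_le_of_card_ge
    (le_sup_left : zpowers e ≤ zpowers e ⊔ zpowers e') (by rw [hm, h, mul_one])).ge
      (mem_sup_right (mem_zpowers e')))
  have := Nat.card_pos (α := (zpowers e ⊔ zpowers e' : Subgroup G))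
  rw [o] at hm
  omega

theorem cyc4 {a x : G} (o : orderOf a = 4) (hx : x ∈ zpowers a) :
    x = 1 ∨ x = a * a ∨ x * x = a * a := by
  classical
  have h : a ^ 4 = 1 := o ▸ pow_orderOf_eq_one a
  obtain ⟨k, hk, rfl⟩ := Finset.mem_image.1 (mem_zpowers_iff_mem_range_orderOf.1 hx)
  rw [o, Finset.mem_range] at hk
  interval_cases k
  · exact .inl (pow_zero a)
  · exact .inr (.inr (by rw [pow_one]))
  · exact .inr (.inl (sq a))
  · exact .inr (.inr (by rw [← pow_add, show 3 + 3 = 4 + 2 from rfl, pow_add, h, one_mul, sq]))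

theorem coh {D : Subgroup G} (ab : Ab D) (h16 : Nat.card D = 16) {ε a d : G} (εε : ε * ε = 1)
    (hε : ∀ x ∈ D, ε * x * ε⁻¹ ∈ D) (ha : a ∈ D) (a4 : a * a * (a * a) = 1)
    (ne : ε * (a * a) ≠ a * a * ε) (hd : d ∈ D) (e : ε * d * ε⁻¹ * d = 1) :
    ∃ u ∈ D, d = u * (ε * u * ε⁻¹)⁻¹ := by
  have o : orderOf a = 4 := orderOf_eq_prime_pow (p := 2) (n := 1)
    (fun h => ne (by rw [← sq a, show a ^ 2 = 1 from h, mul_one, one_mul]))
    (by rw [← a4]; simp [pow_succ, mul_assoc])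
  set b := ε * a * ε⁻¹ with hb
  have o' : orderOf b = 4 := ((MulAut.conj ε).orderOf_eq a).trans o
  have bb : b * b = ε * (a * a) * ε⁻¹ := by rw [hb]; group
  have n : a * a ≠ b * b := fun h => ne (mul_inv_eq_iff_eq_mul.1 (bb.symm.trans h.symm))
  have a1 : a * a ≠ 1 := fun h => ne (by rw [h, mul_one, one_mul])
  have b1 : b * b ≠ 1 := fun h => a1 (by simpa using bb.symm.trans h)
  have b4 : b * b * (b * b) = 1 := by
    rw [bb]
    calc _ = ε * (a * a * (a * a)) * ε⁻¹ := by group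
      _ = 1 := by rw [a4]; group
  have dj : ∀ x ∈ zpowers a, x ∈ zpowers b → x = 1 := fun x h1 h2 => by
    rcases cyc4 o h1 with c | c | c <;> rcases cyc4 o' h2 with c' | c' | c'
    any_goals assumption
    · exact (n (c.symm.trans c')).elim
    · exact (b1 (by rw [← c', c, a4])).elim
    · exact (a1 (by rw [← c, c', b4])).elim
    · exact (n (c.symm.trans c')).elim
  have hA := zpowers_le.2 ha
  have hB := zpowers_le.2 (hε a ha)
  let f : zpowers a × zpowers b → D := fun p => ⟨p.1 * p.2, mul_mem (hA p.1.2) (hB p.2.2)⟩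
  have fi : Function.Injective f := fun p q h => by
    have h1 : (p.1 : G) * p.2 = q.1 * q.2 := congrArg Subtype.val h
    have h2 : (q.1 : G)⁻¹ * p.1 = q.2 * (p.2 : G)⁻¹ := by
      rw [inv_mul_eq_iff_eq_mul, ← mul_assoc, ← h1, mul_inv_cancel_right]
    have h3 := dj _ (mul_mem (inv_mem q.1.2) p.1.2) (h2 ▸ mul_mem q.2.2 (inv_mem p.2.2))
    exact Prod.ext (Subtype.ext (inv_mul_eq_one.1 h3).symm)
      (Subtype.ext (mul_inv_eq_one.1 (h2 ▸ h3)).symm)
  obtain ⟨⟨⟨u, hu⟩, _, j, rfl⟩, h⟩ := (fi.bijective_of_nat_card_le (by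
    rw [Nat.card_prod, Nat.card_zpowers, Nat.card_zpowers, o, o', h16])).2 ⟨d, hd⟩
  obtain rfl : u * b ^ j = d := congrArg Subtype.val h
  have cz : ∀ x ∈ zpowers a, ε * x * ε⁻¹ ∈ zpowers b := by
    rintro _ ⟨i, rfl⟩
    exact ⟨i, by simp [hb]⟩
  have hv : a ^ j ∈ zpowers a := ⟨j, rfl⟩
  have ej : b ^ j = ε * a ^ j * ε⁻¹ := by simp [hb]
  rw [ej] at e ⊢
  generalize a ^ j = v at *
  have iε : ε⁻¹ = ε := inv_eq_of_mul_eq_one_right εε
  have h1 : v * u = (ε * (v * u) * ε⁻¹)⁻¹ := by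
    refine eq_inv_of_mul_eq_one_left ?_
    have h2 : ε * (u * (ε * v * ε⁻¹)) * ε⁻¹ = ε * u * ε⁻¹ * v := by
      calc _ = ε * u * ε * v * (ε * ε)⁻¹ := by group
        _ = _ := by rw [εε, iε]; group
    rw [h2] at e
    calc v * u * (ε * (v * u) * ε⁻¹) = v * u * (ε * v * ε⁻¹) * (ε * u * ε⁻¹) := by group
      _ = ε * u * ε⁻¹ * (v * u * (ε * v * ε⁻¹)) := ab _ (mul_mem (mul_mem (hA hv) (hA hu))
          (hε _ (hA hv))) _ (hε _ (hA hu))
      _ = 1 := by rw [← e]; group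
  have h3 := dj _ (mul_mem hv hu) (h1 ▸ inv_mem (cz _ (mul_mem hv hu)))
  exact ⟨u, hA hu, by rw [eq_inv_of_mul_eq_one_left h3]; group⟩

/-- **WC** -/
theorem wc : WCStmt.{u} := by
  intro Γ _ G _ _ φ t O D P M f z y σ τ E Λ ja cx ft ds pj ys e he e1 c ce hc
  have E2 : ∀ x ∈ E.map φ, x * x = 1 := by
    rintro _ ⟨x, hx, rfl⟩
    rw [← map_mul, ja.wf.el x (mem_sup_left hx), map_one]
  obtain ⟨e', he', hE⟩ := four ((card_map_of_injective cx.inj).trans ja.jf.cE4) E2 he e1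
  have mC : ∀ g, g * e = e * g → g * e' = e' * g → g ∈ C[E.map φ] := fun g h1 h2 => by
    have : E.map φ ≤ centralizer {g} := hE ▸ sup_le
      (zpowers_le.2 (mem_centralizer_singleton_iff.2 h1.symm))
      (zpowers_le.2 (mem_centralizer_singleton_iff.2 h2.symm))
    exact fun x hx => mem_centralizer_singleton_iff.1 (this hx)
  have CN : C[E.map φ] ≤ N[E.map φ] := centralizer_le_normalizer _
  have rg : ∀ x ∈ E.map φ ⊔ (Z2 z y).map φ, x ∈ φ.range := fun x hx =>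
    (sup_le (map_le_range φ _) (map_le_range φ _)) hx
  have tA : ∀ x ∈ φ.range, Commute t x := by
    rintro _ ⟨a, rfl⟩
    exact (cx.AC a).symm
  have te := tA e (map_le_range φ E he)
  have cm : ∀ {g c : G}, g ∈ C[E.map φ] → c * e = e * c → g * c * e = e * (g * c) :=
    fun {g c} hg h => by rw [mul_assoc, h, ← mul_assoc, ← hg e he, mul_assoc]
  obtain ⟨e0, he0, ee0⟩ := id he
  have e01 : e0 ≠ 1 := fun h => e1 (by rw [← ee0, h, map_one])
  have fx : ∀ {g : G} {α : MulAut Γ}, (∀ a, φ (α a) = g * φ a * g⁻¹) → ∀ {a}, g * φ a = φ a * g →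
      α a = a := fun hα a h => cx.inj (by rw [hα, h, mul_inv_cancel_right])
  have K : ∀ g ∈ C[E.map φ], ∀ c, c * e = e * c → Commute t (g * (c * e' * c⁻¹) * g⁻¹) →
      c ∈ N[E.map φ] := by
    suffices ∀ c, c * e = e * c → Commute t (c * e' * c⁻¹) → c ∈ N[E.map φ] from
      fun g hg c ce h => (mul_mem_cancel_left (CN hg)).1 (this _ (cm hg ce) (by
        convert h using 1; group))
    intro c ce h
    have h1 : c⁻¹ * t * c ∈ C[E.map φ] := mC _
      ((((show Commute c e from ce).inv_left.mul_left te).mul_left ce).eq) (by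
        calc _ = c⁻¹ * (t * (c * e' * c⁻¹)) * c := by group
          _ = _ := by rw [h.eq]; group)
    obtain ⟨g, hg, h2⟩ := ys.inv _ h1 (by
      calc _ = c⁻¹ * (t * t) * c := by group
        _ = 1 := by rw [cx.tt]; group)
    have i : IsConj t (g * (c⁻¹ * t * c) * g⁻¹) := isConj_iff.2 ⟨g * c⁻¹, by group⟩
    rcases h2 with h2 | ⟨_, ⟨e2, he2, rfl⟩, h2⟩
    · obtain ⟨a, ha⟩ := rg _ h2
      exact (ft.nc a (ha ▸ i)).elim
    obtain rfl : e2 = 1 := by
      by_contra h3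
      exact ft.te e2 he2 h3 (h2 ▸ i)
    obtain ⟨α, hα⟩ := cx.aut (c := g * c⁻¹) (by
      rw [map_one, mul_one] at h2
      calc _ = g * (c⁻¹ * t * c) * g⁻¹ * (g * c⁻¹) := by group
        _ = _ := by rw [h2])
    have h3 := ja.jf.ce α e0 he0 e01
      (fx hα (ee0 ▸ cm hg (show Commute c e from ce).inv_left.eq))
    have h4 : g * c⁻¹ ∈ N[E.map φ] := mem_normalizer_of_conj_smul_le (by
      rintro _ ⟨_, ⟨x, hx, rfl⟩, rfl⟩
      exact ⟨α x, h3 x hx, hα x⟩)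
    exact inv_mem_iff.1 ((mul_mem_cancel_left (CN hg)).1 h4)
  have sqc : ∀ c : G, c * e' * c⁻¹ * (c * e' * c⁻¹) = 1 := fun c => by
    calc _ = c * (e' * e') * c⁻¹ := by group
      _ = 1 := by rw [E2 e' he']; group
  have K1 : ∀ c, c * e = e * c → c * e' * c⁻¹ ∈ C[E.map φ] → c ∈ N[E.map φ] := fun c ce h => by
    obtain ⟨g, hg, h2 | ⟨x, hx, h2⟩⟩ := ys.inv _ h (sqc c)
    · exact K g hg c ce (tA _ (rg _ h2))
    · exact K g hg c ce (h2 ▸ (Commute.refl t).mul_right (tA x (map_le_range φ E hx)))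
  have hn : c * e' * c⁻¹ ∈ N[E.map φ] := hc (conj_mem_conj_smul.2 he')
  obtain ⟨g, hg, hS⟩ := sylN ys.syl (H4.normalizer_le_normalizer_centralizer _ hn) (sqc c)
  refine (mul_mem_cancel_left (CN hg)).1 ?_
  have ce' := cm hg ce
  have hn' := mul_mem (mul_mem (CN hg) hn) (inv_mem (CN hg))
  rw [show g * (c * e' * c⁻¹) * g⁻¹ = g * c * e' * (g * c)⁻¹ by group] at hS hn'
  generalize g * c = c at ce' hn' hS ⊢
  have εε := sqc c
  have εe : Commute (c * e' * c⁻¹) e := by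
    have h1 : Commute c e := ce'
    exact (h1.mul_left (mC e' (by
      have inv : ∀ x ∈ E.map φ, x⁻¹ = x := fun x hx => inv_eq_of_mul_eq_one_right (E2 x hx)
      rw [← inv _ (mul_mem he' he), mul_inv_rev, inv _ he, inv _ he']) rfl e he).symm).mul_left
      h1.inv_left
  have K0 := fun g hg => K g hg c ce'
  have K2 := K1 c ce'
  generalize c * e' * c⁻¹ = ε at *
  have mS : ∀ d ∈ D, ∃ d' ∈ D, ε * (d * t) * ε⁻¹ = d' * t := fun d hd => by
    obtain ⟨p, -, hp⟩ := ys.tD d hd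
    exact ys.tS _ ((mem_normalizer_iff.1 hS _).1 (mul_mem (mem_sup_left (mem_sup_left (pj.DP hd)))
      (mem_sup_right (mem_zpowers t)))) (isConj_iff.2 ⟨ε * p, by rw [← hp]; group⟩)
  obtain ⟨d0, hd0, e0'⟩ := mS 1 (one_mem _)
  rw [one_mul] at e0'
  have εD : ∀ d ∈ D, ε * d * ε⁻¹ ∈ D := fun d hd => by
    obtain ⟨d', hd', h⟩ := mS d hd
    have : ε * d * ε⁻¹ = d' * d0⁻¹ := by
      calc _ = ε * (d * t) * ε⁻¹ * (ε * t * ε⁻¹)⁻¹ := by group
        _ = _ := by rw [h, e0']; group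
    exact this ▸ mul_mem hd' (inv_mem hd0)
  by_cases hZ : ∀ a ∈ (Z2 z y).map φ, ε * a = a * ε
  · obtain ⟨p, hp, h⟩ := ys.tD d0 hd0
    obtain ⟨α, hα⟩ := cx.aut (c := p⁻¹ * ε) (by
      calc _ = p⁻¹ * (ε * t * ε⁻¹) * ε := by group
        _ = _ := by rw [e0', ← h]; group)
    have fz : ∀ a ∈ Z2 z y, α a = a := fun a ha => fx hα
      ((show Commute p (φ a) from pj.sp.ZC (mem_map_of_mem φ ha) p hp).inv_left.mul_left
        (hZ _ (mem_map_of_mem φ ha))).eq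
    have h3 := ja.jf.ceZ α e0 he0 e01 (fx hα (ee0 ▸ cm (inv_mem (pj.cE hp)) εe.eq))
      (fz z (subset_closure (by simp))) (fz y (subset_closure (by simp)))
    refine K2 ((mul_mem_cancel_left (inv_mem (pj.cE hp))).1 ?_)
    rintro _ ⟨x, hx, rfl⟩
    exact (mul_inv_eq_iff_eq_mul.1 ((hα x).symm.trans (congrArg φ (h3 x hx)))).symm
  push Not at hZ
  obtain ⟨a2, ha2, ne⟩ := hZ
  obtain ⟨a, ha, rfl⟩ := ds.sq a2 ha2
  obtain ⟨u, hu, h⟩ := coh ds.d4.ab ds.d4.card εε εD ha (by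
    obtain ⟨x, hx, h⟩ := ha2
    rw [← h, ← map_mul, ja.wf.el x (mem_sup_right hx), map_one]) ne hd0 (by
      refine mul_right_cancel (b := t) ?_
      calc _ = ε * (d0 * t) * ε⁻¹ * (ε * t * ε⁻¹)⁻¹ * (d0 * t) := by group
        _ = ε * ε * t * (ε * ε)⁻¹ := by rw [← e0']; group
        _ = _ := by rw [εε]; group)
  obtain ⟨p, hp, h1⟩ := ys.tD u hu
  refine K0 p⁻¹ (inv_mem (pj.cE hp)) ?_
  have h2 : ε * (u * t) * ε⁻¹ = u * t := by
    calc _ = ε * u * ε⁻¹ * (ε * t * ε⁻¹) := by group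
      _ = ε * u * ε⁻¹ * u * (ε * u * ε⁻¹)⁻¹ * t := by rw [e0', h]; group
      _ = _ := by rw [ds.d4.ab _ (εD u hu) u hu]; group
  change t * _ = _ * t
  calc _ = p⁻¹ * (p * t * p⁻¹) * ε * p := by group
    _ = p⁻¹ * ε * (p * t * p⁻¹) * p := by
      rw [h1, mul_assoc p⁻¹, ← mul_inv_eq_iff_eq_mul.1 h2, ← mul_assoc p⁻¹]
    _ = _ := by group

end Cfsg.Agent.H72.S94Wc
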