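import Cfsg.Agent.H50.DerDefs

/-! A covering subgroup has a covering point stabiliser. -/

set_option autoImplicit false

namespace Cfsg.Agent.H72.DerFo

open MulAction Finset Cfsg.Agent.H50.Der

universe u v

open Classical in
theorem sum_stab {G Ω : Type*} [Group G] [Fintype G] [MulAction G Ω] [Fintype Ω] (H : Subgroup G)
    (a : Ω) : ∑ b ∈ {b | ∃ h ∈ H, h • a = b}, #{x : G | x ∈ H ∧ x • b = b} = #{x : G | x ∈ H} := by
  rw [card_eq_sum_card_fiberwise (f := fun x : G => x • a) (s := {x : G | x ∈ H})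
    (t := {b | ∃ h ∈ H, h • a = b}) (fun x hx => by simpa using ⟨x, by simpa using hx, rfl⟩)]
  refine sum_congr rfl fun b hb => ?_
  obtain ⟨h, hh, rfl⟩ := (mem_filter.1 hb).2
  refine card_nbij' (· * h) (· * h⁻¹) (fun x hx => ?_) (fun x hx => ?_) (fun x _ => by simp)
    fun x _ => by simp
  · simp only [coe_filter, mem_filter, mem_univ, true_and, Set.mem_setOf_eq] at hx ⊢
    exact ⟨H.mul_mem hx.1 hh, by rw [mul_smul, hx.2]⟩
  · simp only [coe_filter, mem_filter, mem_univ, true_and, Set.mem_setOf_eq] at hx ⊢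
    exact ⟨H.mul_mem hx.1 (H.inv_mem hh), by rw [mul_smul, inv_smul_smul, hx.2]⟩

theorem fo : FOStmt.{u, v} := by
  intro G Ω _ _ _ _ D U c h2 hU
  classical
  have := Fintype.ofFinite G
  have := Fintype.ofFinite Ω
  let X : Ω → Finset G := fun b => {x | x ∈ U ∧ x ∉ D ∧ x • b = b}
  let T : Ω → Finset G := fun b => {x | x ∈ U ⊓ D ∧ x • b = b}
  let O : Ω → Finset Ω := fun a => {b | ∃ h ∈ U, h • a = b}
  have mX : ∀ b x, x ∈ X b ↔ x ∈ U ∧ x ∉ D ∧ x • b = b := fun b x => by simp [X]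
  have mT : ∀ b x, x ∈ T b ↔ (x ∈ U ∧ x ∈ D) ∧ x • b = b := fun b x => by simp [T]
  have mO : ∀ a b, b ∈ O a ↔ ∃ h ∈ U, h • a = b := fun a b => by simp [O]
  have h1 : ∀ a, ∑ b ∈ O a, #(X b) + ∑ b ∈ O a, #(T b) = #{x : G | x ∈ U} := fun a => by
    rw [← sum_add_distrib, ← sum_stab U a]
    refine sum_congr (by congr) fun b _ => ?_
    rw [← card_union_of_disjoint (disjoint_left.2 fun x h h' => ((mX b x).1 h).2.1 ((mT b x).1 h').1.2)]
    congr 1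
    ext x
    rw [mem_union, mX, mT, mem_filter]
    by_cases hx : x ∈ D <;> simp [hx]
  have h3 : ∑ b, #(X b) + #{x : G | x ∈ U ⊓ D} = #{x : G | x ∈ U} := by
    rw [← card_biUnion (fun a _ b _ hab => disjoint_left.2 fun x h h' => hab
      (c.uq x ((mX a x).1 h).2.1 a b ((mX a x).1 h).2.2 ((mX b x).1 h').2.2)),
      ← card_union_of_disjoint (disjoint_left.2 fun x h h' => by
        obtain ⟨b, -, hb⟩ := mem_biUnion.1 h
        exact ((mX b x).1 hb).2.1 (mem_filter.1 h').2.2)]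
    congr 1
    ext x
    simp only [mem_union, mem_biUnion, mX, mem_filter, mem_univ, true_and, Subgroup.mem_inf]
    refine ⟨fun h => h.elim (fun ⟨_, h⟩ => h.1) And.left, fun h => ?_⟩
    by_cases hx : x ∈ D
    · exact Or.inr ⟨h, hx⟩
    · exact Or.inl ((c.ex x hx).imp fun a ha => ⟨h, hx, ha⟩)
  have h4 : ∀ a, (X a).Nonempty → ∑ b ∈ O a, #(T b) ≤ ∑ b ∈ O a, #(X b) := fun a ⟨x, hx⟩ => by
    refine sum_le_sum fun b hb => ?_
    obtain ⟨h, hh, rfl⟩ := (mO a b).1 hb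
    obtain ⟨x1, x2, x3⟩ := (mX a x).1 hx
    refine card_le_card_of_injOn (h * x * h⁻¹ * ·) (fun w hw => ?_)
      fun _ _ _ _ e => mul_left_cancel e
    obtain ⟨⟨w1, w2⟩, w3⟩ := (mT _ w).1 hw
    refine (mX _ _).2 ⟨U.mul_mem (U.mul_mem (U.mul_mem hh x1) (U.inv_mem hh)) w1, fun h5 => x2 ?_,
      by rw [mul_smul, w3, mul_smul, inv_smul_smul, mul_smul, x3]⟩
    simpa [mul_assoc] using c.nrm.conj_mem _ ((D.mul_mem_cancel_right w2).1 h5) h⁻¹
  have h5 : 0 < #{x : G | x ∈ U ⊓ D} := card_pos.2 ⟨1, mem_filter.2 ⟨mem_univ _, one_mem _⟩⟩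
  obtain ⟨x, x1, x2⟩ : ∃ x ∈ U, x ∉ D := by
    by_contra hn
    push Not at hn
    have : D = ⊤ := eq_top_iff.2 fun g _ => by
      obtain ⟨u, hu, e⟩ := hU g
      simpa using D.mul_mem (hn u hu) e
    rw [this, Subgroup.index_top] at h2
    omega
  obtain ⟨ω, hω⟩ := c.ex x x2
  have h6 := h4 ω ⟨x, (mX _ _).2 ⟨x1, x2, hω⟩⟩
  have h7 : ∑ b ∈ O ω, #(X b) = ∑ b, #(X b) := by
    refine sum_subset (subset_univ _) fun a _ ha => ?_
    by_contra hn
    have h8 := h4 a (card_ne_zero.1 hn)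
    have h9 : Disjoint (O ω) (O a) := disjoint_left.2 fun b k k' => by
      obtain ⟨h, hh, rfl⟩ := (mO _ _).1 k
      obtain ⟨h', hh', e⟩ := (mO _ _).1 k'
      exact ha ((mO _ _).2 ⟨h'⁻¹ * h, U.mul_mem (U.inv_mem hh') hh, by
        rw [mul_smul, ← e, inv_smul_smul]⟩)
    have h10 := sum_le_sum_of_subset (f := fun b => #(X b)) (subset_univ (O ω ∪ O a))
    rw [sum_union h9] at h10
    have := h1 ω
    have := h1 a
    omega
  have h8 : ∀ b ∈ O ω, ∃ h ∈ U ⊓ D, h • ω = b := fun b hb => by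
    by_contra hn
    have h9 := sum_lt_sum_of_subset (f := fun b => #(T b))
      (s := {b | ∃ h ∈ U ⊓ D, h • ω = b}) (t := O ω)
      (fun a ha => let ⟨h, hh, e⟩ := (mem_filter.1 ha).2; (mO _ _).2 ⟨h, hh.1, e⟩) hb
      (fun h => hn (mem_filter.1 h).2)
      (card_pos.2 ⟨1, (mT _ _).2 ⟨⟨one_mem _, one_mem _⟩, one_smul _ _⟩⟩) fun _ _ _ => Nat.zero_le _
    have h10 : ∑ b ∈ {b | ∃ h ∈ U ⊓ D, h • ω = b}, #(T b) = #{x : G | x ∈ U ⊓ D} := by
      convert sum_stab (U ⊓ D) ω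
    have := h1 ω
    omega
  refine ⟨ω, fun g => ?_⟩
  obtain ⟨u, hu, e⟩ := hU g
  obtain ⟨w, hw, e'⟩ := h8 _ ((mO _ _).2 ⟨u, hu, rfl⟩)
  refine ⟨w⁻¹ * u, ⟨U.mul_mem (U.inv_mem hw.1) hu, ?_⟩, ?_⟩
  · exact mem_stabilizer_iff.2 (by rw [mul_smul, ← e', inv_smul_smul])
  · simpa [mul_assoc] using D.mul_mem (c.nrm.conj_mem _ hw.2 u⁻¹) e

end Cfsg.Agent.H72.DerFo
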