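import Cfsg.Agent.H53.FMDefs
import Cfsg.Agent.H3.Frattini
import Cfsg.Agent.H3.Fitting
import Cfsg.Agent.H51.Thompson
import Cfsg.Agent.H83.CharP
import Cfsg.Agent.H10.SylowUtil

/-! The invariant Sylow `2`-subgroup of the minimal counterexample (project FPM). -/

set_option autoImplicit false

namespace Cfsg.Agent.H72.FMS

open Subgroup Cfsg Cfsg.Agent.H83 Cfsg.Agent.H53.OpK Cfsg.Agent.H53.FM
open scoped commutatorElement

universe u

variable {Γ : Type u} [Group Γ] [Finite Γ] {G A : Subgroup Γ}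

theorem exists_central {K : Subgroup Γ} (hK : Group.IsNilpotent K) {r : ℕ} (hr : r.Prime)
    (h : r ∣ Nat.card K) : ∃ y ∈ K, y ∈ centralizer (K : Set Γ) ∧ orderOf y = r := by
  obtain ⟨y, hy, e⟩ := H67.exists_orderOf_eq_prime hr (H67.dvd_card_of_isPGroup hr
    ((H67.isPGroup_pCoreOf hr K).to_le inf_le_left) (H3.inf_centralizer_ne_bot_of_isNilpotent hK
      (H67.piCoreOf_le {r} K) (H67.le_normalizer_piCoreOf_self _ K) (H67.ne_bot_of_dvd_card hr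
        (H67.prime_dvd_card_hall (H67.hall_piCoreOf_of_isNilpotent _ hK) hr rfl h))))
  exact ⟨y, H67.piCoreOf_le _ K hy.1, hy.2, e⟩

/-- a minimal supplement is nilpotent -/
theorem exists_supp (hA : Group.IsNilpotent A) (hn : A ≤ normalizer (G : Set Γ)) {D : Subgroup Γ}
    (hD : D ≤ G ⊔ A) (h : A ≤ G ⊔ D) : ∃ K ≤ D, A ≤ G ⊔ K ∧ Group.IsNilpotent K := by
  obtain ⟨K, hK, h1, hm⟩ := exists_minimal_le_of_wellFoundedLT (fun K => A ≤ G ⊔ K) D h
  refine ⟨K, hK, h1, ?_⟩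
  have hE : G ⊔ A ≤ normalizer (G : Set Γ) := sup_le le_normalizer hn
  haveI : (G.subgroupOf (G ⊔ A)).Normal := (normal_subgroupOf_iff_le_normalizer le_sup_left).2 hE
  let π := QuotientGroup.mk' (G.subgroupOf (G ⊔ A))
  haveI : Group.IsNilpotent (↥(G ⊔ A) ⧸ G.subgroupOf (G ⊔ A)) :=
    nilpotent_of_surjective (π.comp (inclusion le_sup_right)) fun q => by
      obtain ⟨⟨x, hx⟩, rfl⟩ := QuotientGroup.mk_surjective q
      obtain ⟨a, ha, g, hg, rfl⟩ := (mem_sup_left_norm' hn).1 hx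
      exact ⟨⟨a, ha⟩, QuotientGroup.eq.2 (by simpa [mem_subgroupOf] using hg)⟩
  let f := π.comp (inclusion (hK.trans hD))
  refine H3.isNilpotent_of_quotient_frattini (B := f.ker) (le_iInf₂ fun M hM => ?_)
    (nilpotent_of_mulEquiv (QuotientGroup.quotientKerEquivRange f).symm)
  by_contra hn'
  have h2 := hM.2 _ (left_lt_sup.2 hn')
  refine hM.1 (eq_top_iff.2 fun k _ => ?_)
  obtain ⟨m, h3, e⟩ := hm (y := M.map K.subtype) (h1.trans (sup_le le_sup_left fun x hx => by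
    obtain ⟨m, hm, n, hn, e⟩ := mem_sup_of_normal_right.1 (h2.ge (mem_top ⟨x, hx⟩))
    rw [show x = m * n from (congrArg Subtype.val e).symm]
    exact mul_mem (mem_sup_right (mem_map_of_mem K.subtype hm))
      (mem_sup_left ((QuotientGroup.eq_one_iff (N := G.subgroupOf (G ⊔ A))
        (inclusion (hK.trans hD) n)).1 hn)))) (map_subtype_le M) k.2
  exact Subtype.ext e ▸ h3

omit [Finite Γ] in
theorem mul_pow_mem {a b : Γ} (ha : a ∈ A) (hb : b ∈ normalizer (A : Set Γ))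
    (m : ℕ) : (a * b) ^ m * (b ^ m)⁻¹ ∈ A := by
  induction m with
  | zero => simp
  | succ m ih =>
    rw [show (a * b) ^ (m + 1) * (b ^ (m + 1))⁻¹ = a * (b * ((a * b) ^ m * (b ^ m)⁻¹) * b⁻¹) by
      rw [pow_succ', pow_succ']; group]
    exact A.mul_mem ha ((mem_normalizer_iff.1 hb _).1 ih)

variable (h : EnvM G A)
include h

theorem op : Op A G := NOp.op ⟨h.AG, ⟨bot_le, le_norm_of_le_cent (le_centralizer_iff.1 bot_le)⟩, by simp,
  (H63.isNilpotent_iff_lcnOf.1 h.nil).imp fun _ e => e.le, h.fpf⟩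

omit [Finite Γ] in
theorem cases {U : Subgroup Γ} (hU : G ≤ normalizer (U : Set Γ)) : G ⊓ U = ⊥ ∨ G ≤ U := by
  haveI := h.simple
  rcases ((normal_subgroupOf_iff_le_normalizer_inf).2 (le_norm_inf hU le_normalizer) :
    (U.subgroupOf G).Normal).eq_bot_or_eq_top with e | e
  · exact Or.inl (by rw [inf_comm, ← subgroupOf_map_subtype, e, Subgroup.map_bot])
  · exact Or.inr (subgroupOf_eq_top.1 e)

theorem norm_lt {r : ℕ} (hr : r.Prime) {U : Subgroup Γ} (hU : U ≤ G ⊔ A) (hp : IsPGroup r U)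
    (h0 : U ≠ ⊥) : G ⊓ normalizer (U : Set Γ) < G := by
  refine inf_lt_left.2 fun hn => h0 (eq_bot_iff.2 fun x hx => ?_)
  have h1 := (cases h hn).resolve_right fun e => h.nsol (H67.isSolvable_of_isPGroup hr (hp.to_le e))
  have h2 : U ≤ centralizer (G : Set Γ) := comm_eq_bot_iff.1 (eq_bot_iff.2 (h1 ▸ le_inf
    (comm_le_left (hU.trans (sup_le le_normalizer h.AG))) (comm_le_right hn)))
  have h3 := (cases h (le_norm_cent le_normalizer)).resolve_right fun e =>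
    h.nsol (H67.isSolvable_of_isMulCommutative (le_centralizer_iff_isMulCommutative.1 e))
  obtain ⟨g, hg, a, ha, rfl⟩ := (mem_sup_left_norm h.AG).1 (hU hx)
  obtain rfl : a = 1 := mem_bot.1 (h.faith.le ⟨ha, (op h).inner h3 ⟨ha,
    (mul_mem_cancel_left (mem_sup_left hg)).1 (mem_sup_right (h2 hx))⟩⟩)
  exact h1.le ⟨mul_mem hg (one_mem _), hx⟩

theorem exists_syl {r : ℕ} (hr : r.Prime) {H : Subgroup Γ} (hH : H < G)
    (hA : A ≤ normalizer (H : Set Γ)) (hd : r ∣ Nat.card H) :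
    ∃ R, IsSylowIn r R G ∧ A ≤ normalizer (R : Set Γ) := by
  haveI := Fact.mk hr
  obtain ⟨U, hU, h1⟩ := ((op h).sub hH.le hA).exists_sylow (h.sol H hH hA) r
  obtain ⟨P, hUP, ⟨h2, h3, h4⟩, hm⟩ := exists_maximal_ge_of_wellFoundedGT
    (fun P => P ≤ G ∧ IsPGroup r P ∧ A ≤ normalizer (P : Set Γ)) U ⟨hU.le.trans hH.le, hU.isPGroup, h1⟩
  have h5 := le_norm_inf h.AG (le_norm_norm h4)
  obtain ⟨Q, hQ, h6, h7⟩ := ((op h).sub inf_le_left h5).exists_sylow_ge (h.sol _ (norm_lt h hr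
    (h2.trans le_sup_left) h3 (ne_bot_of_le_ne_bot (hU.ne_bot hd) hUP)) h5)
      (le_inf h2 le_normalizer) h3 h4
  refine ⟨P, ⟨h2, h3, fun R a b c => ?_⟩, h4⟩
  by_contra hn
  obtain ⟨x, hx, x1, x2⟩ := H10.exists_mem_normalizer_of_lt b (lt_of_le_of_ne c (Ne.symm hn))
  obtain rfl := le_antisymm h6 (hm ⟨hQ.le.trans inf_le_left, hQ.isPGroup, h7⟩ h6)
  obtain ⟨k, hk⟩ := isPGroup_iff.1 b x hx
  exact x2 (hQ.mem_of_norm ⟨a hx, x1⟩ hk x1)

omit [Finite Γ] in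
theorem cent_lt {b : Γ} (hb : b ∈ A) (h1 : b ≠ 1) : G ⊓ centralizer ({b} : Set Γ) < G :=
  inf_lt_left.2 fun e => h1 (mem_bot.1 (h.faith.le ⟨hb, mem_centralizer_iff.2 fun g hg =>
    mem_centralizer_singleton_iff.1 (e hg)⟩))

omit [Finite Γ] in
theorem cent_inv {b : Γ} (hb : b ∈ centralizer (A : Set Γ)) :
    A ≤ normalizer ((G ⊓ centralizer ({b} : Set Γ) : Subgroup Γ) : Set Γ) :=
  le_norm_inf h.AG (le_norm_of_le fun a ha =>
    mem_centralizer_singleton_iff.2 (mem_centralizer_iff.1 hb a ha))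

theorem dvd_cent {r : ℕ} (hr : r.Prime) {b : Γ} (hb : b ∈ A) (e : orderOf b = r)
    (hd : r ∣ Nat.card G) : r ∣ Nat.card ↥(G ⊓ centralizer ({b} : Set Γ)) := by
  haveI := Fact.mk hr
  obtain ⟨T, hT, h1⟩ := exists_isSylowIn_ge (p := r) (P := zpowers b) (H := G ⊔ A)
    (zpowers_le.2 (mem_sup_right hb)) (isPGroup_zpowers (k := 1) (by
      rw [pow_one, ← e, pow_orderOf_eq_one]))
  have hE : G ⊔ A ≤ normalizer (G : Set Γ) := sup_le le_normalizer h.AG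
  have h2 := inf_OZ_ne_bot hT.isPGroup inf_le_left (le_norm_inf le_normalizer (hT.le.trans hE))
    ((hT.inf_normal le_sup_left hE).ne_bot hd)
  exact (H67.dvd_card_of_isPGroup hr (hT.isPGroup.to_le (inf_le_left.trans inf_le_left)) h2).trans
    (card_dvd_of_le fun x hx => ⟨hx.1.2, mem_centralizer_singleton_iff.2
      (mem_centralizer_iff.1 (OZ_le_cent T hx.2) b (h1 (mem_zpowers b))).symm⟩)

omit h

theorem syl (hOF : OFStmt.{u}) (hC : CtlStmt.{u}) : SylStmt.{u} := by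
  intro Γ _ _ G A h
  haveI : Fact (Nat.Prime 2) := ⟨Nat.prime_two⟩
  by_contra hn
  have odd : ∀ H < G, A ≤ normalizer (H : Set Γ) → Odd (Nat.card H) := fun H a b =>
    Nat.not_even_iff_odd.1 fun e => hn (exists_syl h Nat.prime_two a b e.two_dvd)
  have triv : ∀ r, r.Prime → ¬ r ∣ Nat.card G → IsSylowIn r ⊥ G := fun r hr e =>
    ⟨bot_le, IsPGroup.of_bot, fun P a b _ => by_contra fun c =>
      e ((H67.dvd_card_of_isPGroup hr b c).trans (card_dvd_of_le a))⟩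
  have hb : A ≤ normalizer ((⊥ : Subgroup Γ) : Set Γ) := le_norm_of_le_cent (le_centralizer_iff.1 bot_le)
  have hA : A ≠ ⊥ := fun e => h.nsol (by
    have := h.fpf
    rw [e, coe_bot, centralizer_eq_top_iff_subset.2 (by simp), inf_top_eq] at this
    rw [this]; infer_instance)
  obtain ⟨r, hr, hd⟩ := H67.exists_prime_dvd_card hA
  haveI := Fact.mk hr
  obtain ⟨b, hb1, hb2, hb3⟩ := exists_central h.nil hr hd
  have hb4 : b ≠ 1 := fun e => hr.one_lt.ne (by rw [← hb3, e, orderOf_one])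
  have r2 : r ≠ 2 := by
    rintro rfl
    by_cases e : 2 ∣ Nat.card G
    · exact (odd _ (cent_lt h hb1 hb4) (cent_inv h hb2)).not_two_dvd_nat (dvd_cent h hr hb1 hb3 e)
    · exact hn ⟨⊥, triv 2 hr e, hb⟩
  obtain ⟨R, hR, hAR⟩ : ∃ R, IsSylowIn r R G ∧ A ≤ normalizer (R : Set Γ) := by
    by_cases e : r ∣ Nat.card G
    · exact exists_syl h hr (cent_lt h hb1 hb4) (cent_inv h hb2) (dvd_cent h hr hb1 hb3 e)
    · exact ⟨⊥, triv r hr e, hb⟩
  have hE : G ⊔ A ≤ normalizer (G : Set Γ) := sup_le le_normalizer h.AG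
  have dj : ∀ a ∈ A, a ∈ G → a = 1 := fun a a1 a2 => mem_bot.1 ((op h).disj.le ⟨a1, a2⟩)
  obtain ⟨S, hS⟩ := exists_isSylowIn 2 G
  obtain ⟨K, hK, h1, h2⟩ := exists_supp h.nil h.AG (D := (G ⊔ A) ⊓ normalizer (S : Set Γ))
    inf_le_left (by rw [sup_comm G, hS.frattini_sup le_sup_left hE]; exact le_sup_right)
  have KG := (hK.trans inf_le_left).trans hE
  have dec := fun a (ha : a ∈ A) => (mem_sup_left_norm KG).1 (h1 ha)
  obtain ⟨y, y1, y2, y3⟩ := exists_central h2 hr (by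
    obtain ⟨g, hg, k, hk, e⟩ := dec b hb1
    have := mul_pow_mem hg (KG hk) (Nat.card K)
    rw [H4.pow_card_eq_one_of_mem hk, inv_one, mul_one, e] at this
    exact hb3 ▸ orderOf_dvd_of_pow_eq_one (dj _ (pow_mem hb1 _) this))
  have y4 : y ^ r ^ 1 = 1 := by rw [pow_one, ← y3, pow_orderOf_eq_one]
  have y5 : y ≠ 1 := fun e => hr.one_lt.ne (by rw [← y3, e, orderOf_one])
  obtain ⟨g₀, hg₀, y₀, z1, e₀⟩ := (mem_sup_left_norm h.AG).1 (hK y1).1
  have z2 : y₀ ∈ centralizer (A : Set Γ) := mem_centralizer_iff.2 fun a ha => by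
    obtain ⟨g, hg, k, hk, e⟩ := dec a ha
    refine mul_inv_eq_one.1 (dj _ (mul_mem (mul_mem ha z1) (inv_mem (mul_mem z1 ha))) ?_)
    have c := mem_centralizer_iff.1 y2 k hk
    rw [show a * y₀ * (y₀ * a)⁻¹ = a * g₀⁻¹ * a⁻¹ * (g * (k * y * (y * k)⁻¹) * (y * g⁻¹ * y⁻¹)) *
      g₀ by rw [← e, ← e₀]; group, c, mul_inv_cancel, mul_one]
    exact mul_mem (mul_mem (conj_mem h.AG ha (inv_mem hg₀))
      (mul_mem hg (conj_mem KG y1 (inv_mem hg)))) hg₀
  have z3 : y₀ ^ r ^ 1 = 1 := dj _ (pow_mem z1 _) (by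
    have := mul_pow_mem hg₀ (h.AG z1) (r ^ 1)
    rwa [e₀, y4, one_mul, inv_mem_iff] at this)
  have z4 := zpowers_le.2 z1
  set G₁ := G ⊔ zpowers y₀ with hG₁
  set R₁ := R ⊔ zpowers y₀ with hR₁
  have s1 : G₁ ≤ G ⊔ A := sup_le_sup_left z4 _
  have s2 : IsSylowIn r R₁ G₁ := ⟨sup_le_sup_right hR.le _, (isPGroup_sup
    (isPGroup_zpowers z3) hR.isPGroup (z4.trans hAR)).to_le (sup_comm _ _).le, fun P a b c => le_antisymm (fun x hx => by
      obtain ⟨g, hg, w, hw, rfl⟩ := (mem_sup_left_norm (z4.trans h.AG)).1 (a hx)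
      exact mul_mem_sup ((hR.max (P ⊓ G) inf_le_right (b.to_le inf_le_left)
        (le_inf (le_sup_left.trans c) hR.le)).le
          ⟨(mul_mem_cancel_right (c (mem_sup_right hw))).1 hx, hg⟩) hw) c⟩
  have s3 : A ≤ normalizer (R₁ : Set Γ) :=
    le_norm_sup hAR (le_norm_of_le_cent (le_centralizer_iff.1 (zpowers_le.2 z2)))
  have s4 : ∀ w, w * y₀⁻¹ ∈ G → ∀ x ∈ G₁, ∃ g ∈ G, ∃ v ∈ zpowers w, g * v = x := fun w hw x hx =>
    (mem_sup_left_norm (zpowers_le.2 ((mul_mem_cancel_right (inv_mem (h.AG z1))).1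
      (le_normalizer hw)))).1 ((sup_le le_sup_left (zpowers_le.2 (inv_mem_iff.1
        ((mul_mem_cancel_left (mem_sup_right (mem_zpowers w))).1 (mem_sup_left hw)))) :
          G₁ ≤ G ⊔ zpowers w) hx)
  have s5 : ∀ w v : Γ, v ∈ zpowers w → v * w * v⁻¹ = w := by
    rintro w _ ⟨i, rfl⟩; group
  have s6 : y * y₀⁻¹ ∈ G := by rwa [← e₀, mul_inv_cancel_right]
  have s7 : ∀ w, w * y₀⁻¹ ∈ G → ∀ g ∈ G, g * w * g⁻¹ * y₀⁻¹ ∈ G := fun w hw g hg => by
    rw [show g * w * g⁻¹ * y₀⁻¹ = g * (w * y₀⁻¹) * (y₀ * g⁻¹ * y₀⁻¹) by group]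
    exact mul_mem (mul_mem hg hw) (conj_mem h.AG z1 (inv_mem hg))
  obtain ⟨x, hx, e⟩ := s2.exists_conj_le (P := zpowers y)
    (zpowers_le.2 (e₀ ▸ mul_mem_sup hg₀ (mem_zpowers _))) (isPGroup_zpowers y4)
  obtain ⟨g₁, hg₁, v, hv, rfl⟩ := s4 y s6 x hx
  have t1 : g₁ * y * g₁⁻¹ ∈ R₁ := by
    have := e (conj_mem_cj (mem_zpowers y))
    rwa [show g₁ * v * y * (g₁ * v)⁻¹ = g₁ * (v * y * v⁻¹) * g₁⁻¹ by group, s5 y v hv] at this
  have t2 : R₁ ≠ ⊥ := fun e => y5 (by simpa using mem_bot.1 (e.le t1))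
  have t3 : ∀ U ≤ R₁, U ≠ ⊥ → A ≤ normalizer (U : Set Γ) → ∀ W ≤ normalizer (U : Set Γ),
      Odd (Nat.card ↥(G₁ ⊓ W)) := fun U a b c W d =>
    Nat.coprime_two_right.1 (coprime_card_iff.2 fun x hx k hk =>
      coprime_card_iff.1 (Nat.coprime_two_right.2 (odd _ (norm_lt h hr ((a.trans s2.le).trans s1)
        (s2.isPGroup.to_le a) b) (le_norm_inf h.AG (le_norm_norm c)))) x ⟨by
          obtain ⟨g, hg, _, ⟨i, rfl⟩, rfl⟩ := (mem_sup_left_norm (z4.trans h.AG)).1 hx.1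
          have := mul_pow_mem hg (h.AG (zpow_mem z1 i)) (r ^ 1)
          rw [← zpow_natCast (y₀ ^ i), ← zpow_mul, mul_comm i, zpow_mul, zpow_natCast, z3, one_zpow,
            inv_one, mul_one, pow_one] at this
          exact mem_of_pelt_of_pow_mem hk this ((Nat.coprime_primes hr Nat.prime_two).2 r2),
        d hx.2⟩ k hk)
  have j1 := H51.centerThompsonOf_le r R₁
  have j2 := H51.centerThompsonOf_ne_bot s2.isPGroup t2
  have j3 := H51.normalizer_le_normalizer_centerThompsonOf r R₁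
  have ctl := hC Γ r G₁ R₁ hr r2 s2 (hOF Γ r G₁ R₁ hr r2 s2
    (t3 _ (OZ_le R₁) (OZ_ne_bot s2.isPGroup t2) (norm_OZ s3) _ (centralizer_le_normalizer _))
    (t3 _ j1 j2 (s3.trans j3) _ le_rfl)) _ t1
  have j4 := le_norm_inf h.AG (le_norm_norm (s3.trans j3))
  obtain ⟨m, hm, m1⟩ := ((op h).sub inf_le_left j4).fp (Y := centralizer {g₁ * y * g₁⁻¹})
    (h.sol _ (norm_lt h hr ((j1.trans s2.le).trans s1) (s2.isPGroup.to_le j1) j2) j4) fun a ha => by
      obtain ⟨g, hg, k, hk, e⟩ := dec a ha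
      have c : a * g₁ * a⁻¹ * g * g₁⁻¹ * (g₁ * y * g₁⁻¹) * (a * g₁ * a⁻¹ * g * g₁⁻¹)⁻¹ =
          a * (g₁ * y * g₁⁻¹) * a⁻¹ := by
        calc _ = a * g₁ * a⁻¹ * g * (y * k) * k⁻¹ * g⁻¹ * a * g₁⁻¹ * a⁻¹ := by group
          _ = _ := by rw [← mem_centralizer_iff.1 y2 k hk, ← e]; group
      obtain ⟨n, hn, e'⟩ := ctl _ (mem_sup_left (mul_mem (mul_mem (conj_mem h.AG ha hg₁) hg)
        (inv_mem hg₁))) (c ▸ conj_mem s3 ha t1)
      obtain ⟨g', hg', v, hv, rfl⟩ := s4 _ (s7 y s6 g₁ hg₁) n hn.1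
      refine ⟨g', ⟨hg', (mul_mem_cancel_right (j3 (le_normalizer (zpowers_le.2 t1 hv)))).1 hn.2⟩,
        mem_centralizer_singleton_iff.2 ?_⟩
      rw [c] at e'
      generalize g₁ * y * g₁⁻¹ = w at *
      calc _ = g'⁻¹ * (a * w * a⁻¹) * a := by group
        _ = v * w * v⁻¹ * (g'⁻¹ * a) := by rw [← e']; group
        _ = _ := by rw [s5 w v hv]
  have m2 : m * g₁ * y * (m * g₁)⁻¹ = y₀ := mul_inv_eq_one.1 (mem_bot.1 (h.fpf.le
    ⟨s7 y s6 _ (G.mul_mem hm.1 hg₁), (centralizer _).mul_mem (mem_centralizer_iff.2 fun a ha => by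
      calc _ = m * (m⁻¹ * a * m * (g₁ * y * g₁⁻¹)) * m⁻¹ := by group
        _ = _ := by rw [mem_centralizer_singleton_iff.1 (m1 a ha)]; group) (inv_mem z2)⟩))
  have m3 := G.mul_mem hm.1 hg₁
  generalize m * g₁ = n at *
  have m4 : y₀ ≠ 1 := fun e => y5 (by simpa using m2.trans e)
  obtain ⟨c, hc, e⟩ := ((op h).sub inf_le_left (cent_inv h z2)).conj_normalized (P := cj n S)
    (h.sol _ (cent_lt h z1 m4) (cent_inv h z2)) fun a ha => by
      obtain ⟨g, hg, k, hk, e⟩ := dec a ha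
      refine ⟨a * (n * k * n⁻¹)⁻¹, ⟨?_, (centralizer _).mul_mem (mem_centralizer_singleton_iff.2
        (mem_centralizer_iff.1 z2 a ha)) (inv_mem (mem_centralizer_singleton_iff.2 ?_))⟩, ?_⟩
      · rw [show a * (n * k * n⁻¹)⁻¹ = g * (k * n * k⁻¹) * n⁻¹ by rw [← e]; group]
        exact G.mul_mem (mul_mem hg (conj_mem KG hk m3)) (inv_mem m3)
      · calc _ = n * (k * y) * n⁻¹ := by rw [← m2]; group
          _ = _ := by rw [mem_centralizer_iff.1 y2 k hk, ← m2]; group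
      · rw [cj_mul, cj_eq_self (inv_mem (cj_normalizer n S ▸ conj_mem_cj (hK hk).2))]
  exact hn ⟨_, (hS.cj_of_mem m3).cj_of_mem hc.1, e⟩

end Cfsg.Agent.H72.FMS
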