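import Cfsg.Agent.H56.HLDefs

/-! Project HL (S3727): piece P2b (a plane group does not depend on the point). -/

set_option autoImplicit false
set_option linter.unusedSectionVars false

namespace Cfsg.Agent.H72.HLb

open MulAction Subgroup Cfsg.Agent.H83 Cfsg.Agent.H56.TT Cfsg.Agent.H56.HL
open scoped Cfsg.Agent.H63

universe u v

section glob
variable {G : Type u} [Group G] [Finite G] {Ω : Type v} [Finite Ω] [MulAction G Ω]
  {NN : Ω → Subgroup G} {q : ℕ} {EE : Ω → Ω → Subgroup G}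

theorem fx_iff (h : PL NN q EE) (ha : P2a NN q EE) {a : Ω} {F : Subgroup G}
    (hF : Pln NN q EE a F) {t : G} (ht : t ∈ F) (t1 : t ≠ 1) (z : Ω) :
    z ∈ Fx Ω F ↔ t • z = z := by
  by_cases e : a = z
  · subst e
    exact ⟨fun hz => hz ht, fun _ => hF.mem h.st⟩
  · rw [ha.fixF hF z e, ha.fixt hF t ht t1 z e]

theorem pl_le (h : PL NN q EE) (ha : P2a NN q EE) {a x : Ω} {F F1 : Subgroup G}
    (hF : Pln NN q EE a F) (hF1 : Pln NN q EE x F1) (e : JJ Ω F1 = JJ Ω F) : F1 ≤ F := by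
  haveI : Fact (Nat.Prime 2) := ⟨Nat.prime_two⟩
  obtain ⟨y, hy, hA⟩ := id hF
  have k := h.st.kit a
  have q1 : F ≤ pCoreOf 2 (JJ Ω F) := le_pCoreOf (le_JJ F) (ha.nJ hF) hF.vx.isPGroup
  have q2 : F1 ≤ pCoreOf 2 (JJ Ω F) := by
    rw [← e]; exact le_pCoreOf (le_JJ F1) (ha.nJ hF1) hF1.vx.isPGroup
  have F0 : F ≠ ⊥ := fun e => hA.inf (by rw [e, inf_bot_eq])
  have h1 := inf_centralizer_ne_bot hF.vx.isPGroup (pCoreOf_isPGroup (p := 2) (JJ Ω F))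
    ((pCoreOf_le _).trans (ha.nJ hF)) F0
  obtain ⟨t, ⟨tF, tC⟩, t1⟩ : ∃ t ∈ F ⊓ C[pCoreOf 2 (JJ Ω F)], t ≠ 1 := by
    by_contra hc
    push Not at hc
    exact h1 ((eq_bot_iff_forall _).2 hc)
  have hS : SS (NN a) q F ≤ N[F] := SS_le fun E hE => le_sup_left.trans (k.ka.nE hE)
  have hC : F ≤ C[pCoreOf 2 (JJ Ω F)] := fun f hf => by
    by_cases f1 : f = 1
    · rw [f1]; exact one_mem _
    obtain ⟨g, hg, rfl⟩ := (k.l3.fd hA).trS t tF f hf t1 f1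
    have h2 : g ∈ N[pCoreOf 2 (JJ Ω F)] :=
      normalizer_le_norm_pCoreOf _ (norm_le_norm_JJ F (hS hg))
    have h3 := conj_mem_cj (g := g) tC
    rwa [cj_centralizer, cj_eq_self h2] at h3
  intro f hf
  exact ha.fj hF f (pCoreOf_le _ (q2 hf)) (le_centralizer_iff.1 hC (q2 hf))

theorem pl (h : PL NN q EE) (ha : P2a NN q EE) {a x : Ω} {F : Subgroup G}
    (hF : Pln NN q EE a F) (hx : x ∈ Fx Ω F) : Pln NN q EE x F := by
  by_cases e : a = x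
  · exact e ▸ hF
  have hA := (ha.fixF hF x e).1 hx
  obtain ⟨t, ⟨tE, tF⟩, t1⟩ := hA.exists_ne
  rw [h.ln.symm a x e] at tE
  have k := h.st.kit x
  obtain ⟨F0, h0⟩ := k.ka.nbr (h.ln.vx (Ne.symm e))
  obtain ⟨F1, h1, tF1⟩ := (k.l3.fa h0).cov t tE t1
  have hF1 : Pln NN q EE x F1 := ⟨a, Ne.symm e, h1⟩
  have h2 : Fx Ω F1 = Fx Ω F := by
    ext z
    rw [fx_iff h ha hF tF t1, fx_iff h ha hF1 tF1 t1]
  have h3 : JJ Ω F1 = JJ Ω F := by rw [JJ, JJ, h2]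
  rw [le_antisymm (pl_le h ha hF1 hF h3.symm) (pl_le h ha hF hF1 h3)]
  exact hF1

theorem adj (h : PL NN q EE) (ha : P2a NN q EE) {x y p : Ω} {M : Subgroup G} (hxy : x ≠ y)
    (hp : p ∈ Fx Ω (EE x y)) (hM : Adj (NN x) q (EE x y) M) : Adj (NN p) q (EE x y) M := by
  by_cases e : x = p
  · exact e ▸ hM
  have h1 : EE x p = EE x y := h.ln.fixl hxy e hp
  have hP : Pln NN q EE x M := ⟨y, hxy, hM⟩
  have h2 := pl h ha hP ((ha.fixF hP p e).2 (h1 ▸ hM))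
  refine ⟨?_, h2.vx, hM.ne, hM.inf⟩
  rw [← h1, h.ln.symm x p e]
  exact h.ln.vx (Ne.symm e)

end glob

theorem p2b : P2bStmt.{u, v} := by
  intro G Ω _ _ _ _ _ NN q EE h ha
  refine ⟨fun hF hx => pl h ha hF hx, fun hxy hp hM => adj h ha hxy hp hM, ?_⟩
  intro x y p hxy hp
  by_cases e : x = p
  · rw [e]
  refine le_antisymm (SS_le fun M hM => ?_) (SS_le fun M hM => (adj h ha hxy hp hM.symm).symm.le_SS)
  have h1 : EE p x = EE x y := by rw [h.ln.symm p x (Ne.symm e), h.ln.fixl hxy e hp]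
  rw [← h1] at hM ⊢
  exact (adj h ha (Ne.symm e) (h.ln.right h.st (Ne.symm e)) hM.symm).symm.le_SS

end Cfsg.Agent.H72.HLb
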