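import Cfsg.Agent.H72.ZcKt1

/-!
Commutators and squares in the radical of a solvable span, all lines being non-abelian.
-/

set_option autoImplicit false

namespace Cfsg.Agent.H72.ZcK0

open Subgroup Cfsg.Agent.H56.FS Cfsg.Agent.H56.ZC
open Cfsg.Agent.H72.ZcK (cm_Z conj_R)
open scoped commutatorElement

universe u

variable {G : Type u} [Group G] [Finite G] {p : ℕ} {D : Set (Subgroup G)} (h : Cl2 p 2 D)
  (hna : ∀ A ∈ D, ∀ B ∈ D, A ≠ B → ¬ IsMulCommutative ↥⁅A ⊔ B, A ⊔ B⁆)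
  {X : Subgroup G} (hX : Sv D X)
include h hna hX

theorem cm {u w : G} (hu : u ∈ RR D X) (hw : w ∈ RR D X) : ⁅u, w⁆ ∈ ZZ D X :=
  ⟨commutator_le_self _ (commutator_mem_commutator hu hw),
    na2' h.toBs2 h.toSh hX hna (commutator_mem_commutator hu hw)⟩

theorem cm_mul {x y w : G} (hx : x ∈ RR D X) (hy : y ∈ RR D X) (hw : w ∈ RR D X) :
    ⁅x * y, w⁆ = ⁅y, w⁆ * ⁅x, w⁆ := by
  have := ZZ_comm (cm h hna hX hy hw) (RR_le X hx)
  calc ⁅x * y, w⁆ = x * ⁅y, w⁆ * x⁻¹ * ⁅x, w⁆ := by simp only [commutatorElement_def]; group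
    _ = _ := by rw [this, mul_inv_cancel_right]

theorem cm_pow {x w : G} (hx : x ∈ RR D X) (hw : w ∈ RR D X) (n : ℕ) :
    ⁅x ^ n, w⁆ = ⁅x, w⁆ ^ n := by
  induction n with
  | zero => simp
  | succ n ih => rw [pow_succ', cm_mul h hna hX hx (pow_mem hx n) hw, ih, pow_succ]

theorem cm_pow' {x w : G} (hx : x ∈ RR D X) (hw : w ∈ RR D X) (n : ℕ) :
    ⁅x, w ^ n⁆ = ⁅x, w⁆ ^ n := by
  rw [← commutatorElement_inv, cm_pow h hna hX hw hx, ← inv_pow, commutatorElement_inv]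

theorem sq_step (k : ℕ) (hk : ∀ x ∈ RR D X, x ^ 2 ^ (k + 2) ∈ ZZ D X) :
    ∀ x ∈ RR D X, x ^ 2 ^ (k + 1) ∈ ZZ D X := by
  have hV : closure {y | ∃ x ∈ RR D X, y = x ^ 2 ^ (k + 1)} ≤ RR D X :=
    (closure_le _).2 (by rintro _ ⟨x, hx, rfl⟩; exact pow_mem hx _)
  have := na1' h.toBs2 h.toSh hX hna hV (by
    rw [centralizer_closure, closure_le]
    rintro _ ⟨x, hx, rfl⟩ _ ⟨y, hy, rfl⟩
    rw [← commutatorElement_eq_one_iff_mul_comm, cm_pow' h hna hX (pow_mem hy _) hx,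
      ← cm_pow h hna hX (pow_mem hy _) hx, ← pow_mul,
      show 2 ^ (k + 1) * 2 ^ (k + 1) = 2 ^ k * 2 ^ (k + 2) by ring, pow_mul]
    exact cm_Z (hk _ (pow_mem hy _)) hx) fun g hg => norm_of_le (by
      rw [cj, MonoidHom.map_closure, closure_le]
      rintro _ ⟨_, ⟨x, hx, rfl⟩, rfl⟩
      exact subset_closure ⟨_, conj_R hg hx, by simp [conj_pow]⟩)
  exact fun x hx => ⟨pow_mem hx _, this (subset_closure ⟨x, hx, rfl⟩)⟩

theorem sq_mem {u : G} (hu : u ∈ RR D X) : u * u ∈ ZZ D X := by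
  have : Fact (Nat.Prime 2) := ⟨Nat.prime_two⟩
  obtain ⟨n, hn⟩ := (h.pg X hX).exists_card_eq
  have key : ∀ k, (∀ x ∈ RR D X, x ^ 2 ^ (k + 1) ∈ ZZ D X) → u ^ 2 ^ 1 ∈ ZZ D X := fun k => by
    induction k with
    | zero => exact fun hk => hk u hu
    | succ k ih => exact fun hk => ih (sq_step h hna hX k hk)
  have := key n fun x hx => by
    have : x ^ 2 ^ n = 1 := by
      rw [← hn]; exact congrArg Subtype.val (pow_card_eq_one' (x := (⟨x, hx⟩ : RR D X)))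
    rw [pow_succ, pow_mul, this, one_pow]
    exact one_mem _
  rwa [pow_one, sq] at this

theorem e2 {e : G} (he : e ∈ ZZ D X) : e * e = 1 := by
  have : Fact (Nat.Prime 2) := ⟨Nat.prime_two⟩
  by_cases h0 : RR D X = ⊥
  · rw [mem_bot.1 (h0.le he.1), mul_one]
  obtain ⟨A, hA, hAX⟩ := exists_pt_of_RR h0
  have h1 := H88.inf_centralizer_le_commutator (h.pg X hX)
    ((le_LL hA hAX).trans (LL_le_norm_RR X))
    (h.card A hA ▸ (Nat.coprime_primes h.pp Nat.prime_two).2 h.p2)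
    (comm_RA' h.toBs2 h.toSh hX hA hAX) ⟨he.1, centralizer_le (le_LL hA hAX) he.2⟩
  let K : Subgroup G :=
    { carrier := {e | e ∈ ZZ D X ∧ e * e = 1}
      one_mem' := ⟨one_mem _, mul_one _⟩
      mul_mem' := fun {a b} ha hb => ⟨mul_mem ha.1 hb.1, by
        rw [mul_assoc, ← mul_assoc b, ZZ_comm ha.1 (RR_le X hb.1.1), mul_assoc, hb.2, mul_one, ha.2]⟩
      inv_mem' := fun {a} ha => ⟨inv_mem ha.1, by rw [← mul_inv_rev, ha.2, inv_one]⟩ }
  refine ((commutator_le (H₃ := K)).2 (fun x hx y hy => ⟨cm h hna hX hx hy, ?_⟩) h1).2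
  rw [← cm_mul h hna hX hx hx hy]
  exact cm_Z (sq_mem h hna hX hx) hy

end Cfsg.Agent.H72.ZcK0
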