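import Cfsg.Agent.H56.ZCCl
import Cfsg.Agent.H88.Basic

/-!
Local facts on classes of subgroups of odd prime order with non-abelian anisotropic lines.
-/

set_option autoImplicit false

namespace Cfsg.Agent.H72.ZcK

open Subgroup Cfsg.Agent.H56.FS Cfsg.Agent.H56.ZC
open scoped commutatorElement

universe u

variable {G : Type u} [Group G] [Finite G] {p : ℕ} {D : Set (Subgroup G)} (h : Cn p D)

omit [Finite G] in
theorem cm_Z {X : Subgroup G} {e w : G} (he : e ∈ ZZ D X) (hw : w ∈ RR D X) : ⁅e, w⁆ = 1 :=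
  commutatorElement_eq_one_iff_mul_comm.2 (ZZ_comm he (RR_le X hw)).symm

omit [Finite G] in
theorem conj_R {X : Subgroup G} {a u : G} (ha : a ∈ LL D X) (hu : u ∈ RR D X) :
    a * u * a⁻¹ ∈ RR D X := (mem_normalizer_iff.1 (LL_le_norm_RR X ha) u).1 hu

include h

theorem ncp {A B : Subgroup G} (hA : A ∈ D) (hB : B ∈ D) (hc : B ≤ centralizer (A : Set G)) :
    B = A := by
  by_contra ne
  refine h.na A hA B hB (Ne.symm ne) ⟨⟨fun x y => Subtype.ext ?_⟩⟩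
  have h1 := H21.FsCL.comm_sup_le (hc.trans (centralizer_le_normalizer _)) (h.comm hB)
  exact h.comm hA (h1 y.2) x (h1 x.2)

theorem fz {A : Subgroup G} (hA : A ∈ D) {g : G} (hg : ∀ a ∈ A, ⁅g, a⁆ ∈ center G) : A ≤ Ce g := by
  refine le_Ce_iff.2 (h.eps A hA (cj_eq_iff.1 (ncp h hA (h.inv A hA g) (cj_le_iff.2 ?_))))
  intro a ha
  rw [show g * a * g⁻¹ = ⁅g, a⁆ * a by rw [commutatorElement_def]; group]
  exact mul_mem (center_le_centralizer _ (hg a ha)) (h.comm hA ha)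

variable {X : Subgroup G} (hX : Sv D X)
include hX

theorem cm {u w : G} (hu : u ∈ RR D X) (hw : w ∈ RR D X) : ⁅u, w⁆ ∈ ZZ D X :=
  ⟨commutator_le_self _ (commutator_mem_commutator hu hw),
    na2' h.toBs2 h.toSh hX h.na (commutator_mem_commutator hu hw)⟩

theorem mz {A : Subgroup G} (hA : A ∈ D) (hAX : A ≤ X) {u : G} (hu : u ∈ RR D X)
    (e : cj u A = A) : u ∈ ZZ D X := ⟨hu, h.norm_cen' hX hA hAX hu e⟩

theorem cm_mul {x y w : G} (hx : x ∈ RR D X) (hy : y ∈ RR D X) (hw : w ∈ RR D X) :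
    ⁅x * y, w⁆ = ⁅y, w⁆ * ⁅x, w⁆ := by
  have := ZZ_comm (cm h hX hy hw) (RR_le X hx)
  calc ⁅x * y, w⁆ = x * ⁅y, w⁆ * x⁻¹ * ⁅x, w⁆ := by simp only [commutatorElement_def]; group
    _ = _ := by rw [this, mul_inv_cancel_right]

theorem cm_pow {x w : G} (hx : x ∈ RR D X) (hw : w ∈ RR D X) (n : ℕ) :
    ⁅x ^ n, w⁆ = ⁅x, w⁆ ^ n := by
  induction n with
  | zero => simp
  | succ n ih => rw [pow_succ', cm_mul h hX hx (pow_mem hx n) hw, ih, pow_succ]

theorem cm_pow' {x w : G} (hx : x ∈ RR D X) (hw : w ∈ RR D X) (n : ℕ) :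
    ⁅x, w ^ n⁆ = ⁅x, w⁆ ^ n := by
  rw [← commutatorElement_inv, cm_pow h hX hw hx, ← inv_pow, commutatorElement_inv]

theorem sq_step (k : ℕ) (hk : ∀ x ∈ RR D X, x ^ 2 ^ (k + 2) ∈ ZZ D X) :
    ∀ x ∈ RR D X, x ^ 2 ^ (k + 1) ∈ ZZ D X := by
  have hV : closure {y | ∃ x ∈ RR D X, y = x ^ 2 ^ (k + 1)} ≤ RR D X :=
    (closure_le _).2 (by rintro _ ⟨x, hx, rfl⟩; exact pow_mem hx _)
  have := na1' h.toBs2 h.toSh hX h.na hV (by
    rw [centralizer_closure, closure_le]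
    rintro _ ⟨x, hx, rfl⟩ _ ⟨y, hy, rfl⟩
    rw [← commutatorElement_eq_one_iff_mul_comm, cm_pow' h hX (pow_mem hy _) hx,
      ← cm_pow h hX (pow_mem hy _) hx, ← pow_mul,
      show 2 ^ (k + 1) * 2 ^ (k + 1) = 2 ^ k * 2 ^ (k + 2) by ring, pow_mul]
    exact cm_Z (hk _ (pow_mem hy _)) hx) fun g hg => norm_of_le (by
      rw [cj, MonoidHom.map_closure, closure_le]
      rintro _ ⟨_, ⟨x, hx, rfl⟩, rfl⟩
      exact subset_closure ⟨_, conj_R hg hx, by simp [conj_pow]⟩)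
  exact fun x hx => ⟨pow_mem hx _, this (subset_closure ⟨x, hx, rfl⟩)⟩

theorem sq_mem {u : G} (hu : u ∈ RR D X) : u * u ∈ ZZ D X := by
  have : Fact (Nat.Prime 2) := ⟨Nat.prime_two⟩
  obtain ⟨n, hn⟩ := (h.pg X hX).exists_card_eq
  have key : ∀ k, (∀ x ∈ RR D X, x ^ 2 ^ (k + 1) ∈ ZZ D X) → u ^ 2 ^ 1 ∈ ZZ D X := fun k => by
    induction k with
    | zero => exact fun hk => hk u hu
    | succ k ih => exact fun hk => ih (sq_step h hX k hk)
  have := key n fun x hx => by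
    have : x ^ 2 ^ n = 1 := by
      rw [← hn]; exact congrArg Subtype.val (pow_card_eq_one' (x := (⟨x, hx⟩ : RR D X)))
    rw [pow_succ, pow_mul, this, one_pow]
    exact one_mem _
  rwa [pow_one, sq] at this

theorem e2 {e : G} (he : e ∈ ZZ D X) : e * e = 1 := by
  have : Fact (Nat.Prime 2) := ⟨Nat.prime_two⟩
  by_cases h0 : RR D X = ⊥
  · rw [mem_bot.1 (h0.le he.1), mul_one]
  obtain ⟨A, hA, hAX⟩ := exists_pt_of_RR h0
  have h1 := H88.inf_centralizer_le_commutator (h.pg X hX)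
    ((le_LL hA hAX).trans (LL_le_norm_RR X))
    (h.card A hA ▸ (Nat.coprime_primes h.pp Nat.prime_two).2 h.p2)
    (comm_RA' h.toBs2 h.toSh hX hA hAX) ⟨he.1, centralizer_le (le_LL hA hAX) he.2⟩
  let K : Subgroup G :=
    { carrier := {e | e ∈ ZZ D X ∧ e * e = 1}
      one_mem' := ⟨one_mem _, mul_one _⟩
      mul_mem' := fun {a b} ha hb => ⟨mul_mem ha.1 hb.1, by
        rw [mul_assoc, ← mul_assoc b, ZZ_comm ha.1 (RR_le X hb.1.1), mul_assoc, hb.2, mul_one, ha.2]⟩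
      inv_mem' := fun {a} ha => ⟨inv_mem ha.1, by rw [← mul_inv_rev, ha.2, inv_one]⟩ }
  refine ((commutator_le (H₃ := K)).2 (fun x hx y hy => ⟨cm h hX hx hy, ?_⟩) h1).2
  rw [← cm_mul h hX hx hx hy]
  exact cm_Z (sq_mem h hX hx) hy

theorem an' {u : G} (hu : u ∈ RR D X) (hn : u ∉ ZZ D X) : u * u ≠ 1 := by
  obtain ⟨A, hA, hAX⟩ := exists_pt_of_RR (D := D) (X := X) fun e =>
    hn (mem_bot.1 (e ▸ hu) ▸ one_mem _)
  have hB := h.inv A hA u
  obtain ⟨v, hv, e⟩ := h.conj_pt_pair hA hB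
  have hv' : v ∈ RR D X :=
    RR_mono (sup_le hAX (cj_le_of_mem (LL_le X (RR_le X hu)) hAX)) hv
  have h1 : v⁻¹ * u ∈ ZZ D X :=
    mz h hX hA hAX (mul_mem (inv_mem hv') hu) (by rw [← cj_cj, e, cj_inv_cj])
  intro h2
  refine h.an A hA _ hB v hv (fun k => hn (mz h hX hA hAX hu (e.trans k))) ?_
  calc v * v = v * v * (v⁻¹ * u * (v⁻¹ * u)) := by rw [e2 h hX h1, mul_one]
    _ = v * (v * (v⁻¹ * u)) * (v⁻¹ * u) := by simp only [mul_assoc]
    _ = u * u := by rw [ZZ_comm h1 (RR_le X hv')]; group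
    _ = 1 := h2

theorem nc {A : Subgroup G} (hA : A ∈ D) (hAX : A ≤ X) {a : G} (ha : a ∈ A) (a1 : a ≠ 1) {u : G}
    (hu : u ∈ RR D X) (hn : u ∉ ZZ D X) : ⁅u, a * u * a⁻¹⁆ ≠ 1 := by
  have haL := le_LL hA hAX ha
  have h1 := sq_mem h hX hu
  intro h2
  refine an' h hX (mul_mem hu (conj_R haL hu)) (fun h3 => hn ?_) ?_
  · have h4 := mul_mem (inv_mem h1) h3
    have h5 : u⁻¹ * a * u = (u * u)⁻¹ * (u * (a * u * a⁻¹)) * a := by group
    generalize (u * u)⁻¹ * (u * (a * u * a⁻¹)) = e at h4 h5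
    have h6 : e ^ p = 1 := by
      have : (u⁻¹ * a * u) ^ p = (e * a) ^ p := by rw [h5]
      rw [Commute.mul_pow (ZZ_comm h4 haL).symm, h.pow_p hA ha, mul_one,
        show u⁻¹ * a * u = u⁻¹ * a * u⁻¹⁻¹ by rw [inv_inv], conj_pow, h.pow_p hA ha] at this
      rw [← this, mul_one, mul_inv_cancel]
    obtain ⟨k, hk⟩ := h.pp.odd_of_ne_two h.p2
    rw [hk, pow_succ, pow_mul, sq, e2 h hX h4, one_pow, one_mul] at h6
    refine ⟨hu, h.cen X hX A hA hAX ⟨hu, ?_⟩⟩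
    rw [← h.zpowers_eq hA ha a1, zpowers_eq_closure, centralizer_closure]
    refine mem_Ce.2 ?_
    rw [h6, one_mul] at h5
    calc u * a = u * (u⁻¹ * a * u) := by rw [h5]
      _ = a * u := by group
  · have h3 := commutatorElement_eq_one_iff_mul_comm.1 h2
    calc u * (a * u * a⁻¹) * (u * (a * u * a⁻¹)) = u * ((a * u * a⁻¹) * u) * (a * u * a⁻¹) := by
          simp only [mul_assoc]
      _ = u * u * (a * (u * u) * a⁻¹) := by rw [← h3]; group
      _ = 1 := by rw [ZZ_comm h1 haL, mul_inv_cancel_right, e2 h hX h1]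

omit h hX in
theorem kt1 : Kt1Stmt.{u} := fun _ _ _ _ _ h =>
  { sq := fun _ hX _ => sq_mem h hX
    e2 := fun _ hX _ => e2 h hX
    cm := fun _ hX _ hu _ => cm h hX hu
    mz := fun _ hX _ hA hAX _ => mz h hX hA hAX
    an' := fun _ hX _ => an' h hX
    nc := fun _ hX _ hA hAX _ ha a1 _ => nc h hX hA hAX ha a1
    ncp := fun _ hA _ => ncp h hA
    fz := fun _ hA _ => fz h hA }

end Cfsg.Agent.H72.ZcK
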