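import Mathlib
import Cfsg.Agent.H23.DadeExt
import Cfsg.Agent.H24.PKer
import Cfsg.Agent.H14.Gallagher
import Cfsg.Agent.S0888

/-!
# FS2, piece P4 (first part): extension of a Heisenberg character
-/

set_option autoImplicit false

namespace Cfsg.Agent.H72.FS2

open Cfsg Subgroup H23
open scoped commutatorElement ComplexConjugate

variable {Γ : Type*} [Group Γ] [Finite Γ]

theorem ext_nd (E H : Subgroup Γ) [E.Normal] {z x : Γ} (zE : z ∈ E) (z1 : z ≠ 1)
    (z2 : z * z = 1) (zc : z ∈ center Γ) (ab : ∀ a ∈ E, ∀ b ∈ E, ⁅a, b⁆ ∈ zpowers z)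
    (nd' : E ⊓ centralizer (E : Set Γ) ≤ zpowers z) (h2 : IsPGroup 2 E) (hEH : E ⊓ H = ⊥)
    (hEHtop : E ⊔ H = ⊤) (xo : Odd (orderOf x)) (xc : H ≤ centralizer {x})
    (fix : E ⊓ centralizer {x} ≤ zpowers z) :
    ∃ χ : Γ → ℂ, IsIrrCharacter Γ χ ∧ IsIrrCharacter E (fun n : E => χ n) ∧ χ z = -χ 1 := by
  have hcen : ∀ L : Subgroup Γ, L ≤ centralizer {z} := fun _ g _ =>
    mem_centralizer_singleton_iff.2 (mem_center_iff.1 zc g)
  have dh : ∀ P ≤ H, IsPGroup 2 P → DH z E (zpowers x) P := fun P hP pP =>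
    ⟨z1, z2, zE, hcen _, hcen _, hcen _, ab, nd', h2, pP, by rwa [Nat.card_zpowers],
      le_normalizer', le_normalizer',
      (le_centralizer_zpowers (hP.trans xc)).trans (centralizer_le_normalizer _),
      le_bot_iff.1 ((inf_le_inf_left _ hP).trans hEH.le),
      (inf_le_inf_left _ (centralizer_le (by simp))).trans fix⟩
  have nd : ND (⟨z, zE⟩ : E) := (dh ⊥ bot_le (IsPGroup.of_bot)).ND
  obtain ⟨θ₀, hθ₀, hne⟩ := H11.exists_irr_apply_ne nd.z1
  obtain ⟨θ, rfl⟩ : ∃ θ : IrrCharacter E, θ₀ = θ.1 := ⟨⟨θ₀, hθ₀⟩, rfl⟩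
  have hθz : θ.1 ⟨z, zE⟩ = -θ.1 1 := (irr_sign θ.2 nd.zc nd.z2).resolve_left hne
  have hinv : InvBy E ⊤ θ.1 := fun y hy =>
    (cj_eq_self_iff ⟨y, le_normalizer' hy⟩ θ).1 (Subtype.ext (nd.eq_of_irr (cj E _ θ).2
      (by rw [cj_apply_one, ← hθz]
          exact cj_apply_of_eq _ θ (by
            change _ = y * _ * y⁻¹
            rw [mem_centralizer_singleton_iff.1 (hcen ⊤ hy), mul_inv_cancel_right])) θ.2 hθz))
  obtain ⟨χ, hχ, e⟩ := S0888.result E θ.1 θ.2 (fun g n => hinv g (mem_top g) _ _ rfl) fun p hp => by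
    haveI := Fact.mk hp
    obtain ⟨S⟩ : Nonempty (Sylow p H) := inferInstance
    let P := (S : Subgroup H).map H.subtype
    have hP : P ≤ H := map_subtype_le _
    have pP : IsPGroup p P := S.isPGroup'.map _
    have EP : E ⊓ P = ⊥ := le_bot_iff.1 ((inf_le_inf_left _ hP).trans hEH.le)
    have h1 : E.relIndex (E ⊔ P) = Nat.card P := by
      rw [relIndex_sup_left, ← inf_relIndex_right, EP, relIndex_bot_left]
    obtain ⟨k, hk⟩ := pP.exists_card_eq
    have h3 : Extends θ.1 (E ⊔ P) := by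
      by_cases hp2 : p = 2
      · subst hp2
        obtain ⟨η, hη⟩ := DH.exists_se _ (dh P hP pP) rfl
        refine (extends_iff le_sup_left).2 ⟨⟨η, hη.irr le_sup_left zE nd⟩, fun n => ?_⟩
        exact congrFun (nd.eq_of_irr (hη.res_irr le_sup_left zE nd) (hη.sg _ rfl) θ.2 hθz) n
      · haveI := Fact.mk Nat.prime_two
        obtain ⟨j, hj⟩ := h2.exists_card_eq
        have h4 : (p ^ k).Coprime (Nat.card E) :=
          hj ▸ Nat.Coprime.pow _ _ ((Nat.coprime_primes hp Nat.prime_two).2 hp2)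
        refine H24.extends_of_coprime le_sup_left le_normalizer' (hinv.mono le_top) ?_
        rw [h1, hk]
        exact (h4.coprime_dvd_right (H72.detOrder_dvd_card (H11.irr_isCharacter θ))).mul_right
          (h4.coprime_dvd_right (H24.deg_dvd_card θ.2))
    obtain ⟨η, hη⟩ := (extends_iff le_sup_left).1 h3
    refine ⟨E ⊔ P, le_sup_left, η.1, ?_, ⟨k, h1.trans hk⟩, η.2, hη⟩
    have h4 : (E ⊔ P).relIndex H = (E ⊔ P).index := by
      rw [← relIndex_top_right]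
      refine H4.relIndex_eq_of_mul le_top fun g _ => ?_
      obtain ⟨a, ha, b, hb, e⟩ := (H4.mem_sup_iff_of_le_normalizer'
        (le_normalizer' (N := E) (G := H))).1 (hEHtop.ge (mem_top g))
      exact ⟨a, ha, b, mem_sup_left hb, e⟩
    refine ((Nat.Prime.coprime_iff_not_dvd hp).2 fun h0 => S.not_dvd_index ?_).symm
    rw [← h4] at h0
    refine h0.trans ((Subgroup.relIndex_dvd_of_le_left H le_sup_right).trans (dvd_of_eq ?_))
    rw [relIndex, subgroupOf, comap_map_eq_self_of_injective H.subtype_injective]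
  refine ⟨χ, hχ, by rw [funext e]; exact θ.2, ?_⟩
  exact (e ⟨z, zE⟩).trans (hθz.trans (congrArg Neg.neg (e 1).symm))

/-- Every element of `E` is a commutator with `x` modulo `Z`. -/
theorem exists_comm_mod {E Z : Subgroup Γ} {x : Γ} (hx : x ∈ normalizer (E : Set Γ))
    (Zc : Z ≤ center Γ) (fix : ∀ n ∈ E, ⁅n, x⁆ ∈ Z → n ∈ Z) {n : Γ} (hn : n ∈ E) :
    ∃ m ∈ E, ∃ y ∈ Z, n * x = m * (y * x) * m⁻¹ := by
  have hm : ∀ m : E, ⁅(m : Γ), x⁆ ∈ E := fun m => by
    have := mul_mem m.2 (H4.conj_mem_of_mem_normalizer hx (inv_mem m.2))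
    simpa [commutatorElement_def, mul_assoc] using this
  let F : E ⧸ Z.subgroupOf E → E ⧸ Z.subgroupOf E :=
    Quotient.map' (fun m => ⟨_, hm m⟩) fun a b hab => by
      rw [QuotientGroup.leftRel_apply, mem_subgroupOf] at hab ⊢
      have h1 := mem_center_iff.1 (Zc hab) x
      have : (⁅(a : Γ), x⁆)⁻¹ * ⁅(b : Γ), x⁆ = 1 := by
        simp only [coe_mul, coe_inv] at h1
        rw [inv_mul_eq_one, commutatorElement_def, commutatorElement_def]
        calc (a : Γ) * x * (a : Γ)⁻¹ * x⁻¹ = a * (x * ((a : Γ)⁻¹ * b)) * (b : Γ)⁻¹ * x⁻¹ := by group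
          _ = _ := by rw [h1]; group
      simp only [coe_mul, coe_inv, this, one_mem]
  have hF : Function.Injective F := fun a b => Quotient.inductionOn₂' a b fun a b hab => by
    have h1 : ((⟨_, hm a⟩ : E) : E ⧸ Z.subgroupOf E) = (⟨_, hm b⟩ : E) := hab
    rw [QuotientGroup.eq, mem_subgroupOf] at h1
    refine QuotientGroup.eq.2 (mem_subgroupOf.2 (fix _ (a⁻¹ * b).2 ?_))
    simp only [coe_mul, coe_inv] at h1 ⊢
    have h2 := mem_center_iff.1 (Zc h1)
    generalize hy : (⁅(a : Γ), x⁆)⁻¹ * ⁅(b : Γ), x⁆ = y at h1 h2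
    have h3 : (b : Γ) * x * (b : Γ)⁻¹ = a * x * (a : Γ)⁻¹ * y := by
      have := h2 x
      rw [inv_mul_eq_iff_eq_mul, commutatorElement_def, commutatorElement_def] at hy
      calc (b : Γ) * x * (b : Γ)⁻¹ = b * x * (b : Γ)⁻¹ * x⁻¹ * x := by group
        _ = a * x * (a : Γ)⁻¹ * x⁻¹ * (y * x) := by rw [hy]; group
        _ = _ := by rw [← this]; group
    have h4 : ⁅(a : Γ)⁻¹ * b, x⁆ = y := by
      calc ⁅(a : Γ)⁻¹ * b, x⁆ = (a : Γ)⁻¹ * (b * x * (b : Γ)⁻¹) * a * x⁻¹ := by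
            rw [commutatorElement_def]; group
        _ = x * ((a : Γ)⁻¹ * (y * (a * x⁻¹))) := by rw [h3]; group
        _ = x * ((a : Γ)⁻¹ * (a * x⁻¹)) * y := by rw [← h2 (a * x⁻¹)]; group
        _ = y := by group
    exact h4 ▸ h1
  obtain ⟨q, hq⟩ := Finite.injective_iff_surjective.1 hF ((⟨n, hn⟩ : E) : E ⧸ Z.subgroupOf E)
  obtain ⟨m, rfl⟩ := QuotientGroup.mk_surjective q
  have h1 : ((⟨_, hm m⟩ : E) : E ⧸ Z.subgroupOf E) = (⟨n, hn⟩ : E) := hq
  rw [QuotientGroup.eq, mem_subgroupOf] at h1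
  simp only [coe_mul, coe_inv] at h1
  refine ⟨m, m.2, _, h1, ?_⟩
  have h2 := mem_center_iff.1 (Zc h1)
  generalize hy : (⁅(m : Γ), x⁆)⁻¹ * n = y at h1 h2
  rw [inv_mul_eq_iff_eq_mul, commutatorElement_def] at hy
  calc n * x = m * x * (m : Γ)⁻¹ * x⁻¹ * (y * x) := by rw [hy]; group
    _ = m * (x * ((m : Γ)⁻¹ * y)) := by rw [← h2 x]; group
    _ = m * (x * y) * (m : Γ)⁻¹ := by rw [h2 (m : Γ)⁻¹]; group
    _ = _ := by rw [h2 x]

theorem ext_cam (E H Z : Subgroup Γ) [E.Normal] {z x : Γ} (ZE : Z ≤ E) (Zc : Z ≤ center Γ)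
    (Z2 : ∀ y ∈ Z, y * y = 1) (ab : ∀ a ∈ E, ∀ b ∈ E, ⁅a, b⁆ ∈ Z) (zZ : z ∈ Z)
    (cam : ∀ g ∈ E, g ∉ Z → ∃ g' ∈ E, ⁅g, g'⁆ = z) (h2 : IsPGroup 2 E) (hEH : E ⊓ H = ⊥)
    (htop : E ⊔ H = ⊤) (xo : Odd (orderOf x)) (xc : H ≤ centralizer {x})
    (fix : ∀ n ∈ E, ⁅n, x⁆ ∈ Z → n ∈ Z) {ψ : Γ → ℂ} (hψ : IsIrrCharacter Γ ψ)
    (e : ψ z = -ψ 1) :
    ∃ η : Γ → ℂ, IsIrrCharacter Γ η ∧ IsIrrCharacter E (fun n : E => η n) ∧
      (∀ y ∈ Z, η y = -η 1 ↔ ψ y = -ψ 1) ∧ η x * conj (η x) = 1 := by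
  let W := Z ⊓ H11.charKer ψ
  haveI : W.Normal := ⟨fun n hn g => by
    rw [mem_center_iff.1 (Zc hn.1) g, mul_inv_cancel_right]; exact hn⟩
  let f := QuotientGroup.mk' W
  have hf : Function.Surjective f := QuotientGroup.mk'_surjective W
  have f1 : ∀ {g}, f g = 1 ↔ g ∈ W := QuotientGroup.eq_one_iff _
  have ne : ∀ {φ : Γ → ℂ}, IsIrrCharacter Γ φ → φ 1 ≠ -φ 1 := fun hφ h =>
    H11.irr_apply_one_ne_zero hφ (by linear_combination (1 / 2 : ℂ) * h)
  have zW : z ∉ W := fun h => ne hψ ((H11.apply_eq_of_mem_charKer h.2).symm.trans e)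
  have key : ∀ y ∈ Z, (f y = 1 ∧ ψ y = ψ 1) ∨ (f y = f z ∧ ψ y = -ψ 1) := fun y hy =>
    (irr_sign hψ (Zc hy) (Z2 y hy)).imp
      (fun h => ⟨f1.2 ⟨hy, (H11.mem_charKer_irr_iff hψ).2 h⟩, h⟩) fun h => ⟨by
        have : f (y * z) = 1 := f1.2 ⟨mul_mem hy zZ, (H11.mem_charKer_irr_iff hψ).2 (by
          rw [apply_mul_of_neg (H11.isCharacter_of_irr hψ) h, e, neg_neg])⟩
        rw [map_mul] at this
        have h3 : f z * f z = 1 := by rw [← map_mul, Z2 z zZ, map_one]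
        exact mul_right_cancel (this.trans h3.symm), h⟩
  have key' : ∀ y ∈ Z, f y ∈ zpowers (f z) := fun y hy => by
    rcases key y hy with h | h <;> simp [h.1]
  haveI : (E.map f).Normal := Normal.map inferInstance f hf
  obtain ⟨χ, a, b, c⟩ := ext_nd (E.map f) (H.map f) (z := f z) (x := f x)
    (mem_map_of_mem f (ZE zZ)) (fun h => zW (f1.1 h)) (by rw [← map_mul, Z2 z zZ, map_one])
    (mem_center_iff.2 fun g => by
      obtain ⟨g, rfl⟩ := hf g
      rw [← map_mul, mem_center_iff.1 (Zc zZ), map_mul])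
    (by
      rintro _ ⟨a, ha, rfl⟩ _ ⟨b, hb, rfl⟩
      rw [← map_commutatorElement]
      exact key' _ (ab a ha b hb))
    (by
      rintro _ ⟨⟨n, hn, rfl⟩, h⟩
      refine key' n (by_contra fun hn' => zW ?_)
      obtain ⟨g, hg, e⟩ := cam n hn hn'
      rw [← e, ← f1, map_commutatorElement, commutatorElement_eq_one_iff_mul_comm]
      exact (h _ (mem_map_of_mem f hg)).symm)
    (h2.map f)
    (by
      rw [eq_bot_iff]
      rintro _ ⟨⟨n, hn, rfl⟩, l, hl, e⟩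
      have : n⁻¹ * l ∈ W := f1.1 (by rw [map_mul, map_inv, e, inv_mul_cancel])
      have h3 : l = 1 := mem_bot.1 (hEH.le ⟨(mul_mem_cancel_left (inv_mem hn)).1 (ZE this.1), hl⟩)
      rw [← e, h3, map_one]
      exact one_mem _)
    (by rw [← Subgroup.map_sup, htop, map_top_of_surjective f hf])
    (xo.of_dvd_nat (orderOf_map_dvd f x))
    (by
      rintro _ ⟨l, hl, rfl⟩
      rw [mem_centralizer_singleton_iff, ← map_mul, mem_centralizer_singleton_iff.1 (xc hl),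
        map_mul])
    (by
      rintro _ ⟨⟨n, hn, rfl⟩, h⟩
      refine key' n (fix n hn (f1.1 ?_).1)
      rw [map_commutatorElement, commutatorElement_eq_one_iff_mul_comm]
      exact mem_centralizer_singleton_iff.1 h)
  have a' : IsIrrCharacter Γ fun g => χ (f g) := H11.isIrrCharacter_comp_of_surjective a f hf
  have b' : IsIrrCharacter E fun n : E => χ (f n) :=
    H11.isIrrCharacter_comp_of_surjective b (f.subgroupMap E) (f.subgroupMap_surjective E)
  refine ⟨fun g => χ (f g), a', b', fun y hy => ?_, ?_⟩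
  · rcases key y hy with h | h
    · simp only [h.1, h.2, map_one]
      exact ⟨fun h => absurd h (by simpa using ne a'), fun h => absurd h (ne hψ)⟩
    · simp only [h.1, h.2, map_one, c]
  · haveI := Fintype.ofFinite E
    have h3 := H14.sum_coset_mul_conj E a' b' x
    rw [Finset.sum_congr rfl (g := fun _ => χ (f x) * conj (χ (f x))) fun n _ => ?_,
      Finset.sum_const, Finset.card_univ, nsmul_eq_mul, ← Nat.card_eq_fintype_card,
      mul_eq_left₀ (H11.card_ne_zero E)] at h3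
    · exact h3
    obtain ⟨m, -, y, hy, e⟩ := exists_comm_mod (le_normalizer' (mem_top x)) Zc fix n.2
    have h4 : χ (f (m * (y * x) * m⁻¹)) = χ (f (y * x)) := H11.isClassFunction_of_irr a' (y * x) m
    rw [e, h4, map_mul]
    rcases key y hy with h | h
    · rw [h.1, one_mul]
    · rw [h.1, apply_mul_of_neg (H11.isCharacter_of_irr a) c, map_neg, neg_mul_neg]

theorem uniq_cam (Z : Subgroup Γ) (Zc : Z ≤ center Γ) (Z2 : ∀ y ∈ Z, y * y = 1) {z : Γ}
    (zZ : z ∈ Z) (cam : ∀ g ∉ Z, ∃ g', ⁅g, g'⁆ = z) {θ θ' : Γ → ℂ} (hθ : IsIrrCharacter Γ θ)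
    (hθ' : IsIrrCharacter Γ θ') (e : θ z = -θ 1) (s : ∀ y ∈ Z, θ y = -θ 1 ↔ θ' y = -θ' 1) :
    θ = θ' := by
  have van : ∀ {χ : Γ → ℂ}, IsIrrCharacter Γ χ → χ z = -χ 1 → ∀ g ∉ Z, χ g = 0 :=
    fun {χ} hχ e g hg => by
      obtain ⟨g', h⟩ := cam g hg
      have h1 := apply_mul_of_neg (H11.isCharacter_of_irr hχ) e g
      have h2 : z * g = g' * g * g'⁻¹ := by
        rw [← inv_eq_of_mul_eq_one_right (Z2 z zZ), ← h, commutatorElement_def]; group
      rw [h2, H11.isClassFunction_of_irr hχ] at h1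
      linear_combination (1 / 2 : ℂ) * h1
  have ne : ∀ {φ : Γ → ℂ}, IsIrrCharacter Γ φ → φ 1 ≠ -φ 1 := fun hφ h =>
    H11.irr_apply_one_ne_zero hφ (by linear_combination (1 / 2 : ℂ) * h)
  have h1 : θ = (θ 1 / θ' 1) • θ' := funext fun g => by
    rw [Pi.smul_apply, smul_eq_mul, div_mul_eq_mul_div, eq_div_iff (H11.irr_apply_one_ne_zero hθ')]
    by_cases hg : g ∈ Z
    · rcases irr_sign hθ (Zc hg) (Z2 g hg) with h | h
      · rw [h, (irr_sign hθ' (Zc hg) (Z2 g hg)).resolve_right fun h' =>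
          ne hθ (h.symm.trans ((s g hg).2 h'))]
      · rw [h, (s g hg).1 h]; ring
    · rw [van hθ e g hg, van hθ' ((s z zZ).1 e) g hg, zero_mul, mul_zero]
  haveI := Fintype.ofFinite Γ
  refine H11.irr_eq_of_classInner_ne_zero hθ hθ' ?_
  rw [h1, H11.classInner_smul_left, H11.classInner_irr_self hθ', mul_one]
  exact div_ne_zero (H11.irr_apply_one_ne_zero hθ) (H11.irr_apply_one_ne_zero hθ')

/-- Parity lemma modulo twice the algebraic integers. -/
theorem exists_fixed {ι : Type*} [Fintype ι] (σ : ι → ι) (hσ : ∀ i, σ (σ i) = i) (f : ι → ℂ)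
    (hf : ∀ i, f (σ i) = f i) (hint : ∀ i, IsIntegral ℤ (f i))
    (hn : (∑ i, f i) * conj (∑ i, f i) = 1) :
    ∃ i, σ i = i ∧ ¬ ∃ a, IsIntegral ℤ a ∧ f i = 2 * a := by
  by_contra hcon
  push Not at hcon
  let S : AddSubgroup ℂ :=
    { carrier := {c | ∃ a, IsIntegral ℤ a ∧ c = 2 * a}
      zero_mem' := ⟨0, isIntegral_zero, by simp⟩
      add_mem' := by
        rintro _ _ ⟨a, ha, rfl⟩ ⟨b, hb, rfl⟩
        exact ⟨a + b, ha.add hb, by ring⟩
      neg_mem' := by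
        rintro _ ⟨a, ha, rfl⟩
        exact ⟨-a, ha.neg, by ring⟩ }
  have := Finset.sum_involution (s := Finset.univ) (f := fun i => QuotientAddGroup.mk' S (f i))
    (fun i _ => σ i) (fun i _ => by
      rw [hf, ← map_add]
      exact (QuotientAddGroup.eq_zero_iff _).2 ⟨f i, hint i, by ring⟩)
    (fun i _ h0 e => h0 ((QuotientAddGroup.eq_zero_iff _).2 (hcon i e)))
    (fun _ _ => Finset.mem_univ _) (fun i _ => hσ i)
  rw [← map_sum] at this
  obtain ⟨a, ha, e⟩ := (QuotientAddGroup.eq_zero_iff _).1 this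
  rw [e] at hn
  have h1 : a * conj a = ((1 : ℕ) : ℂ) / (4 : ℕ) := by
    rw [map_mul, map_ofNat] at hn
    push_cast
    linear_combination (1 / 4 : ℂ) * hn
  have h2 := H12.dvd_of_isIntegral_div (by norm_num)
    (h1 ▸ ha.mul (ha.map (starRingEnd ℂ).toIntAlgHom))
  norm_num at h2

end Cfsg.Agent.H72.FS2
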