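import Mathlib
import Cfsg.Agent.H71.FSDefs
import Cfsg.Agent.H72.FSP4a
import Cfsg.Agent.H23.McKay
import Cfsg.Agent.H24.Broline
import Cfsg.Agent.H19.DetGal

/-!
# FS2, piece P4: the Heisenberg step
-/

set_option autoImplicit false

namespace Cfsg.Agent.H72.FS2

open Cfsg Subgroup H23 H71.FS2
open scoped commutatorElement ComplexConjugate

universe u

variable {G : Type u} [Group G] [Finite G] {π : G →* ℤˣ}

theorem mulLin_mulLin {M : Type*} [Group M] [Finite M] (a b : M →* ℂˣ) (χ : IrrCharacter M) :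
    mulLin a (mulLin b χ) = mulLin (a * b) χ := Subtype.ext (funext fun x => by
  simp only [mulLin_apply, MonoidHom.mul_apply, Units.val_mul]; ring)

theorem mulLin_one {M : Type*} [Group M] [Finite M] (χ : IrrCharacter M) : mulLin 1 χ = χ :=
  Subtype.ext (funext fun x => by simp [mulLin_apply])

theorem mulLin_cancel {M : Type*} [Group M] [Finite M] (a b : M →* ℂˣ) (χ : IrrCharacter M) :
    mulLin (b⁻¹ * a) (mulLin b χ) = mulLin a χ := Subtype.ext (funext fun x => by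
  simp [mulLin_apply, mul_assoc])

theorem mulLin_inv_left {M : Type*} [Group M] [Finite M] (b : M →* ℂˣ) (χ : IrrCharacter M) :
    mulLin b⁻¹ (mulLin b χ) = χ := Subtype.ext (funext fun x => by simp [mulLin_apply])

theorem mulLin_inv_right {M : Type*} [Group M] [Finite M] (b : M →* ℂˣ) (χ : IrrCharacter M) :
    mulLin b (mulLin b⁻¹ χ) = χ := Subtype.ext (funext fun x => by simp [mulLin_apply])

theorem mult_mulLin_both {L K : Subgroup G} (h : L ≤ K) (b : K →* ℂˣ) (χ : IrrCharacter K)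
    (φ : IrrCharacter L) :
    mult h (mulLin b χ) (mulLin (b.comp (inclusion h)) φ) = mult h χ φ := by
  haveI := Fintype.ofFinite L
  refine mult_eq_of_inner h ?_
  rw [← mult_spec h χ φ, H11.classInner_def, H11.classInner_def]
  congr 1
  refine Finset.sum_congr rfl fun c _ => ?_
  have h1 : conj (b (inclusion h c) : ℂ) = (b (inclusion h c)⁻¹ : ℂ) :=
    (H12.IsCharacter_inv (H11.isCharacter_monoidHom b) _).symm
  have h2 : (b (inclusion h c) : ℂ) * (b (inclusion h c)⁻¹ : ℂ) = 1 := by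
    rw [← Units.val_mul, ← map_mul, mul_inv_cancel, map_one, Units.val_one]
  rw [mulLin_apply, mulLin_apply, map_mul, MonoidHom.comp_apply, h1]
  change χ.1 _ * (b (inclusion h c) : ℂ) * _ = _
  linear_combination χ.1 ⟨c, h c.2⟩ * conj (φ.1 c) * h2

omit [Finite G] in
theorem exists_pre {K : Subgroup G} {γ : G} (hγ : γ ∈ K) (g' : ev π K) :
    ∃ g : ev π K, (g' : G) = γ * g * γ⁻¹ :=
  ⟨⟨γ⁻¹ * g' * γ⁻¹⁻¹, conj_mem_ev (inv_mem hγ) g'.2⟩, by simp [mul_assoc]⟩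

theorem tw_mulLin {K : Subgroup G} {γ : G} (hγ : γ ∈ K) {b c : ev π K →* ℂˣ}
    (h : ∀ g g' : ev π K, (g' : G) = γ * g * γ⁻¹ → c g' = (b g)⁻¹) (χ : IrrCharacter (ev π K)) :
    tw π hγ (mulLin b χ) = mulLin c (tw π hγ χ) := Subtype.ext (funext fun g' => by
  obtain ⟨g, e⟩ := exists_pre hγ g'
  rw [tw_apply hγ _ e, mulLin_apply, mulLin_apply, tw_apply hγ _ e, h g g' e, map_inv])

theorem eps_one (h1 : C1.{u}) {L : Subgroup G} (hL : HasOdd π L) (hNB : NB π L)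
    {φ : IrrCharacter (ev π L)} (hφ : SC π L φ.1) : eps π L φ.1 = 1 :=
  ((h1 π L φ).1.resolve_left ((h1 π L φ).2.2 ⟨hL, hφ⟩)).resolve_right (hNB φ)

/-- The determinant trick. -/
theorem exists_sc {K N L : Subgroup G} (NK : N ≤ ev π K) (nN : K ≤ normalizer (N : Set G))
    (LK : L ≤ K) (fac : ∀ a ∈ ev π K, ∃ k ∈ N, ∃ b ∈ ev π L, a = k * b) (NL : N ⊓ L = ⊥)
    {γ : G} (hγ : γ ∈ L) {x : G} (hx : x ∈ ev π L) (xc : ∀ l ∈ ev π L, l * x = x * l)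
    (xγ : γ * x * γ⁻¹ = x⁻¹) {θ : IrrCharacter N} {η : IrrCharacter (ev π K)}
    (e : ∀ n : N, η.1 ⟨n, NK n.2⟩ = θ.1 n)
    (e' : ∀ n : N, (tw π (LK hγ) η).1 ⟨n, NK n.2⟩ = θ.1 n)
    (hn : η.1 ⟨x, ev_mono LK hx⟩ * conj (η.1 ⟨x, ev_mono LK hx⟩) = 1) :
    ∃ (η₁ : IrrCharacter (ev π K)) (φ : IrrCharacter (ev π L)),
      (∀ n : N, η₁.1 ⟨n, NK n.2⟩ = θ.1 n) ∧ tw π (LK hγ) η₁ = η₁ ∧ tw π hγ φ = φ ∧
        Odd (mult (ev_mono LK) η₁ φ) := by
  have nN' : ev π K ≤ normalizer (N : Set G) := (ev_le π K).trans nN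
  obtain ⟨b, hb, hη⟩ := exists_linear_of_ext NK nN' e e'
  let σ : ev π K →* ev π K :=
    (cjAut (ev π K) (⟨γ, le_normalizer_ev π K (LK hγ)⟩ : normalizer (ev π K : Set G))⁻¹).toMonoidHom
  have hσ : ∀ g g' : ev π K, (g' : G) = γ * g * γ⁻¹ → σ g' = g := fun g g' h =>
    Subtype.ext (by
      change γ⁻¹ * g' * γ⁻¹⁻¹ = g
      rw [h]; group)
  have hinv : ∀ g g' : ev π K, (g' : G) = γ * g * γ⁻¹ → b g' = b g := by
    have h1 := tw_tw (LK hγ) η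
    rw [hη, tw_mulLin (LK hγ) (c := (b.comp σ)⁻¹) (fun g g' h => by
      rw [MonoidHom.inv_apply, MonoidHom.comp_apply, hσ g g' h]), hη, mulLin_mulLin] at h1
    have h2 := mulLin_inj_of_ext NK nN' e (fun y hy => by
      rw [MonoidHom.mul_apply, MonoidHom.inv_apply, MonoidHom.comp_apply, hb y hy,
        hb (σ y) (H4.conj_mem_of_mem_normalizer (nN (inv_mem (LK hγ))) hy), inv_one, one_mul])
      (fun _ _ => rfl) (h1.trans (mulLin_one η).symm)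
    intro g g' h
    have h3 := DFunLike.congr_fun h2 g'
    rw [MonoidHom.mul_apply, MonoidHom.inv_apply, MonoidHom.comp_apply, hσ g g' h,
      MonoidHom.one_apply, inv_mul_eq_one] at h3
    exact h3.symm
  have hx' : ∀ {M : Subgroup G} (hM : γ ∈ M) (h : x ∈ ev π M) (χ : IrrCharacter (ev π M)),
      (tw π hM χ).1 ⟨x, h⟩ = χ.1 ⟨x, h⟩ := fun hM h χ => by
    rw [tw_apply hM χ (g := ⟨x, h⟩⁻¹) (by
      change x = γ * x⁻¹ * γ⁻¹
      rw [← inv_inj]; nth_rewrite 1 [← xγ]; group), inv_inv]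
  have bx : b ⟨x, ev_mono LK hx⟩ = 1 := by
    have h1 := hx' (LK hγ) (ev_mono LK hx) η
    rw [hη, mulLin_apply, mul_eq_left₀ (left_ne_zero_of_mul_eq_one hn)] at h1
    exact Units.val_eq_one.1 h1
  let b₀ := b.comp (inclusion (ev_mono LK))
  have hinv₀ : ∀ g g' : ev π L, (g' : G) = γ * g * γ⁻¹ → b₀ g' = b₀ g := fun g g' h =>
    hinv _ _ h
  haveI := Fintype.ofFinite (IrrCharacter (ev π L))
  obtain ⟨φ, hφ, hodd⟩ := exists_fixed (fun φ : IrrCharacter (ev π L) => mulLin b₀⁻¹ (tw π hγ φ))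
    (fun φ => by
      rw [tw_mulLin hγ (c := b₀) (fun g g' h => by rw [MonoidHom.inv_apply, inv_inv, hinv₀ g g' h]),
        tw_tw, mulLin_inv_left])
    (fun φ => (mult (ev_mono LK) η φ : ℂ) * φ.1 ⟨x, hx⟩)
    (fun φ => by
      rw [← mult_mulLin_both (ev_mono LK) b η, ← hη, mulLin_inv_right,
        mult_tw, mulLin_apply, hx', MonoidHom.inv_apply,
        show b₀ ⟨x, hx⟩ = 1 from bx, inv_one, Units.val_one, mul_one])
    (fun φ => (isIntegral_natCast _).mul (H12.IsCharacter_isIntegral (H11.irr_isCharacter φ) _))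
    (by rw [← res_apply_eq_sum (ev_mono LK) η ⟨x, hx⟩]; exact hn)
  have hφ' : tw π hγ φ = mulLin b₀ φ := by
    nth_rewrite 2 [← hφ]
    rw [mulLin_inv_right]
  have hodd' : Odd (mult (ev_mono LK) η φ * charDegree φ.1) := by
    rw [← Nat.not_even_iff_odd]
    rintro ⟨k, hk⟩
    have h1 := H12.irr_isIntegral_index_mul_div φ.2 ⟨x, hx⟩
    rw [show centralizer {(⟨x, hx⟩ : ev π L)} = ⊤ from eq_top_iff.2 fun l _ =>
      mem_centralizer_singleton_iff.2 (Subtype.ext (xc l l.2)), index_top, Nat.cast_one,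
      one_mul] at h1
    refine hodd ⟨_, (isIntegral_natCast k).mul h1, ?_⟩
    have h2 := congrArg (Nat.cast (R := ℂ)) hk
    push_cast at h2
    rw [← H24.irr_deg φ.2] at h2
    have h3 := H11.irr_apply_one_ne_zero φ.2
    field_simp
    linear_combination φ.1 ⟨x, hx⟩ * h2
  obtain ⟨om, ⟨j, hj⟩⟩ := Nat.odd_mul.1 hodd'
  obtain ⟨d, hd⟩ := exists_monoidHom_detChar (H11.irr_isCharacter φ)
  have hd' : ∀ g g' : ev π L, (g' : G) = γ * g * γ⁻¹ → (d g)⁻¹ = b₀ g' ^ (2 * j + 1) * d g' :=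
    fun g g' h => by
      let τ : ev π L →* ev π L :=
        (cjAut (ev π L) (⟨γ, le_normalizer_ev π L hγ⟩ : normalizer (ev π L : Set G))⁻¹).toMonoidHom
      have hτ : τ g' = g := Subtype.ext (by
        change γ⁻¹ * g' * γ⁻¹⁻¹ = g
        rw [h]; group)
      have h1 : (fun y => conj (φ.1 (τ y))) = fun y => (b₀ y : ℂ) * φ.1 y :=
        (congrArg Subtype.val hφ').trans (funext fun y => mul_comm _ _)
      have h2 := H19.detChar_conj (H11.isCharacter_comp (H11.irr_isCharacter φ) τ) g'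
      rw [h1, detChar_linear_mul (H11.irr_isCharacter φ) (H24.irr_deg φ.2),
        detChar_comp (H11.irr_isCharacter φ), hd, hj] at h2
      beta_reduce at h2
      rw [hτ, ← H12.IsCharacter_inv (H11.isCharacter_monoidHom d), map_inv] at h2
      exact Units.ext (by rw [← h2]; simp)
  obtain ⟨B, hB, hB'⟩ := exists_lin_extend NK nN' (ev_mono LK) fac (d⁻¹ * (b₀ ^ j)⁻¹)
    fun y hy => by
      rw [show y = 1 from Subtype.ext (mem_bot.1 (NL.le ⟨hy, y.2.1⟩)), map_one]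
  have k₀ : ∀ g g' : ev π L, (g' : G) = γ * g * γ⁻¹ →
      (b₀⁻¹ * (d⁻¹ * (b₀ ^ j)⁻¹)) g' = ((d⁻¹ * (b₀ ^ j)⁻¹) g)⁻¹ := fun g g' h => by
    have h1 := hd' g g' h
    simp only [MonoidHom.mul_apply, MonoidHom.inv_apply, MonoidHom.pow_apply, h1,
      ← hinv₀ g g' h]
    generalize b₀ g' = s
    generalize d g' = t
    simp only [mul_inv, inv_inv, pow_add, pow_mul', pow_one, pow_two]
    rw [mul_comm ((s ^ j)⁻¹ * (s ^ j)⁻¹ * s⁻¹ * t⁻¹), ← mul_assoc, ← mul_assoc, ← mul_assoc,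
      ← mul_assoc, mul_inv_cancel, one_mul, mul_assoc, mul_comm (s ^ j)⁻¹, mul_assoc,
      mul_comm t⁻¹]
  have k₁ : ∀ g g' : ev π K, (g' : G) = γ * g * γ⁻¹ → (b⁻¹ * B) g' = (B g)⁻¹ := fun g g' h => by
    obtain ⟨n, hn, l, hl, e⟩ := fac g g.2
    have hn' := H4.conj_mem_of_mem_normalizer (nN (LK hγ)) hn
    have h1 := k₀ ⟨l, hl⟩ ⟨_, conj_mem_ev hγ hl⟩ rfl
    rw [← hB'] at h1
    rw [show g = ⟨n, NK hn⟩ * inclusion (ev_mono LK) ⟨l, hl⟩ from Subtype.ext e,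
      show g' = ⟨_, NK hn'⟩ * inclusion (ev_mono LK) ⟨_, conj_mem_ev hγ hl⟩ from Subtype.ext (by
        rw [h, e]; simp [mul_assoc]), map_mul, map_mul, hB _ hn, MonoidHom.mul_apply,
      MonoidHom.inv_apply, hB _ hn', hb _ hn', inv_one, one_mul, one_mul, one_mul]
    exact h1
  refine ⟨mulLin B η, mulLin (d⁻¹ * (b₀ ^ j)⁻¹) φ, fun n => ?_, ?_, ?_, ?_⟩
  · rw [mulLin_apply, e, hB _ n.2, Units.val_one, mul_one]
  · rw [tw_mulLin (LK hγ) k₁, hη, mulLin_cancel]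
  · rw [tw_mulLin hγ k₀, hφ', mulLin_cancel]
  · rwa [← hB', mult_mulLin_both]

/-- The final Gallagher step. -/
theorem eps_eq_one (h1 : C1.{u}) (h2 : C2.{u}) (h3 : C3.{u}) {K N L : Subgroup G}
    (NK : N ≤ ev π K) (nN : K ≤ normalizer (N : Set G)) (LK : L ≤ K)
    (fac : ∀ a ∈ ev π K, ∃ k ∈ N, ∃ b ∈ ev π L, a = k * b) {γ : G} (hγ : γ ∈ L) (ho : π γ = -1)
    (hNB : NB π L) {θ : IrrCharacter N} {η ψ : IrrCharacter (ev π K)}
    {φ : IrrCharacter (ev π L)} (e : ∀ n : N, η.1 ⟨n, NK n.2⟩ = θ.1 n)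
    (a : tw π (LK hγ) η = η) (b : tw π hγ φ = φ) (c : Odd (mult (ev_mono LK) η φ))
    (hs : SC π K ψ.1) (hm : mult NK ψ θ ≠ 0) : eps π K ψ.1 = 1 := by
  have hL : HasOdd π L := ⟨γ, hγ, ho⟩
  have a' := (sc_iff_tw _ ho η).2 a
  have b' := (sc_iff_tw _ ho φ).2 b
  haveI : (N.subgroupOf (ev π K)).Normal :=
    (normal_subgroupOf_iff_le_normalizer NK).2 ((ev_le π K).trans nN)
  haveI := Fintype.ofFinite (N.subgroupOf (ev π K))
  haveI := Fintype.ofFinite N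
  have e1 : (fun n : N.subgroupOf (ev π K) => η.1 n) =
      fun x : N.subgroupOf (ev π K) => θ.1 ⟨(x : ev π K), mem_subgroupOf.1 x.2⟩ :=
    funext fun x : N.subgroupOf (ev π K) => e ⟨_, mem_subgroupOf.1 x.2⟩
  have e2 := e1 ▸ H24.isIrr_subgroupOf NK θ.2
  obtain ⟨β₀, hβ, hk, e₀⟩ := H24.gallagher_exists (N.subgroupOf (ev π K)) (H11.irr_isCharacter η)
    e2 ψ.2 (by rw [e1, H24.inner_subgroupOf NK]; exact (mult_ne_zero_iff NK).1 hm)
  obtain ⟨β, rfl⟩ : ∃ β : IrrCharacter (ev π K), β₀ = β.1 := ⟨⟨β₀, hβ⟩, rfl⟩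
  have sβ : SC π K β.1 := (sc_iff_tw (LK hγ) ho β).2 (Subtype.ext
    (H24.gallagher_inj (N.subgroupOf (ev π K)) (H11.irr_isCharacter η) e2 (tw π (LK hγ) β).2 β.2
      (fun n hn => (H11.mem_charKer_irr_iff (tw π (LK hγ) β).2).2 (by
        obtain ⟨g, hg⟩ := exists_pre (LK hγ) n
        have : g ∈ N.subgroupOf (ev π K) := mem_subgroupOf.2
          ((mem_normalizer_iff.1 (nN (LK hγ)) g).2 (hg ▸ mem_subgroupOf.1 hn))
        rw [tw_apply _ _ hg, tw_apply (LK hγ) β (g := 1) (by simp), inv_one,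
          H11.apply_eq_of_mem_charKer (hk (inv_mem this))])) hk (funext fun g' => by
        obtain ⟨g, hg⟩ := exists_pre (LK hγ) g'
        rw [← e₀, hs γ (LK hγ) ho g g' hg, e₀, Pi.mul_apply, Pi.mul_apply, tw_apply _ _ hg,
          a' γ (LK hγ) ho g g' hg])))
  have r : IsIrrCharacter (ev π L) fun l => β.1 ⟨l, ev_mono LK l.2⟩ :=
    H11.isIrrCharacter_comp_mulEquiv
      (H24.res_isIrr_of_sup_charKer ((ev π L).subgroupOf (ev π K)) β.2 (eq_top_iff.2 fun g _ => by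
        obtain ⟨n, hn, l, hl, e⟩ := fac g g.2
        rw [show g = ⟨n, NK hn⟩ * ⟨l, ev_mono LK hl⟩ from Subtype.ext e]
        exact mul_mem (mem_sup_left (hk (mem_subgroupOf.2 hn))) (mem_sup_right hl)))
      (subgroupOfEquivOfLe (ev_mono LK)).symm
  have sr : SC π L (⟨_, r⟩ : IrrCharacter (ev π L)).1 := fun δ hδ hδo g g' h =>
    sβ δ (LK hδ) hδo ⟨g, ev_mono LK g.2⟩ ⟨g', ev_mono LK g'.2⟩ h
  rw [h3 π K η β ψ a' sβ (congrFun e₀), h2 π LK η φ hL a' b' c, eps_one h1 hL hNB b',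
    h2 π LK β ⟨_, r⟩ hL sβ sr (by rw [mult_eq_one_of_res_eq _ fun _ => rfl]; exact odd_one),
    eps_one h1 hL hNB sr, one_mul]

omit [Finite G] in
theorem exists_ts {N L : Subgroup G} (h : L ≤ normalizer (N : Set G)) (lam : N →* ℂˣ) :
    ∃ M : Subgroup G, ∀ l, l ∈ M ↔ l ∈ L ∧ TS π N lam l :=
  ⟨{ carrier := {l | l ∈ L ∧ TS π N lam l}
     one_mem' := ⟨one_mem _, fun a a' e => by
       rw [show a' = a from Subtype.ext (by simpa using e)]; simp⟩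
     mul_mem' := by
       rintro k l ⟨a, b⟩ ⟨c, d⟩
       refine ⟨mul_mem a c, fun n n' e => ?_⟩
       rw [b ⟨_, H4.conj_mem_of_mem_normalizer (h c) n.2⟩ n' (by rw [e]; group), d n _ rfl,
         ← zpow_mul, map_mul, Units.val_mul, mul_comm]
     inv_mem' := by
       rintro k ⟨a, b⟩
       refine ⟨inv_mem a, fun n n' e => ?_⟩
       rw [b n' n (by rw [e]; group), ← zpow_mul, ← Units.val_mul, ← map_mul, mul_inv_cancel,
         map_one, Units.val_one, zpow_one] }, fun _ => Iff.rfl⟩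

theorem ph (h1 : C1.{u}) (h2 : C2.{u}) (h3 : C3.{u}) (hb : PB'.{u}) : PH.{u} := by
  intro G _ _ π K N L Z x S cam hx xo xl fix hNB hM ψ hψ
  obtain ⟨⟨γ₀, hγ₀, ho₀⟩, hs⟩ := (h1 π K ψ).2.1 (by rw [hψ]; norm_num)
  obtain ⟨γ, hγ, ho⟩ : HasOdd π L := by
    obtain ⟨n, hn, l, hl, rfl⟩ := S.fac γ₀ hγ₀
    exact ⟨l, hl, by rwa [map_mul, (mem_ev.1 (S.NK hn)).2, one_mul] at ho₀⟩
  have fac : ∀ a ∈ ev π K, ∃ k ∈ N, ∃ b ∈ ev π L, a = k * b := fun a ha => by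
    obtain ⟨n, hn, l, hl, rfl⟩ := S.fac a ha.1
    refine ⟨n, hn, l, mem_ev.2 ⟨hl, ?_⟩, rfl⟩
    have := (mem_ev.1 ha).2
    rwa [map_mul, (mem_ev.1 (S.NK hn)).2, one_mul] at this
  have zc : ∀ z ∈ Z, ev π K ≤ centralizer {z} := fun z hz k hk =>
    mem_centralizer_singleton_iff.2 (S.Zc z hz k hk.1)
  have zN : Z.subgroupOf N ≤ center N := fun z hz => mem_center_iff.2 fun k =>
    Subtype.ext (S.Zc z hz k (S.NK k.2).1)
  obtain ⟨θ, hθ⟩ := exists_under S.NK ψ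
  have sθ := fun z (hz : z ∈ Z) => sign_iff_of_mult S.NK (S.ZN hz) (S.Z2 z hz) (zc z hz) hθ
  by_cases hz : ∃ z, ∃ hz : z ∈ Z, ψ.1 ⟨z, S.NK (S.ZN hz)⟩ = -ψ.1 1
  swap
  · push Not at hz
    have k1 : ∀ z : N, (z : G) ∈ Z → θ.1 z = θ.1 1 := fun z h =>
      (irr_sign θ.2 (zN h) (Subtype.ext (S.Z2 z h))).resolve_right fun e => hz z h ((sθ z h).2 e)
    have k2 := H11.irr_apply_one_of_commutator_le θ.2 (commutator_le.2 fun a _ b _ =>
      (H11.mem_charKer_irr_iff θ.2).2 (k1 _ (S.ab a a.2 b b.2)))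
    obtain ⟨lam, hl⟩ := H11.exists_monoidHom_of_apply_one_eq_one (H11.irr_isCharacter θ) k2
    obtain ⟨M, hM'⟩ := exists_ts (π := π) (S.LK.trans S.nN) lam
    refine hb π K N L M S.NK S.nN S.LK S.fac ψ θ lam hψ hθ (congrFun hl) hM'
      (hM lam M (fun z h => Units.ext ?_) hM')
    exact (congrFun hl z).symm.trans ((k1 z h).trans k2)
  obtain ⟨z, zZ, e⟩ := hz
  haveI : (N.subgroupOf (ev π K)).Normal :=
    (normal_subgroupOf_iff_le_normalizer S.NK).2 ((ev_le π K).trans S.nN)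
  have xc : ∀ l ∈ ev π L, l * x = x * l := fun l hl => by
    have := xl l hl.1
    rwa [(mem_ev.1 hl).2, Units.val_one, zpow_one, mul_inv_eq_iff_eq_mul] at this
  obtain ⟨η₀, a, b, c, d⟩ := ext_cam (N.subgroupOf (ev π K)) ((ev π L).subgroupOf (ev π K))
    (Z.subgroupOf (ev π K)) (z := ⟨z, S.NK (S.ZN zZ)⟩) (x := ⟨x, ev_mono S.LK hx⟩)
    (comap_mono S.ZN) (fun y hy => mem_center_iff.2 fun k => Subtype.ext (S.Zc y hy k k.2.1))
    (fun y hy => Subtype.ext (S.Z2 y hy)) (fun a ha b hb => S.ab a ha b hb) zZ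
    (fun g hg hg' => by
      obtain ⟨g', k1, k2⟩ := cam g hg hg' z zZ
      exact ⟨⟨g', S.NK k1⟩, k1, Subtype.ext k2⟩)
    (S.pN.of_equiv (subgroupOfEquivOfLe S.NK).symm)
    (eq_bot_iff.2 fun g hg => mem_bot.2 (Subtype.ext (mem_bot.1 (S.NL.le ⟨hg.1, hg.2.1⟩))))
    (eq_top_iff.2 fun g _ => by
      obtain ⟨n, hn, l, hl, e⟩ := fac g g.2
      rw [show g = ⟨n, S.NK hn⟩ * ⟨l, ev_mono S.LK hl⟩ from Subtype.ext e]
      exact mul_mem (mem_sup_left hn) (mem_sup_right hl))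
    (by rwa [← orderOf_coe]) (fun l hl => mem_centralizer_singleton_iff.2 (Subtype.ext (xc l hl)))
    (fun n hn h => fix n hn h) ψ.2 e
  obtain ⟨η, rfl⟩ : ∃ η : IrrCharacter (ev π K), η₀ = η.1 := ⟨⟨η₀, a⟩, rfl⟩
  have u : ∀ χ : IrrCharacter N, (∀ y (hy : y ∈ Z), χ.1 ⟨y, S.ZN hy⟩ = -χ.1 1 ↔
      ψ.1 ⟨y, S.NK (S.ZN hy)⟩ = -ψ.1 1) → θ.1 = χ.1 := fun χ hχ =>
    uniq_cam (Z.subgroupOf N) zN (fun y hy => Subtype.ext (S.Z2 y hy)) (z := ⟨z, S.ZN zZ⟩) zZ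
      (fun g hg => by
        obtain ⟨g', k1, k2⟩ := cam g g.2 hg z zZ
        exact ⟨⟨g', k1⟩, Subtype.ext k2⟩) θ.2 χ.2 ((sθ z zZ).1 e)
      fun y hy => (sθ y hy).symm.trans (hχ y hy).symm
  have r : IsIrrCharacter N fun n => η.1 ⟨n, S.NK n.2⟩ :=
    H11.isIrrCharacter_comp_mulEquiv b (subgroupOfEquivOfLe S.NK).symm
  have e1 : ∀ n : N, η.1 ⟨n, S.NK n.2⟩ = θ.1 n := fun n =>
    (congrFun (u ⟨_, r⟩ fun y hy => c ⟨y, S.NK (S.ZN hy)⟩ hy) n).symm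
  have e2 : ∀ n : N, (tw π (S.LK hγ) η).1 ⟨n, S.NK n.2⟩ = θ.1 n := fun n => by
    have k := u (bar (cj N ⟨γ, S.nN (S.LK hγ)⟩ θ)) fun y hy => by
      rw [bar_apply, bar_apply, cj_apply_one, cj_apply_of_eq _ θ (g := ⟨y, S.ZN hy⟩) (by
        change y = γ * y * γ⁻¹
        rw [S.Zc y hy γ (S.LK hγ), mul_inv_cancel_right]), ← map_neg, sθ y hy]
      exact (starRingEnd ℂ).injective.eq_iff
    rw [k]
    exact congrArg conj (e1 (cjAut N (⟨γ, S.nN (S.LK hγ)⟩ : normalizer (N : Set G))⁻¹ n))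
  obtain ⟨η₁, φ, k1, k2, k3, k4⟩ := exists_sc S.NK S.nN S.LK fac S.NL hγ hx xc
    (by rw [xl γ hγ, ho]; simp) e1 e2 d
  rw [eps_eq_one h1 h2 h3 S.NK S.nN S.LK fac hγ ho hNB k1 k2 k3 k4 hs hθ] at hψ
  norm_num at hψ

end Cfsg.Agent.H72.FS2
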