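import Cfsg.Agent.H63.A8Defs

/-!
# A standard subgroup of type `A₈`: the fusion pattern of outer involutions
-/

set_option autoImplicit false

namespace Cfsg.Agent.H72.A8P

open Cfsg Cfsg.Agent.H63 Cfsg.Agent.H63.SL Cfsg.Agent.H63.WR Subgroup Cfsg.Agent.H63.A8
open Equiv (swap)
open Equiv.Perm (sign)

universe u

/-- Codes of an elementary abelian group of order `32`. -/
abbrev Cd : Type := Bool × Fin 16

def ad (x y : Cd) : Cd := (xor x.1 y.1, x.2 ^^^ y.2)

/-- The pattern of the class. -/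
def Y (b : Fin 5 → Bool) (e : Bool) (n : ℕ) : Bool :=
  if e then (n == 0 || (n == 2 && b 2) || (n == 4 && b 4) || (n == 6 && b 3))
  else ((n == 2 && b 0) || (n == 6 && b 1))

def cnt (Z : Cd → Bool) (d : Cd) : ℕ :=
  ∑ x : Cd, ∑ y : Cd, if (Z x && Z y && Z (ad (ad x y) d)) = true then 1 else 0

def nb (k : Fin 16) : ℕ := 2 * (k.1 % 2 + k.1 / 2 % 2 + k.1 / 4 % 2 + k.1 / 8)
def nvb (k : Fin 16) : ℕ := (if k.1 % 4 = 0 then 0 else 4) + 2 * (k.1 / 4 % 2 + k.1 / 8)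
def nv (k : Fin 16) : ℕ := (if k.1 % 4 = 0 then 0 else 4) + (if k.1 / 4 = 0 then 0 else 4)

def sel (a1 a3 b1 b3 bw : Bool) : Cd :=
  if bw then (if a1 && a3 && b1 && b3 then (false, 1) else (true, 3))
  else (if a1 then (false, 1) else (false, 7))

theorem fin_check : ∀ a1 a3 b1 b3 bw : Bool, (a1 || a3) = true → (b1 || b3) = true →
    Y ![a1, a3, b1, b3, bw] (sel a1 a3 b1 b3 bw).1 (nb (sel a1 a3 b1 b3 bw).2) = true ∧
    sel a1 a3 b1 b3 bw ≠ (false, 0) ∧
    cnt (fun x => Y ![a1, a3, b1, b3, bw] x.1 (nb x.2)) (sel a1 a3 b1 b3 bw) ≠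
      cnt (fun x => Y ![a1, a3, b1, b3, bw] x.1 (nb x.2)) (true, 0) ∧
    cnt (fun x => Y ![a1, a3, b1, b3, bw] x.1 (nb x.2)) (sel a1 a3 b1 b3 bw) ≠
      cnt (fun x => Y ![a1, a3, b1, b3, bw] x.1 (nvb x.2)) (true, 0) ∧
    cnt (fun x => Y ![a1, a3, b1, b3, bw] x.1 (nb x.2)) (sel a1 a3 b1 b3 bw) ≠
      cnt (fun x => Y ![a1, a3, b1, b3, bw] x.1 (nv x.2)) (true, 0) := by
  decide +kernel

theorem bb_mul : ∀ k l : Fin 16, bb (k ^^^ l) = bb k * bb l := by decide +kernel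
theorem vb_mul : ∀ k l : Fin 16, vb (k ^^^ l) = vb k * vb l := by decide +kernel
theorem vv_mul : ∀ k l : Fin 16, (vv (k ^^^ l)).1 = (vv k).1 * (vv l).1 := by decide +kernel
theorem bb_n : ∀ k : Fin 16, (bb k).support.card = nb k := by decide +kernel
theorem vb_n : ∀ k : Fin 16, (vb k).support.card = nvb k := by decide +kernel
theorem vv_n : ∀ k : Fin 16, ((vv k).1).support.card = nv k := by decide +kernel
theorem bb_inj : ∀ k : Fin 16, bb k = 1 → k = 0 := by decide +kernel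
theorem ad_self : ∀ x : Cd, ad x x = (false, 0) := by decide +kernel
theorem ad_eq : ∀ x y d : Cd, ad x y = d → y = ad x d := by decide +kernel
theorem ad_ne : ∀ x d : Cd, d ≠ (false, 0) → x ≠ ad x d := by decide +kernel
theorem ad_comm : ∀ x y : Cd, ad x y = ad y x := by decide +kernel

end Cfsg.Agent.H72.A8P
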