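import Cfsg.Agent.H74.CksDefs

/-!
# The torus of a split `BN`-pair: generation by the rank one tori, and faithfulness
-/

set_option autoImplicit false

namespace Cfsg.Agent.H72.CkTgen

open Cfsg Cfsg.Agent.H35 Cfsg.Agent.H35.BN Cfsg.Agent.H74.Cks

variable {G : Type} [Group G] {p n : ℕ} (S : Sys G p n)

theorem sN (i : Fin n) : S.s i ∈ S.bn.N := S.bn.subset (S.e i).2

theorem cT {m t : G} (hm : m ∈ S.bn.N) (ht : t ∈ S.T) : m⁻¹ * t * m ∈ S.T :=
  Subgroup.mem_inf.2 ⟨conj_mem_B hm ht, mul_mem (mul_mem (inv_mem hm) ht.2) hm⟩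

theorem cX {i : Fin n} {t y : G} (ht : t ∈ S.T) (hy : y ∈ S.X i) : t * y * t⁻¹ ∈ S.X i :=
  (Subgroup.mem_normalizer_iff.1 (S.X_T i ht) y).1 hy

theorem cU {b u : G} (hb : b ∈ S.B) (hu : u ∈ S.U) : b⁻¹ * u * b ∈ S.U :=
  S.sp.conj_mem (B_le_PJ _ hb) hu

theorem cL {i k : Fin n} {m : G} (hm : m ∈ S.bn.N) (h1 : ∀ y ∈ S.X i, m⁻¹ * y * m ∈ S.X k)
    (h2 : S.w i * mkW S.bn m hm = mkW S.bn m hm * S.w k) : ∀ y ∈ S.L i, m⁻¹ * y * m ∈ S.L k := by
  have h3 : (m * S.s k)⁻¹ * (S.s i * m) ∈ S.T :=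
    Subgroup.mem_inf.2 ⟨(mkW_eq_iff (mul_mem hm (sN S k)) (mul_mem (sN S i) hm)).1 h2.symm,
      mul_mem (inv_mem (mul_mem hm (sN S k))) (mul_mem (sN S i) hm)⟩
  have : S.L i ≤ cj m (S.L k) := by
    refine sup_le (fun y hy => mem_cj.2 (Subgroup.mem_sup_left (h1 y hy))) ?_
    rintro _ ⟨y, hy, rfl⟩
    refine mem_cj.2 (Subgroup.mem_sup_right ⟨_, cX S h3 (h1 y hy), ?_⟩)
    simp only [MulEquiv.coe_toMonoidHom, MulAut.conj_apply]
    group
  exact fun y hy => mem_cj.1 (this hy)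

theorem tL {i : Fin n} {t y : G} (ht : t ∈ S.T) (hy : y ∈ S.L i) : t⁻¹ * y * t ∈ S.L i := by
  refine cL S ht.2 (fun y hy => by simpa using cX S (inv_mem ht) hy) ?_ y hy
  rw [(mkW_eq_one_iff ht.2).2 ht.1, mul_one, one_mul]

/-- **FAITH** -/
theorem faith (hb : Bas1Stmt) : FaithStmt := by
  intro G _ _ _ p n _ S hn t ht h
  obtain ⟨-, -, -, -, -, -, -, -, -, -, -, -, hP, h1, -, -, hL, -⟩ := hb S
  set C := Subgroup.centralizer ({t} : Set G)
  have mC : ∀ g, g ∈ C ↔ g * t = t * g := fun g => Subgroup.mem_centralizer_singleton_iff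
  have hX : ∀ i, S.X i ≤ C := fun i y hy => (mC y).2 (h i y hy).symm
  have hs : ∀ i, S.s i ∈ C := by
    intro i
    refine (sup_le (fun a ha => (mC a).2 (S.comm a ha t ht)) (sup_le (hX i) ?_) :
      _ ≤ C) (S.s_mem i)
    intro z hz
    have hz' := hL {i} i (Finset.mem_singleton_self i) (Subgroup.mem_sup_right hz)
    obtain ⟨y0, hy0, e⟩ := hz
    have h2 : S.s i * S.s i ∈ S.T := ⟨S.bn.sq_mem _ (S.e i).2, mul_mem (sN S i) (sN S i)⟩
    have hy := cX S h2 hy0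
    set y := S.s i * S.s i * y0 * (S.s i * S.s i)⁻¹ with hy'
    have ez : z = (S.s i)⁻¹ * y * S.s i := by
      rw [← e, hy']
      simp only [MulEquiv.coe_toMonoidHom, MulAut.conj_apply]
      group
    clear_value y
    rcases (hP i z).1 hz' with hB | ⟨x, hx, b, hB, ex⟩
    · rw [ez, h1 i y hy (ez ▸ hB)]
      simpa using one_mem C
    · have t1 := cT S (inv_mem (sN S i)) ht
      have t2 := cT S (sN S i) ht
      have a := h1 i _ (mul_mem (inv_mem hy) (cX S t1 hy)) (by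
        have : (S.s i)⁻¹ * (y⁻¹ * ((S.s i)⁻¹⁻¹ * t * (S.s i)⁻¹ * y *
            ((S.s i)⁻¹⁻¹ * t * (S.s i)⁻¹)⁻¹)) * S.s i = z⁻¹ * (t * z) * t⁻¹ := by
          rw [ez]; group
        rw [this, ex, ← mul_assoc t, ← mul_assoc t, h i x hx]
        have : (x * S.s i * b)⁻¹ * (x * t * S.s i * b) * t⁻¹ =
            b⁻¹ * ((S.s i)⁻¹ * t * S.s i) * b * t⁻¹ := by group
        rw [this]
        exact mul_mem (mul_mem (mul_mem (inv_mem hB) t2.1) hB) (inv_mem ht.1))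
      rw [mC, ez]
      calc _ = (S.s i)⁻¹ * y * (y⁻¹ * ((S.s i)⁻¹⁻¹ * t * (S.s i)⁻¹ * y *
            ((S.s i)⁻¹⁻¹ * t * (S.s i)⁻¹)⁻¹)) * S.s i * t := by rw [a, mul_one]
        _ = _ := by group
  have key : ∀ w : W S.bn, ∀ g ∈ cell S.bn w, ∃ c ∈ C, c⁻¹ * g ∈ S.B := by
    intro w
    refine (gens S.bn).induction_left (p := fun w => ∀ g ∈ cell S.bn w, ∃ c ∈ C, c⁻¹ * g ∈ S.B)
      w (fun g hg => ⟨1, one_mem _, by simpa using mem_cell_one.1 hg⟩) fun i w _ ih g hg => ?_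
    obtain ⟨i, rfl⟩ := S.e.surjective i
    obtain ⟨x, hx, g', hg', rfl⟩ := exists_mul_of_mem_cell hg
    obtain ⟨y, hy, hB⟩ := S.cell i x hx
    obtain ⟨c, hc, h3⟩ := ih _ (mul_mem_cell_left (inv_mem hB) hg')
    refine ⟨y * S.s i * c, mul_mem (mul_mem (hX i hy) (hs i)) hc, ?_⟩
    convert h3 using 1
    group
  have hc : t ∈ S.B.normalCore := by
    intro g
    obtain ⟨c, hc, h3⟩ := key _ _ (mem_cell_bruhat (P := S.bn) g⁻¹)
    have : g * t * g⁻¹ = (c⁻¹ * g⁻¹)⁻¹ * t * (c⁻¹ * g⁻¹) := by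
      calc _ = g * (t * c) * (c⁻¹ * g⁻¹) := by group
        _ = _ := by rw [← (mC c).1 hc]; group
    rw [this]
    exact mul_mem (mul_mem (inv_mem h3) ht.1) h3
  rcases (inferInstance : S.B.normalCore.Normal).eq_bot_or_eq_top with h0 | h0
  · rwa [h0, Subgroup.mem_bot] at hc
  · exact absurd (S.B.normalCore_le (h0 ▸ Subgroup.mem_top _)) (s_not_mem_B (S.e ⟨0, hn⟩))

/-- The subgroup generated by `U` and the rank one groups is everything. -/
theorem sup_eq_top [IsSimpleGroup G] {i : Fin n} (hi : S.X i ≠ ⊥) : S.U ⊔ ⨆ i, S.L i = ⊤ := by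
  set K := S.U ⊔ ⨆ i, S.L i
  have h1 : ∀ t ∈ S.T, ∀ g ∈ K, t⁻¹ * g * t ∈ K := by
    intro t ht
    have : K ≤ cj t K := sup_le (fun u hu => mem_cj.2 (Subgroup.mem_sup_left (cU S ht.1 hu)))
      (iSup_le fun i y hy => mem_cj.2
        (Subgroup.mem_sup_right (Subgroup.mem_iSup_of_mem i (tL S ht hy))))
    exact fun g hg => mem_cj.1 (this hg)
  have h2 : S.T ≤ Subgroup.normalizer (K : Set G) := fun t ht =>
    Subgroup.mem_normalizer_iff.2 fun g =>
      ⟨fun hg => by simpa using h1 _ (inv_mem ht) g hg, fun hg => by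
        simpa [mul_assoc] using h1 _ ht _ hg⟩
  have h3 : ⊤ ≤ Subgroup.normalizer (K : Set G) := by
    rw [← parabolic_S (P := S.bn), parabolic_le_iff]
    refine ⟨S.sp.B_eq.le.trans (sup_le (le_sup_left.trans Subgroup.le_normalizer) h2),
      fun s hs => ?_⟩
    obtain ⟨j, hj⟩ := S.e.surjective ⟨s, hs⟩
    have := (sup_le h2 (((le_iSup S.L j).trans le_sup_right).trans Subgroup.le_normalizer))
      (S.s_mem j)
    rwa [hj] at this
  have : K.Normal := Subgroup.normalizer_eq_top_iff.1 (top_le_iff.1 h3)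
  refine this.eq_bot_or_eq_top.resolve_left fun h => hi (eq_bot_iff.2 ?_)
  rw [← h]
  exact (le_sup_left.trans (le_iSup S.L i)).trans le_sup_right

/-- **TGEN** -/
theorem tgen (hb : Bas1Stmt) : TgenStmt := by
  intro G _ _ _ p n _ S hn
  obtain ⟨-, -, -, -, hUT, -, -, -, -, hQ, hX, -, hP, -, hLB, hm, hL, -⟩ := hb S
  set T1 := ⨆ i, S.T ⊓ S.L i
  have hT1 : T1 ≤ S.T := iSup_le fun i => inf_le_left
  have mT1 : ∀ i, ∀ t ∈ S.T, t ∈ S.L i → t ∈ T1 := fun i t h1 h2 =>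
    Subgroup.mem_iSup_of_mem i ⟨h1, h2⟩
  choose τ hτ hτL using hm
  obtain ⟨m, hm⟩ : ∃ m : S.bn.S → G, ∀ i, m (S.e i) = S.s i * τ i :=
    ⟨fun s => S.s (S.e.symm s) * τ (S.e.symm s), fun i => by simp⟩
  have mL : ∀ i, m (S.e i) ∈ S.L i := fun i => hm i ▸ hτL i
  have mN : ∀ s, m s ∈ S.bn.N := fun s => by
    obtain ⟨i, rfl⟩ := S.e.surjective s
    exact hm i ▸ mul_mem (sN S i) (hτ i).2
  have mW : ∀ s, mkW S.bn (m s) (mN s) = (gens S.bn).s s := fun s => by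
    obtain ⟨i, rfl⟩ := S.e.surjective s
    refine ((mkW_eq_iff (sN S i) (mN _)).2 ?_).symm
    rw [hm, inv_mul_cancel_left]
    exact (hτ i).1
  set M : List S.bn.S → G := fun l => (l.map m).prod with hM
  have Mc : ∀ s l, M (s :: l) = m s * M l := fun s l => by simp [hM]
  have Ma : ∀ l l', M (l ++ l') = M l * M l' := fun l l' => by simp [hM]
  have MN : ∀ l, M l ∈ S.bn.N := fun l => by
    induction l with
    | nil => exact one_mem _
    | cons s l ih => exact Mc s l ▸ mul_mem (mN s) ih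
  have MW : ∀ l, mkW S.bn (M l) (MN l) = (gens S.bn).wp l := fun l => by
    induction l with
    | nil => rfl
    | cons s l ih =>
      rw [InvGen.wp_cons, ← ih, ← mW]
      exact congrArg QuotientGroup.mk (Subtype.ext (Mc s l))
  have MT : ∀ l, ∀ t ∈ T1, (M l)⁻¹ * t * M l ∈ T1 := fun l => by
    induction l with
    | nil => exact fun t ht => by simpa [hM] using ht
    | cons s l ih =>
      intro t ht
      obtain ⟨i, rfl⟩ := S.e.surjective s
      have h1 := mT1 i (t⁻¹ * (m (S.e i))⁻¹ * t * m (S.e i)) (by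
        simpa [mul_assoc] using mul_mem (inv_mem (hT1 ht)) (cT S (mN (S.e i)) (hT1 ht)))
        (mul_mem (tL S (hT1 ht) (inv_mem (mL i))) (mL i))
      convert ih _ (mul_mem ht h1) using 1
      rw [Mc]
      group
  set B1 := S.U ⊔ T1
  let G2 : G → Prop := fun g =>
    ∃ u ∈ S.U, ∃ l, (gens S.bn).IsRed l ∧ ∃ b ∈ B1, g = u * M l * b
  have key1 : ∀ i l, (gens S.bn).IsRed (S.e i :: l) → ∀ y ∈ S.L i, ∀ b ∈ B1, G2 (y * M l * b) := by
    intro i l hl y hy b hb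
    have h1 : S.L i ⊓ S.B ≤ cj (M l) B1 := by
      rw [hLB]
      refine sup_le (fun x hx => mem_cj.2 (Subgroup.mem_sup_left
        (S.conj i _ (MN l) ?_ ∅ (fun h => ?_) x hx))) fun t ht =>
          mem_cj.2 (Subgroup.mem_sup_right (MT l t (mT1 i t ht.1 ht.2)))
      · rw [MW, hl.len_cons]
        omega
      · have h2 : (mkW S.bn (M l) (MN l))⁻¹ * (gens S.bn).s (S.e i) * mkW S.bn (M l) (MN l) = 1 := by
          simpa [WJ] using h
        exact gens_s_ne_one (S.e i) (by simpa [mul_assoc, inv_mul_eq_one] using h2)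
    rcases (hP i y).1 (hL {i} i (Finset.mem_singleton_self i) hy) with hB | ⟨x, hx, c, hc, e⟩
    · exact ⟨1, one_mem _, l, hl.tail, _, mul_mem (mem_cj.1 (h1 ⟨hy, hB⟩)) hb, by group⟩
    · have h2 : (m (S.e i))⁻¹ * x⁻¹ * y ∈ S.L i ⊓ S.B :=
        Subgroup.mem_inf.2 ⟨mul_mem (mul_mem (inv_mem (mL i)) (inv_mem (Subgroup.mem_sup_left hx))) hy, by
          have : (m (S.e i))⁻¹ * x⁻¹ * y = (τ i)⁻¹ * c := by rw [hm, e]; group
          exact this ▸ mul_mem (inv_mem (hτ i).1) hc⟩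
      exact ⟨x, (hX i).1 ▸ Subgroup.mem_sup_left hx, _, hl, _, mul_mem (mem_cj.1 (h1 h2)) hb, by
        rw [Mc]; group⟩
  have keyU : ∀ u ∈ S.U, ∀ g, G2 g → G2 (u * g) := by
    rintro u hu _ ⟨u', hu', l, hl, b, hb, rfl⟩
    exact ⟨_, mul_mem hu hu', l, hl, b, hb, by group⟩
  have key2 : ∀ i, ∀ y ∈ S.L i, ∀ g, G2 g → G2 (y * g) := by
    rintro i y hy _ ⟨u, hu, l, hl, b, hb, rfl⟩
    have hn : S.L i ≤ Subgroup.normalizer (S.Q {i} : Set G) :=
      (hL {i} i (Finset.mem_singleton_self i)).trans (S.sp.U_normal _)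
    have hu' : u ∈ ((S.Q {i} ⊔ S.X i : Subgroup G) : Set G) := by rwa [sup_comm, (hX i).1]
    rw [Subgroup.coe_mul_of_right_le_normalizer_left _ _ (le_sup_left.trans hn)] at hu'
    obtain ⟨q, hq, x, hx, rfl⟩ := hu'
    have hq' := hQ _ ((Subgroup.mem_normalizer_iff.1 (hn hy) q).1 hq)
    have hy' := mul_mem hy (Subgroup.mem_sup_left hx)
    suffices G2 (y * x * M l * b) by
      convert keyU _ hq' _ this using 1
      group
    by_cases hi : (gens S.bn).len ((gens S.bn).wp l) <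
        (gens S.bn).len ((gens S.bn).s (S.e i) * (gens S.bn).wp l)
    · exact key1 i l (hl.cons hi) _ hy' b hb
    obtain ⟨a, j, c, rfl, e⟩ := exchange S.bn (S.e i) l hl (by rw [← hl]; omega)
    obtain ⟨j, rfl⟩ := S.e.surjective j
    have ha : (gens S.bn).IsRed (a ++ [S.e j]) :=
      InvGen.IsRed.left (l' := c) (by simpa using hl)
    have e' := e
    rw [← MW] at e'
    have h1 := cL S (MN a) (S.conjS i j _ (MN a) (by
      rw [MW, e, ← InvGen.wp_concat, ha, ha.left]; simp) e') e' _ (mL i)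
    have h2 : (M a * m (S.e j))⁻¹ * (m (S.e i) * M a) ∈ T1 := by
      refine mT1 j _ (Subgroup.mem_inf.2 ⟨(mkW_eq_iff (mul_mem (MN a) (mN _)) (mul_mem (mN _) (MN a))).1 ?_,
        mul_mem (inv_mem (mul_mem (MN a) (mN _))) (mul_mem (mN _) (MN a))⟩) ?_
      · rw [mkW_mul (MN a) (mN _), mkW_mul (mN _) (MN a), mW, mW, e']
      · simpa [mul_assoc] using mul_mem (inv_mem (mL j)) h1
    have h3 : (gens S.bn).IsRed (S.e i :: (a ++ c)) := by
      refine (gens S.bn).isRed_of_length_le ?_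
      have : (gens S.bn).wp (S.e i :: (a ++ c)) = (gens S.bn).wp (a ++ S.e j :: c) := by
        simp [← mul_assoc, e]
      rw [this, hl]
      simp
    convert key1 i _ h3 _ (mul_mem hy' (mL i)) _
      (mul_mem (Subgroup.mem_sup_right (MT c _ (inv_mem h2))) hb) using 1
    rw [Ma, Ma, Mc]
    group
  let K : Subgroup G :=
    { carrier := {g | ∀ h, G2 h ↔ G2 (g * h)}
      one_mem' := fun h => by rw [one_mul]
      mul_mem' := fun {a b} ha hb h => by rw [mul_assoc, ← ha, ← hb]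
      inv_mem' := fun {a} ha h => by rw [ha (a⁻¹ * h), mul_inv_cancel_left] }
  have hK : ∀ A : Subgroup G, (∀ y ∈ A, ∀ g, G2 g → G2 (y * g)) → A ≤ K := fun A hA y hy g =>
    ⟨hA y hy g, fun h => by simpa using hA _ (inv_mem hy) _ h⟩
  have top : ⊤ ≤ K := by
    rw [← sup_eq_top S (hX ⟨0, hn⟩).2.2.1]
    exact sup_le (hK _ keyU) (iSup_le fun i => hK _ (key2 i))
  intro t ht
  obtain ⟨u, hu, l, hl, b, hb, e⟩ := (top (Subgroup.mem_top t) 1).1
    ⟨1, one_mem _, [], (gens S.bn).isRed_nil, 1, one_mem _, by simp [hM]⟩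
  have hB : B1 ≤ S.B := sup_le (S.sp.U_le _) (hT1.trans inf_le_left)
  have h1 : (gens S.bn).wp l = 1 := by
    rw [← MW, mkW_eq_one_iff]
    have : M l = u⁻¹ * (t * 1) * b⁻¹ := by rw [e]; group
    exact this ▸ mul_mem (mul_mem (inv_mem (S.sp.U_le _ hu)) (mul_mem ht.1 (one_mem _)))
      (inv_mem (hB hb))
  obtain rfl : l = [] := List.length_eq_zero_iff.1 (by rw [← hl, h1, InvGen.len_one])
  have h2 : t ∈ (B1 : Set G) := by
    rw [← mul_one t, e]
    exact mul_mem (mul_mem (Subgroup.mem_sup_left hu) (one_mem _)) hb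
  rw [Subgroup.coe_mul_of_right_le_normalizer_left _ _
    ((hT1.trans inf_le_left).trans ((B_le_PJ _).trans (S.sp.U_normal ∅)))] at h2
  obtain ⟨v, hv, t', ht', e'⟩ := h2
  have h3 : v ∈ S.U ⊓ S.T := Subgroup.mem_inf.2 ⟨hv, by
    have : v = t * t'⁻¹ := by rw [← e']; simp
    exact this ▸ mul_mem ht (inv_mem (hT1 ht'))⟩
  rw [hUT, Subgroup.mem_bot] at h3
  rw [← e', h3]
  simpa using ht'

end Cfsg.Agent.H72.CkTgen
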