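import Cfsg.Agent.H96.D4Defs

/-!
Fusion systems over the Sylow subgroup of `³D₄(q)`: the essential subgroups contained in `Q`.
-/

set_option autoImplicit false

namespace Cfsg.Agent.H72.D4CQ

open Cfsg.Agent.H97 Cfsg.Agent.H96.VB Cfsg.Agent.H96.CP Cfsg.Agent.H96.DF Subgroup Module
open scoped commutatorElement

universe u

variable {F K : Type u} [Field F] [Field K] [Algebra F K] {C : Tri F K}

variable (C) in
/-- the commutator form as a bilinear form -/
def omB : LinearMap.BilinForm F (V F K) :=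
  LinearMap.mk₂ F (om C) (fun _ _ _ => by simp [om, add_mul]; ring)
    (fun _ _ _ => by simp [om]; ring) (fun _ _ _ => by simp [om, mul_add]; ring)
    (fun _ _ _ => by simp [om]; ring)

theorem omB_apply (v w : V F K) : omB C v w = om C v w := rfl

theorem omB_ker [Finite K] : (omB C).ker = ⊥ := by
  refine (Submodule.eq_bot_iff _).2 fun v hv => ?_
  have h : ∀ w, om C v w = 0 := fun w => LinearMap.congr_fun hv w
  refine Prod.ext ?_ (Prod.ext (C.T_nd fun b => ?_) (Prod.ext (C.T_nd fun b => ?_) ?_))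
  · simpa [om] using h (0, 0, 0, 1)
  · simpa [om] using h (0, 0, b, 0)
  · simpa [om] using h (0, b, 0, 0)
  · simpa [om] using h (1, 0, 0, 0)

variable (C) in
/-- an element of `Q` with given image in `V` -/
def lf (v : V F K) : U C := ⟨0, v.2.2.2, v.2.2.1, v.2.1, v.1, 0⟩

theorem lf_mem (v : V F K) : lf C v ∈ Q C := rfl

theorem br_lf (v : V F K) : br (lf C v) = v := rfl

theorem xz_comm (z : F) (g : U C) : xz C z * g = g * xz C z := by
  ext <;> simp [xz, add_comm]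

theorem xz_eq_one {z : F} : xz C z = 1 ↔ z = 0 :=
  ⟨fun h => congrArg U.z h, fun h => by rw [h]; rfl⟩

theorem xz_mem (z : F) : xz C z ∈ Z C := ⟨rfl, rfl, rfl, rfl, rfl⟩

theorem eq_xz {g : U C} (h : g ∈ Z C) : g = xz C g.z := by
  obtain ⟨h1, h2, h3, h4, h5⟩ := h
  ext <;> simp [xz, *]

theorem comm_iff {g h : U C} (hg : g ∈ Q C) (hh : h ∈ Q C) :
    g * h = h * g ↔ om C (br g) (br h) = 0 := by
  rw [← commutatorElement_eq_one_iff_mul_comm, comm_Q hg hh, xz_eq_one]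

theorem br_inv {g : U C} (hg : g ∈ Q C) : br g⁻¹ = -br g := by
  simp [br, mem_Q.1 hg]

theorem small [Finite K] (L : K →ₗ[F] K) (f : F → K) (h : ∀ t, ∃ z, f z = L t) (y : K)
    (hk : ∀ t, L t = 0 → ∃ c : F, c • y = t) (h3 : finrank F K = 3) : False := by
  classical
  have : Finite F := Finite.of_injective _ (algebraMap F K).injective
  have h1 : finrank F L.ker ≤ 1 :=
    (Submodule.finrank_mono (t := F ∙ y) fun t ht =>
      Submodule.mem_span_singleton.2 (hk t ht)).trans (by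
        simpa using finrank_span_le_card (R := F) ({y} : Set K))
  have h2 := L.finrank_range_add_finrank_ker
  choose g hg using h
  have h4 : Nat.card L.range ≤ Nat.card F :=
    Nat.card_le_card_of_surjective (fun z : F => if k : f z ∈ L.range then ⟨f z, k⟩ else 0) <| by
      rintro ⟨_, t, rfl⟩
      exact ⟨g t, by simp [hg]⟩
  rw [natCard_eq_pow_finrank (K := F)] at h4
  have h5 : 1 < Nat.card F := Finite.one_lt_card
  exact absurd h4 (not_le.2 (lt_self_pow₀ h5 (by omega)))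

theorem onto [Finite K] (S : Submodule F (V F K)) (hS : ∀ v ∈ S, ∀ w ∈ S, om C v w = 0)
    (v : V F K) (f : V F K → K) (hf : ∀ a b, om C a v = 0 → om C b v = 0 → f a = f b → b - a ∈ S)
    (t : K) : ∃ a, om C a v = 0 ∧ f a = t := by
  have : Finite F := Finite.of_injective _ (algebraMap F K).injective
  have h8 : finrank F (V F K) = 8 := by simp [V, C.finrank]
  have h1 := LinearMap.BilinForm.finrank_add_finrank_orthogonal' (B := omB C) S
  rw [omB_ker, inf_bot_eq, finrank_bot, h8] at h1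
  have h2 : finrank F S ≤ finrank F ((omB C).orthogonal S) :=
    Submodule.finrank_mono fun w hw u hu => hS u hu w hw
  obtain ⟨M, hM⟩ := S.exists_isCompl
  have h3 := Submodule.finrank_add_eq_of_isCompl hM
  let l : M →ₗ[F] F := ((omB C).flip v).comp M.subtype
  have h4 := l.finrank_range_add_finrank_ker
  have h5 : finrank F l.range ≤ 1 := by simpa using Submodule.finrank_le l.range
  have h6 : Nat.card K ≤ Nat.card l.ker := by
    rw [C.card, natCard_eq_pow_finrank (K := F) (V := l.ker)]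
    exact Nat.pow_le_pow_right Nat.card_pos (by omega)
  have h7 : Function.Injective fun a : l.ker => f a.1.1 := fun a b e => by
    have k := hf _ _ a.2 b.2 e
    have k2 := (Submodule.disjoint_def.1 hM.disjoint) _ k (sub_mem b.1.2 a.1.2)
    exact Subtype.ext (Subtype.ext (sub_eq_zero.1 k2).symm)
  obtain ⟨a, ha⟩ := (h7.bijective_of_nat_card_le h6).2 t
  exact ⟨a.1.1, a.2, ha⟩

theorem cq [Finite K] {p : ℕ} [Fact p.Prime] [CharP F p] : CQStmt C p := by
  intro P hP hQ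
  obtain ⟨A, B, h⟩ := hP.ex
  by_contra hne
  have hZ : ∀ z, xz C z ∈ P := fun z => h.cen _ fun x _ => xz_comm z x
  have hZ' : Z C ≤ P := fun g hg => eq_xz hg ▸ hZ _
  have nZ : ¬ Iv A (Z C) := fun k => hne <| le_antisymm hQ fun g hg =>
    h.chain [Z C] (by simpa using ⟨hZ', k⟩) g
      ⟨fun x hx => comm_Q hg (hQ hx) ▸ xz_mem _, fun x hx => by
        rw [eq_xz hx, commutatorElement_eq_one_iff_mul_comm, xz_comm]⟩
  let S : Submodule F (V F K) :=
    { carrier := {v | ∀ g, Ce P g → omB C (br g) v = 0}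
      zero_mem' := fun _ _ => map_zero _
      add_mem' := fun ha hb g hg => by rw [map_add, ha g hg, hb g hg, add_zero]
      smul_mem' := fun c _ ha g hg => by rw [map_smul, ha g hg, smul_zero] }
  have hS : ∀ g ∈ Q C, br g ∈ S → g ∈ P := fun g hg k =>
    h.chain [P ⊓ centralizer (P : Set (U C))] (by simpa using (Iv.of_ch Ch.self.cent).2) g
      ⟨fun x hx => comm_Q hg (hQ hx) ▸ ⟨hZ _, fun y _ => (xz_comm _ y).symm⟩, fun x hx => by
        rw [commutatorElement_eq_one_iff_mul_comm, eq_comm, comm_iff (hQ hx.1) hg]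
        exact k x ⟨hx.1, fun y hy => (hx.2 y hy).symm⟩⟩
  have hS' : ∀ g ∈ P, br g ∈ S := fun g hg x hx => (comm_iff (hQ hx.1) (hQ hg)).1 (hx.2 g hg)
  have sc : ∀ c ∈ Q C, ∀ x ∈ P, om C (br c) (br x) ≠ 0 → ∀ z, ∃ y ∈ P, ⁅c, y⁆ = xz C z :=
    fun c hc x hx k z => ⟨lf C ((z / om C (br c) (br x)) • br x),
      hS _ (lf_mem _) (S.smul_mem _ (hS' x hx)), by
        rw [comm_Q hc (lf_mem _), br_lf, ← omB_apply, map_smul, omB_apply, smul_eq_mul,
          div_mul_cancel₀ _ k]⟩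
  have ab : ∀ g ∈ P, ∀ x ∈ P, om C (br g) (br x) = 0 := fun g hg x hx => by
    by_contra k
    refine nZ fun α _ w _ hw => ?_
    obtain ⟨y, hy, e⟩ := sc g (hQ hg) x hx k w.z
    rw [eq_xz hw, ← e, ext_map_comm α hg hy, comm_Q (hQ (ext_mem α hg)) (hQ (ext_mem α hy))]
    exact xz_mem _
  obtain ⟨α, hα, w, hwP, hw, hv⟩ : ∃ α ∈ A, ∃ w ∈ P, w ∈ Z C ∧ ext α w ∉ Z C := by
    by_contra k
    push Not at k
    exact nZ k
  have hvP := ext_mem α hwP
  obtain ⟨γ, -, e1, e2⟩ := h.sylT α⁻¹ (inv_mem hα) _ hvP fun s _ => by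
    rw [ext_inv_ext, eq_xz hw, xz_comm]
  rw [ext_inv_ext] at e1
  generalize ext α w = v at hv hvP e1 e2
  have nQ : ∀ c ∈ Q C, ∃ β : MulAut P, Cj β c := fun c hc =>
    exists_cj (mem_normalizer_of_comm fun x hx => comm_Q hc (hQ hx) ▸ hZ _)
  have cm : ∀ β c s, c ∈ Q C → Cj β c → Cj (γ * β * γ⁻¹) s → ∀ x ∈ P,
      ⁅s, ext γ x⁆ = ext γ (xz C (om C (br c) (br x))) := fun β c s hc k1 k2 x hx => by
    have hx' := ext_mem γ hx
    rw [commutatorElement_def, ← k2 _ hx', ext_mul, ext_mul, ext_inv_ext, k1 x hx,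
      ← ext_map_inv γ hx, ← ext_map_mul γ (k1 x hx ▸ ext_mem β hx) (inv_mem hx),
      ← commutatorElement_def, comm_Q hc (hQ hx)]
  have inP : ∀ β c s, c ∈ Q C → Cj β c → Cj (γ * β * γ⁻¹) s → s ∈ Q C → c ∈ P := by
    intro β c s hc k1 k2 hs
    by_contra k
    obtain ⟨x, hx, k3⟩ : ∃ x ∈ P, om C (br c) (br x) ≠ 0 := by
      by_contra k3
      push Not at k3
      exact k (h.cen c fun x hx => (comm_iff hc (hQ hx)).2 (k3 x hx))
    have k4 : om C (br s) (br (ext γ x)) ≠ 0 := fun k4 => k3 <| by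
      have := cm β c s hc k1 k2 x hx
      rw [comm_Q hs (hQ (ext_mem γ hx)), k4, xz_eq_one.2 rfl, ← ext_map_one γ] at this
      exact xz_eq_one.1 (ext_injective γ this).symm
    obtain ⟨y, hy, e⟩ := sc s hs _ (ext_mem γ hx) k4 w.z
    have k5 := cm β c s hc k1 k2 _ (ext_mem γ⁻¹ hy)
    rw [ext_ext_inv, e, ← eq_xz hw, ← e1] at k5
    exact hv (ext_injective γ k5 ▸ xz_mem _)
  have ex : ∀ a : V F K, ∃ s : U C, om C a (br v) = 0 →
      ∃ β, Cj β (lf C a) ∧ Cj (γ * β * γ⁻¹) s := fun a => by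
    by_cases k : om C a (br v) = 0
    · obtain ⟨β, hβ⟩ := nQ _ (lf_mem a)
      obtain ⟨s, hs⟩ := e2 β _ hβ ((comm_iff (lf_mem a) (hQ hvP)).2 k)
      exact ⟨s, fun _ => ⟨β, hβ, hs⟩⟩
    · exact ⟨1, fun k' => absurd k' k⟩
  choose s hs using ex
  have all := onto S (fun a ha b hb => ab _ (hS _ (lf_mem a) ha) _ (hS _ (lf_mem b) hb)) (br v)
    (fun a => (s a).t) fun a b ha hb e => by
      obtain ⟨β, k1, k2⟩ := hs a ha
      obtain ⟨β', k1', k2'⟩ := hs b hb
      have k3 := hS' _ (inP (β⁻¹ * β') _ ((s a)⁻¹ * s b) (mul_mem (inv_mem (lf_mem a)) (lf_mem b))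
        (k1.inv.mul k1') (by convert k2.inv.mul k2' using 1; group)
        (by rw [mem_Q, U.mul_t, U.inv_t, e, neg_add_cancel]))
      rwa [br_mul (inv_mem (lf_mem a)), br_inv (lf_mem a), br_lf, br_lf, neg_add_eq_sub] at k3
  have mv : ∀ g ∈ P, ∀ t, ∃ z, br (ext γ (xz C z)) = ρ C t (br g) - br g := fun g hg t => by
    obtain ⟨a, ha, rfl⟩ := all t
    obtain ⟨β, k1, k2⟩ := hs a ha
    have k3 := cm β _ _ (lf_mem a) k1 k2 _ (ext_mem γ⁻¹ hg)
    rw [ext_ext_inv] at k3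
    exact ⟨_, by
      rw [← k3, commutatorElement_def, br_mul (H96.DF.nQ.conj_mem _ (hQ hg) _), br_conj _ (hQ hg),
        br_inv (hQ hg), sub_eq_add_neg]⟩
  have hu : ∀ g ∈ P, g.u = 0 := fun g hg => by
    by_contra k
    refine small (g.u • LinearMap.id) (fun z => (ext γ (xz C z)).y) (fun t => ?_) 0
      (fun t ht => ⟨0, ?_⟩) C.finrank
    · obtain ⟨z, hz⟩ := mv g hg t
      exact ⟨z, by simpa [br, ρ_apply, rmap] using congrArg (fun v => v.2.2.1) hz⟩
    · simpa [k, eq_comm] using ht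
  have hy : ∀ g ∈ P, g.y = 0 := fun g hg => by
    by_contra k
    refine small ⟨⟨C.cr g.y, C.cr_add _⟩, fun c => C.cr_smul c _⟩ (fun z => (ext γ (xz C z)).x)
      (fun t => ?_) g.y (fun t ht => ?_) C.finrank
    · obtain ⟨z, hz⟩ := mv g hg t
      exact ⟨z, by
        simpa [br, ρ_apply, rmap, hu g hg, C.cr_comm t] using congrArg (fun v => v.2.1) hz⟩
    · obtain ⟨c, e, -⟩ := C.cr_eq_zero k ht
      exact ⟨c, e.symm⟩
  have hY : ∀ g ∈ P, g ∈ Y C := fun g hg => ⟨hQ hg, hu g hg, hy g hg⟩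
  have hW : W C ≤ P := fun g hg => h.cen g fun x hx => (comm_iff hg.1 (hQ hx)).2 (by
    simp [om, br, hu x hx, hy x hx, hg.2.1, hg.2.2.1])
  have : xt C 1 ∈ P := h.chain [W C]
    (by simpa using ⟨hW, fun δ hδ x hx k => h.g1 x k _ (hY _ (ext_mem δ hx)) (Rel.ext hδ hx)⟩) _
    ⟨fun x hx => by
      simp [mem_W, comm_y, comm_x, mem_Q.1 (hQ hx), hu x hx, hy x hx], fun x hx => by
      obtain ⟨h1, h2, h3, h4⟩ := hx
      rw [commutatorElement_eq_one_iff_mul_comm]
      ext <;> simp [xt, h1, h2, h3, h4]⟩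
  exact one_ne_zero (mem_Q.1 (hQ this))

end Cfsg.Agent.H72.D4CQ
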