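import Cfsg.Agent.H56.HLDefs

/-! Project HL (S3727): piece B4b (absolute points in the Fano plane). -/

set_option autoImplicit false
set_option linter.unusedSectionVars false

namespace Cfsg.Agent.H72.HLb

open MulAction Subgroup Cfsg.Agent.H83 Cfsg.Agent.H56.TT Cfsg.Agent.H56.HL
open scoped Cfsg.Agent.H63

universe u v

section loc
variable {G : Type u} [Group G] [Finite G] {N : Subgroup G} {q : ℕ}

theorem flag_inj (k : Kit N q) {X Y X' Y' : Subgroup G} (h : Adj N q X Y) (h' : Adj N q X' Y')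
    (hs : Same N X X') (e : X ⊔ Y = X' ⊔ Y') : X = X' ∧ Y = Y' := by
  have h1 : X' = X := by
    rcases k.ka.inU h h'.vl (e ▸ le_sup_left) with h1 | h1
    · exact h1
    · exact absurd (h1 ▸ hs) (k.l3.fa h).ns
  refine ⟨h1.symm, ?_⟩
  rcases k.ka.inU h h'.vr (e ▸ le_sup_right) with h2 | h2
  · exact absurd (h1.trans h2.symm) h'.ne
  · exact h2.symm

/-- a polarity of the Fano plane has at most four absolute points -/
theorem abs_le (k : Kit N 2) {E F : Subgroup G} (hEF : Adj N 2 E F) {z : G} (hz : z ∈ N[N])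
    (z2 : z * z = 1) :
    Set.ncard {P | Same N E P ∧ Adj N 2 P (cj z P)} ≤ 4 := by
  classical
  have zz : ∀ P : Subgroup G, cj z (cj z P) = P := fun P => by rw [← cj_mul, z2, cj_one]
  have one : ∀ {P P' : Subgroup G}, Adj N 2 P (cj z P) → Adj N 2 P' (cj z P') →
      Adj N 2 P' (cj z P) → P' = P := by
    intro P P' h1 h2 h3
    by_contra hne
    have h4 : Adj N 2 P (cj z P') := by
      have := (h3.cj hz).symm
      rwa [zz] at this
    exact hne (cj_inj.1 (k.ka.uniq hne h3 h1 h2 h4)).symm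
  set A := {P | Same N E P ∧ Adj N 2 P (cj z P)} with hA
  by_cases hs : A.Subsingleton
  · exact (Set.ncard_le_one_iff_subsingleton.2 hs).trans (by norm_num)
  rw [Set.not_subsingleton_iff] at hs
  obtain ⟨P, ⟨sP, aP⟩, P', ⟨sP', aP'⟩, hne⟩ := hs
  obtain ⟨X1, a1, n1, -⟩ := k.ka.third aP aP
  obtain ⟨X2, a2, n2, n12⟩ := k.ka.third aP a1
  obtain ⟨Y1, b1, m1, -⟩ := k.ka.third aP' aP'
  obtain ⟨Y2, b2, m2, m12⟩ := k.ka.third aP' b1
  have hL : cj z P ≠ cj z P' := fun e => hne (cj_inj.1 e)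
  obtain ⟨Y, b, m, y1, y2⟩ : ∃ Y, Adj N 2 Y (cj z P') ∧ Y ≠ P' ∧ Y ≠ X1 ∧ Y ≠ X2 := by
    by_cases hY : Adj N 2 Y1 (cj z P)
    · have hY2 : ¬ Adj N 2 Y2 (cj z P) := fun hY2 => hL (k.ka.uniq m12 hY2 hY b2 b1)
      exact ⟨Y2, b2, m2, fun e => hY2 (e ▸ a1), fun e => hY2 (e ▸ a2)⟩
    · exact ⟨Y1, b1, m1, fun e => hY (e ▸ a1), fun e => hY (e ▸ a2)⟩
  have hc : ({X1, X2, Y} : Set (Subgroup G)).ncard = 3 :=
    Set.ncard_eq_three.2 ⟨X1, X2, Y, n12.symm, y1.symm, y2.symm, rfl⟩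
  have hd : Disjoint A {X1, X2, Y} := by
    rw [Set.disjoint_right]
    rintro W (rfl | rfl | rfl) hW
    · exact n1 (one aP hW.2 a1)
    · exact n2 (one aP hW.2 a2)
    · exact m (one aP' hW.2 b)
  have hu : A ∪ {X1, X2, Y} ⊆ {X | Same N E X} := by
    rintro W (hW | rfl | rfl | rfl)
    · exact hW.1
    · exact sP.trans (k.ka.sameAdj aP a1)
    · exact sP.trans (k.ka.sameAdj aP a2)
    · exact sP'.trans (k.ka.sameAdj aP' b)
  have h1 := Set.ncard_le_ncard hu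
  rw [Set.ncard_union_eq hd, hc, (k.l3.fa hEF).cl] at h1
  omega

end loc

section glob
variable {G : Type u} [Group G] [Finite G] {Ω : Type v} [Finite Ω] [MulAction G Ω]
  {NN : Ω → Subgroup G} {q : ℕ}

theorem eq_of_fix (h : St NN q) (hb : BK NN q) {x y p : Ω} (hxy : x ≠ y)
    (hp : UU NN x y ≤ stabilizer G p) : x ≠ p → UU NN x p = UU NN x y := by
  intro hxp
  obtain ⟨E, F, hEF, e, -⟩ := hb x y hxy
  obtain ⟨E', F', hEF', e', -⟩ := hb x p hxp
  have s := ((h.kit x).l3.fb hEF).syl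
  have s' := ((h.kit x).l3.fb hEF').syl
  rw [← e] at s
  rw [← e'] at s'
  exact s.max _ s'.le s'.isPGroup fun g hg => mem_UU (s.le hg) (hp hg) (Is2.of_mem s.isPGroup hg)

theorem flag (h : St NN q) (hb : BK NN q) {x : Ω} {E F : Subgroup G} (hEF : Adj (NN x) q E F) :
    ∃ y, x ≠ y ∧ UU NN x y = E ⊔ F := by
  obtain ⟨y, hxy⟩ : ∃ y, x ≠ y := by
    obtain ⟨a, b, hab⟩ := h.nt
    by_cases ha : x = a
    · exact ⟨b, ha ▸ hab⟩
    · exact ⟨a, ha⟩
  obtain ⟨E', F', hEF', e', -⟩ := hb x y hxy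
  have key : ∀ E F, Adj (NN x) q E F → Same (NN x) E' E → ∃ y, x ≠ y ∧ UU NN x y = E ⊔ F := by
    intro E F hEF hs
    obtain ⟨g, hg, h1, h2⟩ := (h.kit x).ka.flagTr hEF' hEF hs
    have gx : g • x = x := h.fix x hg
    refine ⟨g • y, fun e => hxy (MulAction.injective g (gx.trans e)), ?_⟩
    rw [← h1, ← h2, ← cj_sup, ← e', h.cj_UU, gx]
  rcases ((h.kit x).l3.fa hEF).two E' hEF'.vl with hs | hs
  · exact key E F hEF hs.symm
  · rw [sup_comm]
    exact key F E hEF.symm hs.symm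

/-- the points other than `x` with a given Sylow subgroup -/
def Fib (NN : Ω → Subgroup G) (x y : Ω) : Set Ω := {p | x ≠ p ∧ UU NN x p = UU NN x y}

theorem fib_card (h : St NN q) {x y x' y' : Ω} (hxy : x ≠ y) (hxy' : x' ≠ y') :
    (Fib NN x y).ncard = (Fib NN x' y').ncard := by
  obtain ⟨g, rfl, rfl⟩ := h.two x y x' y' hxy hxy'
  rw [← Set.ncard_image_of_injective (Fib NN x y) (MulAction.injective g)]
  congr 1
  ext p
  constructor
  · rintro ⟨p, ⟨h1, h2⟩, rfl⟩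
    exact ⟨fun e => h1 (MulAction.injective g e), by rw [← h.cj_UU, ← h.cj_UU, h2]⟩
  · rintro ⟨h1, h2⟩
    refine ⟨g⁻¹ • p, ⟨fun e => h1 (by rw [e, smul_inv_smul]), ?_⟩, smul_inv_smul g p⟩
    apply (cj_inj (g := g)).1
    rw [h.cj_UU, h.cj_UU, smul_inv_smul, h2]

end glob

theorem b4b : B4bStmt.{u, v} := by
  intro G Ω _ _ _ _ _ NN q h hb _ hc
  classical
  obtain ⟨rfl, hc⟩ := hc
  haveI := Fintype.ofFinite Ω
  obtain ⟨a, b, hab⟩ := h.nt
  obtain ⟨E, F, hEF, -, -⟩ := hb a b hab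
  obtain ⟨z, ⟨zE, zF⟩, z1⟩ := hEF.exists_ne
  have z2 : z * z = 1 := hEF.vl.sq z zE
  have k := h.kit a
  set m := (Fib NN a b).ncard with hm
  have m1 : 0 < m := (Set.ncard_pos (Set.toFinite _)).2 ⟨b, hab, rfl⟩
  have fibc : ∀ (x : Ω) (s : Finset Ω), (∀ y ∈ s, x ≠ y) → ∀ U ∈ s.image (UU NN x),
      ∃ y ∈ s, U = UU NN x y ∧ (s.filter fun p => UU NN x p = U).card = (Fib NN x y ∩ s).ncard := by
    intro x s hs U hU
    obtain ⟨y, hy, rfl⟩ := Finset.mem_image.1 hU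
    refine ⟨y, hy, rfl, ?_⟩
    rw [← Set.ncard_coe_finset]
    congr 1
    ext p
    simp only [Finset.coe_filter, Set.mem_setOf_eq, Set.mem_inter_iff, Fib, Finset.mem_coe]
    exact ⟨fun ⟨h1, h2⟩ => ⟨⟨hs p h1, h2⟩, h1⟩, fun ⟨h1, h2⟩ => ⟨h2, h1.2⟩⟩
  let Fz : Finset Ω := Finset.univ.filter fun p => z • p = p
  have za : z • a = a := h.fix a (hEF.vl.le zE)
  obtain ⟨E1, e1, n1, -⟩ := k.ka.third hEF hEF
  obtain ⟨E2, e2, n2, n12⟩ := k.ka.third hEF e1
  obtain ⟨M1, f1, l1, -⟩ := k.ka.third hEF.symm hEF.symm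
  obtain ⟨M2, f2, l2, l12⟩ := k.ka.third hEF.symm f1
  -- lower bound
  have low : 5 * m + 1 ≤ Fz.card := by
    let s : Finset Ω := Finset.univ.filter fun p => a ≠ p ∧ z ∈ UU NN a p
    have hs : ∀ y ∈ s, a ≠ y := fun y hy => (Finset.mem_filter.1 hy).2.1
    have h1 : m * (s.image (UU NN a)).card ≤ s.card := by
      refine Finset.mul_card_image_le_card s m fun U hU => ?_
      obtain ⟨y, hy, rfl, e⟩ := fibc a s hs U hU
      rw [e, Set.inter_eq_left.2, hm, fib_card h hab (hs y hy)]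
      rintro p ⟨h1, h2⟩
      exact Finset.mem_coe.2 (Finset.mem_filter.2
        ⟨Finset.mem_univ _, h1, h2 ▸ (Finset.mem_filter.1 hy).2.2⟩)
    have h2 : ({E ⊔ F, E1 ⊔ F, E2 ⊔ F, E ⊔ M1, E ⊔ M2} : Finset (Subgroup G)) ⊆
        s.image (UU NN a) := by
      have key : ∀ X Y, Adj (NN a) 2 X Y → z ∈ X ⊔ Y → X ⊔ Y ∈ s.image (UU NN a) := by
        intro X Y hXY hz
        obtain ⟨y, hy, e⟩ := flag h hb hXY
        exact Finset.mem_image.2 ⟨y, Finset.mem_filter.2 ⟨Finset.mem_univ _, hy, e ▸ hz⟩, e⟩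
      intro U hU
      simp only [Finset.mem_insert, Finset.mem_singleton] at hU
      rcases hU with rfl | rfl | rfl | rfl | rfl
      · exact key _ _ hEF (mem_sup_left zE)
      · exact key _ _ e1 (mem_sup_right zF)
      · exact key _ _ e2 (mem_sup_right zF)
      · exact key _ _ f1.symm (mem_sup_left zE)
      · exact key _ _ f2.symm (mem_sup_left zE)
    have s1 := k.ka.sameAdj hEF e1
    have s2 := k.ka.sameAdj hEF e2
    have r := Same.refl (NN a) E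
    have h3 : ({E ⊔ F, E1 ⊔ F, E2 ⊔ F, E ⊔ M1, E ⊔ M2} : Finset (Subgroup G)).card = 5 := by
      have d1 : E ⊔ F ≠ E1 ⊔ F := fun e => n1 (flag_inj k hEF e1 s1 e).1.symm
      have d2 : E ⊔ F ≠ E2 ⊔ F := fun e => n2 (flag_inj k hEF e2 s2 e).1.symm
      have d3 : E ⊔ F ≠ E ⊔ M1 := fun e => l1 (flag_inj k hEF f1.symm r e).2.symm
      have d4 : E ⊔ F ≠ E ⊔ M2 := fun e => l2 (flag_inj k hEF f2.symm r e).2.symm
      have d5 : E1 ⊔ F ≠ E2 ⊔ F := fun e => n12 (flag_inj k e1 e2 (s1.symm.trans s2) e).1.symm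
      have d6 : E1 ⊔ F ≠ E ⊔ M1 := fun e => n1 (flag_inj k e1 f1.symm s1.symm e).1
      have d7 : E1 ⊔ F ≠ E ⊔ M2 := fun e => n1 (flag_inj k e1 f2.symm s1.symm e).1
      have d8 : E2 ⊔ F ≠ E ⊔ M1 := fun e => n2 (flag_inj k e2 f1.symm s2.symm e).1
      have d9 : E2 ⊔ F ≠ E ⊔ M2 := fun e => n2 (flag_inj k e2 f2.symm s2.symm e).1
      have d10 : E ⊔ M1 ≠ E ⊔ M2 := fun e => l12 (flag_inj k f1.symm f2.symm r e).2.symm
      rw [Finset.card_insert_of_notMem (by simp [d1, d2, d3, d4]),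
        Finset.card_insert_of_notMem (by simp [d5, d6, d7]),
        Finset.card_insert_of_notMem (by simp [d8, d9]), Finset.card_pair d10]
    have h4 := Finset.card_le_card h2
    have h5 : s ⊆ Fz.erase a := fun p hp => by
      obtain ⟨-, h1, h2⟩ := Finset.mem_filter.1 hp
      exact Finset.mem_erase.2 ⟨h1.symm, Finset.mem_filter.2 ⟨Finset.mem_univ _,
        UU_le_stab NN a p h2⟩⟩
    have h6 := Finset.card_le_card h5
    have h7 := Finset.card_erase_add_one (s := Fz) (a := a)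
      (Finset.mem_filter.2 ⟨Finset.mem_univ _, za⟩)
    rw [h3] at h4
    nlinarith
  -- upper bound
  obtain ⟨x, hax, ex⟩ := flag h hb f1.symm
  have zU : z ∈ UU NN a x := ex ▸ mem_sup_left zE
  have zx : z • x = x := UU_le_stab NN a x zU
  have zn : z ∉ UU NN x a := fun hz => by
    have h1 : z ∈ M1 := (hc a x E M1 hax f1.symm ex).2 ⟨zE, hz⟩
    have h2 := k.ka.infBot hEF.vr (k.ka.sameAdj hEF.symm f1) l1.symm
    exact z1 ((eq_bot_iff_forall _).1 h2 z ⟨zF, h1⟩)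
  obtain ⟨E', F', hEF', e', -⟩ := hb x a hax.symm
  have k' := h.kit x
  have zN : z ∈ N[NN x] := h.norm zx
  have sw : cj z E' = F' := by
    rcases k'.ka.swapU hEF' z zN (e' ▸ h.norm_UU zx za) with h1 | h1
    · exact absurd ((hc x a E' F' hax.symm hEF' e').1 z zU h1.1) zn
    · exact h1.1
  have nf : ∀ P, Same (NN x) E' P → z ∉ N[P] := fun P hP hz => by
    have h1 := hP.cj zN
    rw [sw, cj_eq_self hz] at h1
    exact (k'.l3.fa hEF').ns (hP.trans h1.symm)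
  let s : Finset Ω := Fz.erase x
  have hs : ∀ y ∈ s, x ≠ y := fun y hy => (Finset.mem_erase.1 hy).1.symm
  have h1 : s.card ≤ m * (s.image (UU NN x)).card := by
    refine Finset.card_le_mul_card_image s m fun U hU => ?_
    obtain ⟨y, hy, rfl, e⟩ := fibc x s hs U hU
    rw [e, hm, fib_card h hab (hs y hy)]
    exact Set.ncard_le_ncard Set.inter_subset_left
  have h2 : ((s.image (UU NN x) : Finset (Subgroup G)) : Set (Subgroup G)) ⊆
      (fun P => P ⊔ cj z P) '' {P | Same (NN x) E' P ∧ Adj (NN x) 2 P (cj z P)} := by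
    intro U hU
    obtain ⟨y, hy, rfl⟩ := Finset.mem_image.1 (Finset.mem_coe.1 hU)
    have zy : z • y = y := (Finset.mem_filter.1 (Finset.mem_erase.1 hy).2).2
    have key : ∀ P Q, Adj (NN x) 2 P Q → UU NN x y = P ⊔ Q → Same (NN x) E' P →
        UU NN x y ∈ (fun P => P ⊔ cj z P) '' {P | Same (NN x) E' P ∧ Adj (NN x) 2 P (cj z P)} := by
      intro P Q hPQ e hP
      rcases k'.ka.swapU hPQ z zN (e ▸ h.norm_UU zx zy) with h1 | h1
      · exact absurd h1.1 (nf P hP)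
      · exact ⟨P, ⟨hP, h1.1 ▸ hPQ⟩, by rw [e, ← h1.1]⟩
    obtain ⟨P, Q, hPQ, e, -⟩ := hb x y (hs y hy)
    rcases (k'.l3.fa hPQ).two E' hEF'.vl with h3 | h3
    · exact key P Q hPQ e h3.symm
    · exact key Q P hPQ.symm (e.trans (sup_comm _ _)) h3.symm
  have h3 := (Set.ncard_le_ncard h2).trans ((Set.ncard_image_le).trans (abs_le k' hEF' zN z2))
  rw [Set.ncard_coe_finset] at h3
  have h7 := Finset.card_erase_add_one (s := Fz) (a := x)
    (Finset.mem_filter.2 ⟨Finset.mem_univ _, zx⟩)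
  have h8 : s.card ≤ m * 4 := h1.trans (Nat.mul_le_mul_left _ h3)
  change s.card + 1 = _ at h7
  omega

end Cfsg.Agent.H72.HLb
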