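import Mathlib
import Cfsg.Agent.H81.AutSylow
import Cfsg.Agent.S0227
import Cfsg.Agent.S0205
import Cfsg.Agent.S1161
import Cfsg.Agent.S4208
import Cfsg.Agent.S2602
import Cfsg.Agent.S2603
import Cfsg.Agent.S2126
import Cfsg.Agent.H3.Fitting
import Cfsg.Agent.H3.Frattini
import Cfsg.Agent.H12.Burnside
import Cfsg.Agent.H52.BLayer
import Cfsg.Agent.H86.BenCor
import Cfsg.Agent.H10.BenderMain

/-! Solvability of `Out(G)` from the action of `N_G(S)` on a Sylow 2-subgroup (Glauberman). -/

set_option autoImplicit false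

namespace Cfsg.Agent.H72

open Cfsg Subgroup Cfsg.Agent.H85 Cfsg.Agent.H81
open scoped Pointwise commutatorElement

universe u

/-- If the normalizer in `Aut(S)` of the group of automorphisms induced by `N_G(S)` is solvable,
then `Out(G)` is solvable. -/
theorem out_solvable_of_norm {G : Type*} [Group G] [Finite G] [IsSimpleGroup G]
    (S : Sylow 2 G) (hS1 : (S : Subgroup G) ≠ ⊥)
    (hS : Group.IsSolvable
      (normalizer (((S : Subgroup G).normalizerMonoidHom.range : Subgroup (MulAut (S : Subgroup G))) :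
        Set (MulAut (S : Subgroup G))))) :
    Group.IsSolvable (Cfsg.Out G) := by
  haveI : Fact (Nat.Prime 2) := ⟨Nat.prime_two⟩
  have hO : ∀ N : Subgroup G, N.Normal → Odd (Nat.card N) → N = ⊥ := by
    intro N hN hodd
    rcases IsSimpleGroup.eq_bot_or_eq_top_of_normal N hN with h | h
    · exact h
    · exfalso
      obtain ⟨z, hz, hz1, hz2⟩ := exists_order_prime_mem S.isPGroup' hS1
      have h1 := Subgroup.orderOf_dvd_natCard N (h ▸ mem_top z)
      rw [orderOf_eq_prime' hz1 hz2] at h1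
      exact (Nat.not_even_iff_odd.mpr hodd) (even_iff_two_dvd.mpr h1)
  let C : Subgroup (MulAut G) :=
    { carrier := {φ | ∀ s : G, s ∈ S → φ s = s}
      mul_mem' := fun {a b} ha hb s hs => by rw [MulAut.mul_apply, hb s hs, ha s hs]
      one_mem' := fun s _ => rfl
      inv_mem' := fun {a} ha s hs => by
        apply a.injective; rw [MulAut.apply_inv_self, ha s hs] }
  haveI hC : Group.IsSolvable C := (S0227.result hO S C (fun φ => Iff.rfl)).2
  let N : Subgroup (MulAut G) := MulAction.stabilizer (MulAut G) (S : Subgroup G)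
  have hN : ∀ φ : N, ∀ s : G, s ∈ (S : Subgroup G) → (φ : MulAut G) s ∈ (S : Subgroup G) := by
    intro φ s hs
    have h1 : (φ : MulAut G) • (S : Subgroup G) = S := φ.2
    rw [← h1]
    exact smul_mem_pointwise_smul s (φ : MulAut G) _ hs
  let ρ : N →* MulAut (S : Subgroup G) := MonoidHom.mk' (fun φ =>
    { toFun := fun s => ⟨(φ : MulAut G) s, hN φ s s.2⟩
      invFun := fun s => ⟨((φ⁻¹ : N) : MulAut G) s, hN φ⁻¹ s s.2⟩
      left_inv := fun s => Subtype.ext (by simp)
      right_inv := fun s => Subtype.ext (by simp)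
      map_mul' := fun a b => Subtype.ext (by simp) }) (fun a b => rfl)
  have hCN : C ≤ N := fun φ hφ => by
    refine le_antisymm ?_ (fun s hs => ?_)
    · rintro _ ⟨s, hs, rfl⟩
      have : φ s = s := hφ s hs
      show φ s ∈ (S : Subgroup G)
      rw [this]; exact hs
    · exact ⟨s, hs, hφ s hs⟩
  have hconj : ∀ φ : N, ∀ d ∈ (S : Subgroup G).normalizerMonoidHom.range,
      ρ φ * d * (ρ φ)⁻¹ ∈ (S : Subgroup G).normalizerMonoidHom.range := by
    rintro φ _ ⟨g, rfl⟩
    have hg : (φ : MulAut G) g ∈ normalizer ((S : Subgroup G) : Set G) := by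
      rw [mem_normalizer_iff]
      intro h
      obtain ⟨h, rfl⟩ := (φ : MulAut G).surjective h
      rw [← map_inv, ← map_mul, ← map_mul]
      have key : ∀ x, (φ : MulAut G) x ∈ (S : Subgroup G) ↔ x ∈ (S : Subgroup G) := fun x =>
        ⟨fun hx => by simpa using hN φ⁻¹ _ hx, hN φ x⟩
      rw [key, key]
      exact mem_normalizer_iff.1 g.2 h
    refine ⟨⟨_, hg⟩, ?_⟩
    ext s
    change (φ : MulAut G) g * s * ((φ : MulAut G) g)⁻¹ =
      (φ : MulAut G) (g * ((φ⁻¹ : N) : MulAut G) s * (g : G)⁻¹)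
    simp
  have hρ : ∀ φ : N, ρ φ ∈ normalizer (((S : Subgroup G).normalizerMonoidHom.range :
      Subgroup (MulAut (S : Subgroup G))) : Set (MulAut (S : Subgroup G))) := fun φ => by
    rw [mem_normalizer_iff]
    refine fun d => ⟨hconj φ d, fun h => ?_⟩
    have := hconj φ⁻¹ _ h
    rw [map_inv] at this
    simpa [mul_assoc] using this
  haveI : Group.IsSolvable N := by
    refine Group.isSolvable_of_ker_le_range (inclusion hCN) (ρ.codRestrict _ hρ) (fun φ hφ => ?_)
    refine ⟨⟨φ, fun s hs => ?_⟩, rfl⟩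
    have h0 : ρ φ = 1 := congrArg Subtype.val (MonoidHom.mem_ker.mp hφ)
    have h1 : ρ φ ⟨s, hs⟩ = ⟨s, hs⟩ := by rw [h0]; rfl
    exact congrArg Subtype.val h1
  refine Group.isSolvable_of_surjective (f := (QuotientGroup.mk' (Cfsg.Inn G)).comp N.subtype) ?_
  intro x
  obtain ⟨φ, rfl⟩ := QuotientGroup.mk'_surjective _ x
  obtain ⟨g, hg⟩ := MulAction.exists_smul_eq G (φ • S) S
  refine ⟨⟨MulAut.conj g * φ, ?_⟩, ?_⟩
  · show (MulAut.conj g * φ) • (S : Subgroup G) = S
    rw [mul_smul]
    exact congrArg Sylow.toSubgroup hg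
  · show QuotientGroup.mk' (Cfsg.Inn G) (MulAut.conj g * φ) = _
    rw [map_mul, (QuotientGroup.eq_one_iff (MulAut.conj g)).mpr ⟨g, rfl⟩ |>
      (fun h => (show QuotientGroup.mk' (Cfsg.Inn G) (MulAut.conj g) = 1 from h)), one_mul]

/-- The order of the automorphism group of a 2-group with few generators. -/
theorem card_mulAut_dvd {P : Type*} [Group P] [Finite P] (hP : IsPGroup 2 P) (T : Finset P)
    (hT : closure (T : Set P) = ⊤) :
    (T.card ≤ 2 → ∃ k, Nat.card (MulAut P) ∣ 2 ^ k * 3) ∧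
      (T.card ≤ 3 → ∃ k, Nat.card (MulAut P) ∣ 2 ^ k * (3 * 7)) := by
  haveI : Fact (Nat.Prime 2) := ⟨Nat.prime_two⟩
  obtain ⟨n, hn⟩ := IsPGroup.iff_card.1 hP
  obtain ⟨r, -, hr⟩ := (Nat.dvd_prime_pow Nat.prime_two).1 (hn ▸ (frattini P).index_dvd_card)
  have h1 := H3.burnside_basis_le hP hr T hT
  have h2 := S4208.result hn hr
  have key : ∀ m : ℕ, ∏ i ∈ Finset.range r, (2 ^ r - 2 ^ i) ∣ 2 ^ 3 * m →
      ∃ k, Nat.card (MulAut P) ∣ 2 ^ k * m := fun m hm =>
    ⟨r * (n - r) + 3, h2.trans (by rw [pow_add, mul_assoc]; exact mul_dvd_mul_left _ hm)⟩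
  refine ⟨fun h => key _ ?_, fun h => key _ ?_⟩
  · have : r ≤ 2 := h1.trans h
    interval_cases r <;> decide
  · have : r ≤ 3 := h1.trans h
    interval_cases r <;> decide

/-- A group of order dividing `2^k · 21` with a solvable subgroup `D` which is not a 2-group:
the normalizer of `D` is solvable. -/
theorem solvable_norm_of_dvd {X : Type*} [Group X] [Finite X] {k : ℕ}
    (h : Nat.card X ∣ 2 ^ k * (3 * 7)) {D : Subgroup X} (hD : Group.IsSolvable D) {d : X}
    (hd : d ∈ D) (h1 : d ≠ 1) (ho : Odd (orderOf d)) :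
    Group.IsSolvable (normalizer (D : Set X)) := by
  set B := normalizer (D : Set X)
  haveI : (D.subgroupOf B).Normal := normal_in_normalizer
  haveI : Group.IsSolvable (D.subgroupOf B) :=
    Group.isSolvable_of_surjective (f := (subgroupOfEquivOfLe le_normalizer).symm.toMonoidHom)
      (MulEquiv.surjective _)
  have hq : Group.IsSolvable (B ⧸ D.subgroupOf B) := by
    have hc : Nat.card (B ⧸ D.subgroupOf B) * Nat.card D ∣ 2 ^ k * (3 * 7) := by
      rw [← Nat.card_congr (subgroupOfEquivOfLe (le_normalizer (H := D))).toEquiv,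
        ← card_eq_card_quotient_mul_card_subgroup]
      exact (card_subgroup_dvd_card B).trans h
    obtain ⟨p, hp, hpd⟩ := Nat.exists_prime_and_dvd (mt orderOf_eq_one_iff.1 h1)
    have hp2 : p ≠ 2 := by
      rintro rfl
      exact (Nat.not_even_iff_odd.2 ho) (even_iff_two_dvd.2 hpd)
    have hpD : p ∣ Nat.card D := hpd.trans (D.orderOf_dvd_natCard hd)
    have hc' : Nat.card (B ⧸ D.subgroupOf B) * p ∣ 2 ^ k * (3 * 7) :=
      (mul_dvd_mul_left _ hpD).trans hc
    have hp' : p ∣ 2 ^ k * (3 * 7) := (Dvd.intro_left _ rfl).trans hc'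
    rcases (hp.dvd_mul).1 hp' with h2 | h2
    · exact absurd ((Nat.prime_dvd_prime_iff_eq hp Nat.prime_two).1 (hp.dvd_of_dvd_pow h2)) hp2
    rcases (hp.dvd_mul).1 h2 with h3 | h3
    · obtain rfl := (Nat.prime_dvd_prime_iff_eq hp Nat.prime_three).1 h3
      refine H12.isSolvable_of_card_dvd_pow_mul_pow (a := k) (b := 1) Nat.prime_two
        (by norm_num : Nat.Prime 7) (Nat.dvd_of_mul_dvd_mul_right (by norm_num : 0 < 3) ?_)
      rwa [show 2 ^ k * 7 ^ 1 * 3 = 2 ^ k * (3 * 7) by ring]
    · obtain rfl := (Nat.prime_dvd_prime_iff_eq hp (by norm_num : Nat.Prime 7)).1 h3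
      refine H12.isSolvable_of_card_dvd_pow_mul_pow (a := k) (b := 1) Nat.prime_two
        Nat.prime_three (Nat.dvd_of_mul_dvd_mul_right (by norm_num : 0 < 7) ?_)
      rwa [show 2 ^ k * 3 ^ 1 * 7 = 2 ^ k * (3 * 7) by ring]
  exact Group.isSolvable_of_ker_le_range (D.subgroupOf B).subtype (QuotientGroup.mk' (D.subgroupOf B))
    (by rw [QuotientGroup.ker_mk', range_subtype])

/-- The normalizer of a solvable group `D` with cyclic Fitting subgroup: its second derived group
centralizes `D`. -/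
theorem derived_two_le_cent {X : Type*} [Group X] [Finite X] {D : Subgroup X}
    (hD : Group.IsSolvable D) (hc : IsCyclic (fittingSubgroup D)) :
    ⁅⁅normalizer (D : Set X), normalizer (D : Set X)⁆,
      ⁅normalizer (D : Set X), normalizer (D : Set X)⁆⁆ ≤ centralizer (D : Set X) := by
  set B := normalizer (D : Set X) with hB
  set F := (fittingSubgroup D).map D.subtype with hF
  have hBF : B ≤ normalizer (F : Set X) := H3.normalizer_le_normalizer_map_fitting D
  haveI : IsCyclic F := isCyclic_of_surjective _ (MulEquiv.surjective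
    (equivMapOfInjective (fittingSubgroup D) D.subtype D.subtype_injective))
  have h1 : ⁅B, B⁆ ≤ centralizer (F : Set X) := by
    rw [commutator_le]
    intro a ha b hb
    have : (⟨⁅a, b⁆, commutator_le_self _ (commutator_mem_commutator (hBF ha) (hBF hb))⟩ :
        normalizer (F : Set X)) ∈ F.normalizerMonoidHom.ker := by
      have e : (⟨⁅a, b⁆, commutator_le_self _ (commutator_mem_commutator (hBF ha) (hBF hb))⟩ :
          normalizer (F : Set X)) = ⁅(⟨a, hBF ha⟩ : normalizer (F : Set X)), ⟨b, hBF hb⟩⁆ := rfl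
      rw [e, MonoidHom.mem_ker, map_commutatorElement, commutatorElement_eq_one_iff_mul_comm]
      exact (IsCyclic.mulAutMulEquiv F).injective (by rw [map_mul, map_mul, mul_comm])
    rwa [normalizerMonoidHom_ker] at this
  have hB' : ⁅B, B⁆ ≤ B := commutator_le_self _
  have hFD : F ≤ D := map_subtype_le _
  have hDF : D ≤ normalizer (F : Set X) := le_normalizer.trans hBF
  have h2 : ⁅D, ⁅B, B⁆⁆ ≤ F := by
    have h3 : ⁅⁅D, ⁅B, B⁆⁆, F⁆ = ⊥ := by
      apply commutator_commutator_eq_bot_of_rotate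
      · rw [commutator_eq_bot_iff_le_centralizer.2 h1, commutator_bot_left]
      · refine eq_bot_iff.2 ((commutator_mono (le_normalizer_iff_commutator_le_left.1 ?_ :
          ⁅F, D⁆ ≤ F) le_rfl).trans ?_)
        · exact hDF
        · rw [commutator_comm, commutator_eq_bot_iff_le_centralizer.2 h1]
    have h4 : ⁅D, ⁅B, B⁆⁆ ≤ D := le_normalizer_iff_commutator_le_left.1 hB'
    intro x hx
    refine ⟨⟨x, h4 hx⟩, H3.centralizer_fitting_le D (fun y hy => Subtype.ext ?_), rfl⟩
    exact commutator_eq_bot_iff_le_centralizer.1 h3 hx y ⟨y, hy, rfl⟩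
  have h5 : ⁅⁅D, ⁅B, B⁆⁆, ⁅B, B⁆⁆ = ⊥ := by
    refine eq_bot_iff.2 ((commutator_mono h2 le_rfl).trans ?_)
    rw [commutator_comm, commutator_eq_bot_iff_le_centralizer.2 h1]
  rw [← commutator_eq_bot_iff_le_centralizer]
  apply commutator_commutator_eq_bot_of_rotate
  · rw [commutator_comm (H₂ := D), h5]
  · exact h5

theorem solvable_of_derived_two {X : Type*} [Group X] {B : Subgroup X}
    (h : Group.IsSolvable ↥⁅⁅B, B⁆, ⁅B, B⁆⁆) : Group.IsSolvable B := by
  have key : ∀ Y : Subgroup X, Group.IsSolvable ↥⁅Y, Y⁆ → Group.IsSolvable Y := fun Y hY => by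
    haveI : Group.IsSolvable (Abelianization Y) := inferInstance
    refine Group.isSolvable_of_ker_le_range (inclusion (commutator_le_self Y))
      (Abelianization.of) fun x hx => ?_
    rw [Abelianization.ker_of] at hx
    have : (x : X) ∈ ⁅Y, Y⁆ := by
      have h1 := mem_map_of_mem Y.subtype hx
      rwa [_root_.commutator_def, map_commutator, ← MonoidHom.range_eq_map, range_subtype] at h1
    exact ⟨⟨x, this⟩, rfl⟩
  exact key _ (key _ h)

/-- A group of odd order transitive on the nonidentity elements of an elementary abelian 2-group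
has a solvable normalizer in the automorphism group. -/
theorem solvable_norm_of_trans {W : Type*} [CommGroup W] [Finite W] [Nontrivial W]
    (h2 : ∀ w : W, w * w = 1) {D : Subgroup (MulAut W)} (hD : Odd (Nat.card D))
    (ht : ∀ a b : W, a ≠ 1 → b ≠ 1 → ∃ d ∈ D, d a = b) :
    Group.IsSolvable (normalizer (D : Set (MulAut W))) := by
  letI : DistribMulAction D (Additive W) :=
    { smul := fun d w => Additive.ofMul ((d : MulAut W) w.toMul)
      one_smul := fun _ => rfl
      mul_smul := fun _ _ _ => rfl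
      smul_zero := fun d => congrArg Additive.ofMul (map_one (d : MulAut W))
      smul_add := fun d a b => congrArg Additive.ofMul (map_mul (d : MulAut W) a.toMul b.toMul) }
  haveI : FaithfulSMul D (Additive W) := ⟨fun {a b} h => Subtype.ext (MulEquiv.ext fun w =>
    congrArg Additive.toMul (h (Additive.ofMul w)))⟩
  have hc := (S1161.result (D := D) (E := Additive W) hD Nat.prime_two
    (fun e => by rw [two_nsmul]; exact congrArg Additive.ofMul (h2 e.toMul))
    (fun a b ha hb => by
      obtain ⟨d, hd, e⟩ := ht a.toMul b.toMul ha hb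
      exact ⟨⟨d, hd⟩, congrArg Additive.ofMul e⟩)).1
  have h3 := derived_two_le_cent (S0205.result hD) hc
  refine solvable_of_derived_two (S0205.result ?_)
  by_contra hev
  rw [Nat.not_odd_iff_even, even_iff_two_dvd] at hev
  haveI : Fact (Nat.Prime 2) := ⟨Nat.prime_two⟩
  obtain ⟨c, hc⟩ := exists_prime_orderOf_dvd_card' 2 hev
  have hc2 : (c : MulAut W) * c = 1 := by
    rw [← pow_two, ← Subgroup.coe_pow, ← hc, pow_orderOf_eq_one]; rfl
  have hc1 : (c : MulAut W) ≠ 1 := fun e => by
    rw [show c = 1 from Subtype.ext e, orderOf_one] at hc; omega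
  have hfix : ∃ v : W, v ≠ 1 ∧ (c : MulAut W) v = v := by
    obtain ⟨w, hw⟩ := exists_ne (1 : W)
    by_cases e : (c : MulAut W) w = w
    · exact ⟨w, hw, e⟩
    · refine ⟨w * (c : MulAut W) w, fun e1 => e ?_, ?_⟩
      · exact mul_left_cancel (e1.trans (h2 w).symm)
      · rw [map_mul, ← MulAut.mul_apply, hc2, MulAut.one_apply, mul_comm]
  obtain ⟨v, hv, hcv⟩ := hfix
  refine hc1 (MulEquiv.ext fun w => ?_)
  by_cases hw : w = 1
  · subst hw; simp
  · obtain ⟨d, hd, rfl⟩ := ht v w hv hw
    rw [← MulAut.mul_apply, ← h3 c.2 d hd, MulAut.mul_apply, hcv]; rfl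

/-- The same for an abelian 2-group and a group transitive on its involutions. -/
theorem solvable_norm_abelian {P : Type*} [Group P] [Finite P] [Nontrivial P] (hP : IsPGroup 2 P)
    (hc : ∀ a b : P, a * b = b * a) {D : Subgroup (MulAut P)} (hD : Odd (Nat.card D))
    (ht : ∀ a b : P, orderOf a = 2 → orderOf b = 2 → ∃ d ∈ D, d a = b) :
    Group.IsSolvable (normalizer (D : Set (MulAut P))) := by
  haveI : Fact (Nat.Prime 2) := ⟨Nat.prime_two⟩
  let W : Subgroup P :=
    { carrier := {x | x * x = 1}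
      one_mem' := mul_one _
      mul_mem' := fun {a b} ha hb => by
        change a * b * (a * b) = 1
        rw [mul_assoc, ← mul_assoc b, hc b a, mul_assoc, ← mul_assoc a, ha, hb, mul_one]
      inv_mem' := fun {a} ha => by
        change a⁻¹ * a⁻¹ = 1
        rw [← mul_inv_rev, ha, inv_one] }
  have hW : ∀ (φ : MulAut P) (w : W), φ w ∈ W := fun φ w => by
    change φ w * φ w = 1
    rw [← map_mul, w.2, map_one]
  let r : MulAut P →* MulAut W := MonoidHom.mk' (fun φ =>
    { toFun := fun s => ⟨φ s, hW φ s⟩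
      invFun := fun s => ⟨φ⁻¹ s, hW φ⁻¹ s⟩
      left_inv := fun s => Subtype.ext (by simp)
      right_inv := fun s => Subtype.ext (by simp)
      map_mul' := fun a b => Subtype.ext (by simp) }) (fun a b => rfl)
  haveI : Nontrivial W := by
    obtain ⟨z, -, hz1, hz2⟩ := exists_order_prime_mem (R := (⊤ : Subgroup P))
      (hP.to_subgroup ⊤) top_ne_bot
    exact ⟨⟨⟨z, (pow_two z).symm.trans hz2⟩, 1,
      fun e => hz1 (congrArg Subtype.val e)⟩⟩
  letI : CommGroup W := { (inferInstance : Group W) with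
    mul_comm := fun a b => Subtype.ext (hc _ _) }
  have hord : ∀ a : W, a ≠ 1 → orderOf (a : P) = 2 := fun a ha =>
    orderOf_eq_prime (by rw [pow_two]; exact a.2) (fun e => ha (Subtype.ext e))
  haveI h1 : Group.IsSolvable (normalizer ((D.map r : Subgroup (MulAut W)) : Set (MulAut W))) :=
    solvable_norm_of_trans (W := W) (fun w => Subtype.ext w.2)
      (hD.of_dvd_nat (card_map_dvd D r)) (fun a b ha hb => by
        obtain ⟨d, hd, e⟩ := ht a b (hord a ha) (hord b hb)
        exact ⟨r d, mem_map_of_mem r hd, Subtype.ext e⟩)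
  have hker : IsPGroup 2 r.ker := by
    rintro ⟨φ, hφ⟩
    have h0 : ∀ x : P, x * x = 1 → φ x = x := fun x hx => by
      have : r φ ⟨x, hx⟩ = ⟨x, hx⟩ := by rw [MonoidHom.mem_ker.1 hφ]; rfl
      exact congrArg Subtype.val this
    have h0' : ∀ (n : ℕ) (x : P), x * x = 1 → (φ ^ n) x = x := fun n x hx => by
      induction n with
      | zero => rfl
      | succ n ih => rw [pow_succ, MulAut.mul_apply, h0 x hx, ih]
    have key : ∀ (k : ℕ) (x : P), x ^ 2 ^ (k + 1) = 1 → (φ ^ 2 ^ k) x = x := by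
      intro k
      induction k with
      | zero => intro x hx; exact h0' _ x (by rw [← pow_two]; exact hx)
      | succ k ih =>
        intro x hx
        have e1 := ih (x ^ 2) (by rw [← pow_mul, ← pow_succ', hx])
        set ψ := φ ^ 2 ^ k with hψ
        have e2 : ψ x * x⁻¹ * (ψ x * x⁻¹) = 1 := by
          rw [pow_two, map_mul] at e1
          rw [mul_assoc, ← mul_assoc x⁻¹, hc x⁻¹, mul_assoc, ← mul_assoc, e1]; group
        have e3 := h0' (2 ^ k) _ e2
        rw [← hψ, map_mul, map_inv, mul_inv_eq_iff_eq_mul] at e3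
        rw [pow_succ, pow_mul, ← hψ, pow_two, MulAut.mul_apply, e3]
        calc ψ x * x⁻¹ * ψ x = ψ x * x⁻¹ * (ψ x * x⁻¹) * x := by group
          _ = x := by rw [e2, one_mul]
    obtain ⟨n, hn⟩ := IsPGroup.iff_card.1 hP
    refine ⟨n, Subtype.ext (MulEquiv.ext fun x => key n x ?_)⟩
    rw [pow_succ, pow_mul, ← hn, pow_card_eq_one', one_pow]
  haveI := (hker.comap_subtype (K := normalizer (D : Set (MulAut P)))).isNilpotent
  have hle : ∀ b : normalizer (D : Set (MulAut P)), (r.comp (normalizer (D : Set (MulAut P))).subtype) b ∈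
      normalizer ((D.map r : Subgroup (MulAut W)) : Set (MulAut W)) := fun b =>
    le_normalizer_map r (mem_map_of_mem r b.2)
  refine Group.isSolvable_of_ker_le_range (r.ker.comap (normalizer (D : Set (MulAut P))).subtype).subtype
    (MonoidHom.codRestrict _ _ hle)
    fun x hx => ?_
  rw [range_subtype]
  exact congrArg Subtype.val (MonoidHom.mem_ker.1 hx)

theorem out_solvable_of_SE {G : Type u} [Group G] [Finite G] [IsSimpleGroup G]
    (hG : ¬ IsMulCommutative G) {H : Subgroup G} (hH : IsStronglyEmbedded H) :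
    Group.IsSolvable (Cfsg.Out G) := by
  haveI : Fact (Nat.Prime 2) := ⟨Nat.prime_two⟩
  have key : ∀ {X : Type} [Group X] {m : ℕ} (φ : X →* Multiplicative (ZMod m)), IsCyclic φ.ker →
      Group.IsSolvable X := fun φ hc => by
    letI := hc.commGroup
    exact Group.isSolvable_of_ker_le_range φ.ker.subtype φ (by rw [range_subtype])
  rcases H86.benderList_of_simple H10.Bender.main hG hH with ⟨F, _, _, n, hn, hF, ⟨e⟩⟩ |
    ⟨F, _, _, m, hm, hF, ⟨e⟩⟩ | ⟨F, _, _, n, hn, hF, ⟨e⟩⟩
  · obtain ⟨φ, -, hc, -⟩ := S2602.result (by omega) hF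
      (show 2 ^ 2 ≤ 2 ^ n from Nat.pow_le_pow_right (by norm_num) hn)
    exact H52.isSolvable_out_congr e.symm (key φ hc)
  · refine H52.isSolvable_out_congr e.symm ?_
    have h := S2126.result hm hF
    haveI : Finite (Cfsg.Out ↥(Cfsg.Lie.Sz F (2 ^ (m + 1)))) :=
      Nat.finite_of_card_ne_zero (by omega)
    exact S0205.result (by rw [h]; exact odd_two_mul_add_one m)
  · obtain ⟨φ, -, hc, -⟩ := S2603.result (n := 3) (p := 2) (f := n) (by omega) rfl hF le_rfl (by
      rintro ⟨-, h⟩
      have : 2 ^ 2 ≤ 2 ^ n := Nat.pow_le_pow_right (by norm_num) hn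
      omega)
    exact H52.isSolvable_out_congr e.symm (key φ hc)

end Cfsg.Agent.H72
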