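import Cfsg.Agent.Lead.PcDefs

/-! Project PL: the normaliser of `R` in `S2` centralises `R / Sq T`. -/

set_option autoImplicit false

namespace Cfsg.Agent.H72.PlB3

open Subgroup Cfsg.Agent.Lead.Pc
open scoped commutatorElement

universe u

theorem conj_sq {G : Type u} [Group G] {T : Subgroup G} {n : G} (hn : n ∈ Nm T) {x : G}
    (hx : x ∈ Sq T) : n * x * n⁻¹ ∈ Sq T := by
  induction hx using closure_induction with
  | mem s hs =>
    obtain ⟨t, ht, rfl⟩ := hs
    exact subset_closure ⟨n * t * n⁻¹, (mem_normalizer_iff.1 hn t).1 ht, by group⟩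
  | one => simpa using one_mem (Sq T)
  | mul a b _ _ ha hb =>
    have := mul_mem ha hb
    rwa [show n * a * n⁻¹ * (n * b * n⁻¹) = n * (a * b) * n⁻¹ by group] at this
  | inv a _ ha =>
    have := inv_mem ha
    rwa [show (n * a * n⁻¹)⁻¹ = n * a⁻¹ * n⁻¹ by group] at this

theorem b3 : B3Stmt.{u} := by
  intro nf G _ _ S T S1 S2 R h l b m hm hmR y hy
  obtain ⟨a, ha, s, hs, rfl⟩ := b.dec m hm
  have hR : ∀ r ∈ R, r ∈ Nm T := fun r hr => b.nm (le_normalizer hr)
  have hsR : s ∈ Nm R := by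
    have := mul_mem (inv_mem (le_normalizer ha : a ∈ Nm R)) hmR
    rwa [inv_mul_cancel_left] at this
  have hodd : Odd (T.relIndex S1) := by
    rw [← relIndex_mul_relIndex T S S1 h.le l.le1]
    exact h.odd.mul l.odd1
  have key : ∀ y ∈ R, y ∉ T → ⁅s, y⁆ ∈ Sq T := by
    intro y hy hyT
    have h1 : y⁻¹ * (s * y * s⁻¹) ∈ R :=
      mul_mem (inv_mem hy) ((mem_normalizer_iff.1 hsR y).1 hy)
    have h2 : y⁻¹ * (s * y * s⁻¹) ∈ S1 := by
      have := mul_mem (l.n1.conj_mem s hs y⁻¹) (inv_mem hs)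
      rwa [show y⁻¹ * s * y⁻¹⁻¹ * s⁻¹ = y⁻¹ * (s * y * s⁻¹) by group] at this
    have tw : Tw y := by
      obtain ⟨k, hk⟩ := l.two ⟨y, hy⟩
      exact ⟨k, congrArg Subtype.val hk⟩
    obtain ⟨r, hr, e⟩ := nf G S1 T l.n1 h.cp (h.le.trans l.le1) h.two hodd y tw
      (fun h3 => hyT (b.inf y hy h3)) (hR y hy) _ (b.inf _ h1 h2) s hs
      (mul_inv_cancel_left _ _).symm
    have := b.cm r (l.tr hr) y hy
    rw [commutatorElement_def, e, mul_inv_cancel_left] at this
    rwa [commutatorElement_def]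
  have all : ⁅s, y⁆ ∈ Sq T := by
    by_cases hyT : y ∈ T
    · obtain ⟨y1, h1, h2⟩ := SetLike.not_le_iff_exists.1 b.out
      have h3 : y1⁻¹ * y ∉ T := fun h4 => h2 (by
        have := mul_mem hyT (inv_mem h4)
        rwa [show y * (y1⁻¹ * y)⁻¹ = y1 by group] at this)
      have := mul_mem (key y1 h1 h2)
        (conj_sq (hR y1 h1) (key _ (mul_mem (inv_mem h1) hy) h3))
      rwa [show ⁅s, y1⁆ * (y1 * ⁅s, y1⁻¹ * y⁆ * y1⁻¹) = ⁅s, y⁆ by
        simp only [commutatorElement_def]; group] at this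
    · exact key y hy hyT
  have := mul_mem (conj_sq (hR a ha) all) (b.cm a ha y hy)
  rwa [show a * ⁅s, y⁆ * a⁻¹ * ⁅a, y⁆ = ⁅a * s, y⁆ by
    simp only [commutatorElement_def]; group] at this

end Cfsg.Agent.H72.PlB3
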