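import Cfsg.Agent.H72.T6Wr1
import Cfsg.Agent.H32.A8Spl
import Cfsg.Agent.H83.WrFin

/-! The wreath configuration for the hypothesis `WL3` does not occur in a simple group. -/

set_option autoImplicit false
set_option linter.unusedSectionVars false

universe u

namespace Cfsg.Agent.H66.T6.H72

namespace NS


open Cfsg Cfsg.Agent.H63 Cfsg.Agent.H63.SL Subgroup Cfsg.Agent.H8 Cfsg.Agent.H27.End
open Cfsg.Agent.H63.WR (cc FixC Ne2 WX ClsI Hat WF AB NR)
open scoped commutatorElement Pointwise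


variable {G : Type u} [Group G] {L U T : Subgroup G} {t w : G}

theorem mem_cj {g x : G} {H : Subgroup G} : x ∈ cj g H ↔ g⁻¹ * x * g ∈ H := mem_conj_smul

theorem mnorm (c : WC L U T t w) (k : WK L U T t w) {m y : G} (hm : m ∈ N[L ⊔ cj t L])
    (hy : y ∈ N[L ⊔ cj t L]) (yL : y ∈ N[L]) : m * y * m⁻¹ ∈ N[L] := by
  rcases k.perm m hm with h | h
  · exact mul_mem (mul_mem h yL) (inv_mem h)
  · have h1 : y ∈ N[MulAut.conj t • L] := k.nn (mem_inf.2 ⟨hy, yL⟩)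
    rw [normalizer_conj_smul, mem_conj_smul] at h1
    have := mul_mem (mul_mem h h1) (inv_mem h)
    rwa [show m * t * (t⁻¹ * y * t) * (m * t)⁻¹ = m * y * m⁻¹ by group] at this

theorem comm_mem (c : WC L U T t w) (k : WK L U T t w) {a b : G} (ha : a ∈ N[L ⊔ cj t L])
    (hb : b ∈ N[L ⊔ cj t L]) : ⁅a, b⁆ ∈ N[L] := by
  have tM := c.syl.le c.tT
  rcases k.perm a ha with h | h
  · have := mul_mem h (mnorm c k hb (inv_mem ha) (inv_mem h))
    rwa [← mul_assoc, ← mul_assoc] at this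
  rcases k.perm b hb with h' | h'
  · exact mul_mem (mnorm c k ha hb h') (inv_mem h')
  have := mul_mem (mul_mem h (mnorm c k (inv_mem tM) (mul_mem (mul_mem hb tM)
    (inv_mem (mul_mem ha tM))) (mul_mem h' (inv_mem h)))) (inv_mem h')
  rwa [show a * t * (t⁻¹ * (b * t * (a * t)⁻¹) * t⁻¹⁻¹) * (b * t)⁻¹ = ⁅a, b⁆ by
    rw [commutatorElement_def]; group] at this

theorem dc [Finite G] (w' : WC L U T t w) (k : WK L U T t w) (cl : ClsI L) {y s : G}
    (hy : y ∈ T ⊓ N[L]) (y2 : y * y = 1) (sT : s ∈ T) (sL : s ∉ N[L]) (ys : Commute y s) :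
    ∃ m ∈ N[L ⊔ cj t L], Commute (m * t * m⁻¹) y := by
  have hs := w'.syl.le sT
  obtain ⟨yT, yL⟩ := mem_inf.1 hy
  have yM := w'.syl.le yT
  have ti : t⁻¹ = t := inv_eq_of_mul_eq_one_left w'.t2
  have yi : y⁻¹ = y := inv_eq_of_mul_eq_one_left y2
  have g : t * s ∈ N[L] := by
    have := inv_mem ((k.perm _ (inv_mem hs)).resolve_left fun e => sL (inv_mem_iff.1 e))
    rwa [mul_inv_rev, inv_inv, ti] at this
  have e0 : t * s * y * (t * s)⁻¹ = t * y * t⁻¹ := by rw [mul_assoc t, ← ys.eq]; group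
  obtain ⟨l, hl, e⟩ := cl (T ⊓ N[L]) inf_le_right (w'.syl.isPGroup.to_le inf_le_left) y hy
    (y2 ▸ one_mem _) _ (mem_inf.2 ⟨mul_mem w'.tT sT, g⟩)
  have nC : N[L] ≤ N[C[L]] := normalizer_le_normalizer_centralizer _
  have l2 : t * l⁻¹ * t⁻¹ ∈ C[L] := mem_C fun a ha => (w'.com a ha _ (inv_mem hl)).symm
  obtain ⟨d, hd⟩ : ∃ d, d = l * t * l⁻¹ := ⟨_, rfl⟩
  have d2 : d * d = 1 := by rw [hd, conj_mul, w'.t2]; group
  have di : d⁻¹ = d := inv_eq_of_mul_eq_one_left d2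
  have lM : l ∈ N[L ⊔ cj t L] := le_normalizer (mem_sup_left hl)
  have dM : d ∈ N[L ⊔ cj t L] := hd ▸ mul_mem (mul_mem lM (w'.syl.le w'.tT)) (inv_mem lM)
  have w1 : d * y * (d * y) ∈ C[L] := by
    have := mul_mem (conj_mem (nC (le_normalizer hl)) (comm_mem_left
      (nC (mul_mem (mul_mem g yL) (inv_mem g))) l2)) e
    rw [show l * (t * s) * y * (l * (t * s))⁻¹ = l * (t * s * y * (t * s)⁻¹) * l⁻¹ by group, e0] at this
    convert this using 1
    nth_rewrite 2 [← di, ← yi]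
    rw [hd, commutatorElement_def]; group
  have dx : d * (d * y) * d⁻¹ = (d * y)⁻¹ := by rw [← mul_assoc, d2, one_mul, mul_inv_rev, yi]
  have yx : y * (d * y) * y⁻¹ = (d * y)⁻¹ := by
    rw [mul_inv_rev, yi, di]; simp only [mul_assoc, y2, mul_one]
  have w2 : d * y * (d * y) ∈ C[L ⊔ cj t L] := by
    rw [H83.centralizer_sup]
    refine mem_inf.2 ⟨w1, inv_mem_iff.1 (mem_C ?_)⟩
    rintro _ ⟨a, ha, rfl⟩
    have e1 : t * a * t⁻¹ = d * (l * a * l⁻¹) * d⁻¹ := by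
      calc _ = l * (t * a * t⁻¹) * l⁻¹ := by rw [(w'.com l hl a ha).eq, mul_inv_cancel_right]
        _ = _ := by rw [hd]; group
    change Commute _ (t * a * t⁻¹)
    rw [e1, mul_inv_rev, ← dx, conj_mul]
    exact (comm_of_C w1 (conj_mem (le_normalizer hl) ha)).map (MulAut.conj d)
  obtain ⟨j, hj⟩ := odd_orderOf_of_mem w'.odd w2
  have xM := mul_mem dM yM
  have e1 : d * y * y = d := by rw [mul_assoc, y2, mul_one]
  generalize d * y = x at *
  have e2 : x ^ (2 * j + 1) * x ^ (2 * j + 1) = 1 := by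
    rw [← (Commute.refl x).mul_pow, ← hj, pow_orderOf_eq_one]
  have e3 : x ^ j * l * t * (x ^ j * l)⁻¹ = x ^ (2 * j + 1) * y := by
    calc _ = x ^ j * (d * (x ^ j)⁻¹ * d⁻¹) * d := by rw [hd]; group
      _ = _ := by rw [← conj_inv, ← conj_pow, dx, inv_pow, inv_inv, pow_succ, mul_assoc _ x, e1,
                    two_mul, pow_add]
  refine ⟨x ^ j * l, mul_mem (pow_mem xM j) lM, e3 ▸ Commute.mul_left ?_ (Commute.refl y)⟩
  exact (show Commute y _ from mul_inv_eq_iff_eq_mul.1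
    (by rw [← conj_pow, yx, inv_pow, inv_eq_of_mul_eq_one_left e2])).symm

theorem nr (hk : WKStmt.{u}) : NRStmt.{u} := by
  rintro G _ _ L U T t w c cl wf fx g hy s sT sL ys
  have k := hk L U T t w c
  obtain ⟨m, hm, e⟩ := dc c k cl hy (by rw [conj_mul, c.w2]; group) sT sL ys
  have h1 : g⁻¹ * m * t * (g⁻¹ * m)⁻¹ ∈ C1[w] := mem_C1.2 (by
    have := e.map (MulAut.conj g⁻¹)
    simp only [MulAut.conj_apply] at this
    convert this using 1 <;> group)
  obtain ⟨a, -, ha⟩ := IsSylowIn.exists_conj_le wf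
    (isPGroup_zpowers (is2_of_sq (g := g⁻¹ * m * t * (g⁻¹ * m)⁻¹) (by rw [conj_mul, c.t2]; group)))
    (zpowers_le.2 h1)
  have h2 := ha (conj_mem_conj_smul.2 (mem_zpowers _))
  rw [show a * (g⁻¹ * m * t * (g⁻¹ * m)⁻¹) * a⁻¹ = a * g⁻¹ * m * t * (a * g⁻¹ * m)⁻¹ by group] at h2
  have h3 := fx (a * g⁻¹ * m) (by rintro _ rfl; exact c.syl.le h2.1)
  have := mnorm c k (inv_mem h3) (c.syl.le h2.1) h2.2
  exact k.tn (by convert this using 1; group)

/-- `P` lies in the conjugate of `T` by `g`. -/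
def Ins (T : Subgroup G) (g : G) (P : Subgroup G) : Prop := ∀ x ∈ P, g⁻¹ * x * g ∈ T

/-- The conjugates by `g` and by `h` cut out the same subgroup of `P`. -/
def Same (L : Subgroup G) (g h : G) (P : Subgroup G) : Prop :=
  ∀ x ∈ P, g⁻¹ * x * g ∈ N[L] ↔ h⁻¹ * x * h ∈ N[L]

/-- All conjugates cut out the same subgroup. -/
def Good (L T P : Subgroup G) : Prop := ∀ g h, Ins T g P → Ins T h P → Same L g h P

section NS

variable [Finite G] {P : Subgroup G}

theorem key (sy : IsSylowIn 2 T ⊤) (ih : ∀ Q : Subgroup G, P < Q → Good L T Q) {Y : Subgroup G}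
    (hY : Y ≤ N[P]) {g h : G} (h1 : P < cj g T ⊓ Y) (h2 : P < cj h T ⊓ Y) :
    ∃ y ∈ Y, Same L g (y⁻¹ * h) P := by
  have p : ∀ a, IsPGroup 2 (cj a T ⊓ Y : Subgroup G) := fun a =>
    (isPGroup_conj_smul sy.isPGroup a).to_le inf_le_left
  obtain ⟨R, hR, l⟩ := exists_isSylowIn_ge (p h) (inf_le_right (b := Y))
  obtain ⟨a, -, ha⟩ := sy.exists_conj_le hR.isPGroup le_top
  obtain ⟨y, hy, l'⟩ := hR.exists_conj_le (p g) inf_le_right
  have r : ∀ x ∈ R, a⁻¹⁻¹ * x * a⁻¹ ∈ T := fun x hx => by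
    rw [inv_inv]; exact ha (conj_mem_conj_smul.2 hx)
  have s1 := ih _ h2 h a⁻¹ (fun x hx => mem_cj.1 hx.1) fun x hx => r x (l hx)
  have s2 := ih _ h1 g (y⁻¹ * a⁻¹) (fun x hx => mem_cj.1 hx.1) fun x hx => by
    have := r _ (l' (conj_mem_conj_smul.2 hx))
    convert this using 1; group
  refine ⟨y, hy, fun x hx => (s2 x (h1.le hx)).trans ?_⟩
  have := (s1 _ (h2.le (conj_mem (hY hy) hx))).symm
  convert this using 2 <;> group

theorem same_of_t (c : WC L U T t w) (k : WK L U T t w) (fx : Fix1 N[L ⊔ cj t L] {t}) {g h : G}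
    (hg : Ins T g P) (hh : Ins T h P) (ht : g * t * g⁻¹ ∈ P) : Same L g h P := by
  have m : h⁻¹ * g ∈ N[L ⊔ cj t L] := fx _ (by
    rintro _ rfl
    have := c.syl.le (hh _ ht)
    convert this using 1; group)
  refine fun x hx => ⟨fun e => ?_, fun e => ?_⟩
  · have := mnorm c k m (c.syl.le (hg x hx)) e
    convert this using 1; group
  · have := mnorm c k (inv_mem m) (c.syl.le (hh x hx)) e
    convert this using 1; group

theorem lt_of_not (c : WC L U T t w) {g : G} (hg : Ins T g P) (ht : g * t * g⁻¹ ∉ P) :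
    P < cj g T ⊓ N[P] :=
  lt_inf_normalizer_of_lt (isPGroup_conj_smul c.syl.isPGroup g)
    (lt_of_le_of_ne (fun x hx => mem_cj.2 (hg x hx)) fun e => ht (e ▸ conj_mem_conj_smul.2 c.tT))

theorem star (c : WC L U T t w) (k : WK L U T t w) (sy : IsSylowIn 2 T ⊤)
    (fx : Fix1 N[L ⊔ cj t L] {t}) (ih : ∀ Q : Subgroup G, P < Q → Good L T Q) (hP : P ≤ T) {h x : G}
    (hh : Ins T h P) (ne : ¬ Same L 1 h P) (xT : x ∈ T) (xN : x ∈ N[P])
    (xK : ∀ y ∈ P, h⁻¹ * y * h ∈ N[L] → h⁻¹ * (x * y * x⁻¹) * h ∈ N[L]) : x ∈ P := by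
  by_contra xP
  have h1 : Ins T 1 P := fun y hy => by simpa using hP hy
  have l := lt_of_not c hh fun e => ne fun y hy => (same_of_t c k fx hh h1 e y hy).symm
  have l1 : cj h T ⊓ N[P] ≤ N[P ⊓ cj h N[L]] := fun a ha => mem_N_of_conj fun y hy =>
    mem_inf.2 ⟨conj_mem ha.2 hy.1, mem_cj.2 (by
      have := mnorm c k (c.syl.le (mem_cj.1 ha.1)) (c.syl.le (hh y hy.1)) (mem_cj.1 hy.2)
      convert this using 1; group)⟩
  obtain ⟨y, hy, s⟩ := key (L := L) sy ih (Y := N[P] ⊓ N[P ⊓ cj h N[L]]) inf_le_left (g := 1) (h := h)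
    (lt_of_le_of_ne (le_inf (fun a ha => mem_cj.2 (h1 a ha)) (le_inf le_normalizer (l.le.trans l1)))
      fun e => xP (e ▸ mem_inf.2 ⟨mem_cj.2 (by simpa using xT), mem_inf.2 ⟨xN,
        mem_N_of_conj fun y hy => mem_inf.2 ⟨conj_mem xN hy.1, mem_cj.2 (xK y hy.1 (mem_cj.1 hy.2))⟩⟩⟩))
    (l.trans_le (le_inf inf_le_left (le_inf inf_le_right l1)))
  refine ne fun a ha => (s a ha).trans ⟨fun e => ?_, fun e => ?_⟩
  · have := conj_mem (inv_mem hy.2) (x := y * a * y⁻¹)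
      (mem_inf.2 ⟨conj_mem hy.1 ha, mem_cj.2 (by convert e using 1; group)⟩)
    have := mem_cj.1 this.2
    convert this using 1; group
  · have := mem_cj.1 (conj_mem hy.2 (mem_inf.2 ⟨ha, mem_cj.2 e⟩)).2
    convert this using 1; group

theorem core (c : WC L U T t w) (k : WK L U T t w) (sy : IsSylowIn 2 T ⊤) (ab : AB L T t w)
    (fx : Fix1 N[L ⊔ cj t L] {t}) (hr : NR L T w) (ih : ∀ Q : Subgroup G, P < Q → Good L T Q)
    (hP : P ≤ T) {n : G} (hn : n ∈ N[P]) : Same L 1 n P := by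
  by_contra ne
  have nP : ∀ {x}, x ∈ P → n⁻¹ * x * n ∈ P := fun {x} hx => by
    simpa using conj_mem (inv_mem hn) hx
  have iN : Ins T n P := fun x hx => hP (nP hx)
  have wi : w⁻¹ = w := inv_eq_of_mul_eq_one_left c.w2
  have wU := c.wZ.1
  have wL : w ∈ N[L] := le_normalizer (c.wl.syl.le wU)
  have wT := c.UT wU
  obtain ⟨z, hz⟩ : ∃ z, z = w * (t * w * t⁻¹) := ⟨_, rfl⟩
  have zc : ∀ {x}, x ∈ T → Commute x z := fun {x} hx => hz ▸ mem_C1.1 (k.zT hx)
  have zT : z ∈ T := hz ▸ mul_mem wT (mul_mem (mul_mem c.tT wT) (inv_mem c.tT))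
  have zL : z ∈ N[L] := hz ▸ mul_mem wL (centralizer_le_normalizer _
    (mem_C fun a ha => (c.com a ha w (c.wl.syl.le wU)).symm))
  have z2 : z * z = 1 := by
    have := (c.com w (c.wl.syl.le wU) w (c.wl.syl.le wU)).mul_pow 2
    rw [conj_pow, pow_two, pow_two, c.w2, ← hz] at this
    rw [this]; group
  have w0 : ∀ {x}, x ∈ T → x ∈ N[L] → Commute x w := fun {x} a b => mem_C1.1 (c.wc (mem_inf.2 ⟨a, b⟩))
  have w1 : ∀ {x}, x ∈ T → x ∉ N[L] → w * x * w⁻¹ = z * x := fun {x} a b => by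
    rw [hz, ← (k.Tsw x a b).2.2.1, wi]; group
  have w2 : ∀ {x}, x ∈ T → w * x * w⁻¹ = x ∨ w * x * w⁻¹ = z * x := fun {x} a => by
    by_cases b : x ∈ N[L]
    · left; rw [← (w0 a b).eq, mul_inv_cancel_right]
    · exact .inr (w1 a b)
  obtain ⟨s0, sP, s1, s2⟩ : ∃ s0 ∈ P, n⁻¹ * s0 * n ∈ N[L] ∧ s0 ∉ N[L] := by
    by_contra! h
    have h1 : n ∈ N[P ⊓ N[L]] := mem_N_of_conj fun y hy =>
      mem_inf.2 ⟨conj_mem hn hy.1, h _ (conj_mem hn hy.1) (by simpa [mul_assoc] using hy.2)⟩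
    refine ne fun x hx => ⟨fun e => ?_, fun e => by simpa using h x hx e⟩
    simpa using (conj_mem (inv_mem h1) (mem_inf.2 ⟨hx, by simpa using e⟩)).2
  have cz : ∀ {x y : G}, Commute y x → x * y * x⁻¹ = y := fun {x y} e => by
    rw [← e.eq, mul_inv_cancel_right]
  have zP : z ∈ P := star c k sy fx ih hP iN ne zT
    (mem_N_of_conj fun y hy => by rwa [cz (zc (hP hy))]) fun y hy e => by rwa [cz (zc (hP hy))]
  have wN : w ∈ N[P] := mem_N_of_conj fun y hy => by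
    rcases w2 (hP hy) with e | e <;> rw [e]
    exacts [hy, mul_mem zP hy]
  by_cases wP : w ∈ P
  · have rP := conj_mem hn wP
    have cm : ∀ {x}, Commute (n⁻¹ * x * n) w → Commute (n * w * n⁻¹) x := fun {x} e => by
      have := e.symm.map (MulAut.conj n)
      simp only [MulAut.conj_apply] at this
      convert this using 1; group
    by_cases rL : n * w * n⁻¹ ∈ N[L]
    · exact hr n (mem_inf.2 ⟨hP rP, rL⟩) s0 (hP sP) s2 (cm (w0 (iN _ sP) s1))
    have e1 := w1 (hP rP) rL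
    by_cases uL : n⁻¹ * w * n ∈ N[L]
    · rw [cz (cm (w0 (iN _ wP) uL)), eq_comm, mul_eq_right] at e1
      exact k.z1 (hz ▸ e1)
    have e2 := w1 (iN _ wP) uL
    refine rL (ab n (hz ▸ mem_C1.2 ?_) (hP rP))
    have e3 : z = w * (n * w * n⁻¹) * w⁻¹ * (n * w * n⁻¹)⁻¹ := by rw [e1]; group
    have e4 : z⁻¹ = n⁻¹ * (w * (n * w * n⁻¹) * w⁻¹ * (n * w * n⁻¹)⁻¹) * n := by
      rw [show z = w * (n⁻¹ * w * n) * w⁻¹ * (n⁻¹ * w * n)⁻¹ by rw [e2]; group]; group
    rw [← e3, inv_eq_of_mul_eq_one_left z2] at e4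
    change n * z = z * n
    nth_rewrite 1 [e4]; group
  have W : ∀ h, Ins T h P → ¬ Same L 1 h P → h⁻¹ * z * h ∉ N[L] := fun h a b e =>
    wP (star c k sy fx ih hP a b wT wN fun y hy e' => by
      rcases w2 (hP hy) with e1 | e1 <;> rw [e1]
      · exact e'
      · convert mul_mem e e' using 1; group)
  have W' : ∀ h, Ins T h P → ¬ Same L n h P → h⁻¹ * (n * z * n⁻¹) * h ∉ N[L] := fun h a b e =>
    W (n⁻¹ * h) (fun y hy => by convert a _ (conj_mem hn hy) using 1; group)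
      (fun s => b fun y hy => by convert s _ (nP hy) using 2 <;> group) (by convert e using 1; group)
  obtain ⟨s, hs⟩ : ∃ s, s = n * z * n⁻¹ := ⟨_, rfl⟩
  have sP : s ∈ P := hs ▸ conj_mem hn zP
  have sL : s ∉ N[L] := by
    simpa [← hs] using W' 1 (fun y hy => by simpa using hP hy) fun e => ne fun y hy => (e y hy).symm
  have ss : s * s = 1 := by rw [hs, conj_mul, z2]; group
  have sc : P ≤ T ⊓ C1[s] := fun y hy => mem_inf.2 ⟨hP hy, mem_C1.2 (by
    have := (zc (iN y hy)).map (MulAut.conj n)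
    simp only [MulAut.conj_apply] at this
    rw [hs]; convert this using 1; group)⟩
  have sc' : T ⊓ C1[s] ≤ P := by
    by_contra h
    obtain ⟨x, hx, xP⟩ := SetLike.exists_of_lt (lt_inf_normalizer_of_lt
      (c.syl.isPGroup.to_le inf_le_left) (lt_of_le_not_ge sc h))
    refine W' (x * n) (fun y hy => ?_) (fun e => xP (star c k sy fx ih hP iN ne hx.1.1 hx.2
      fun y hy e' => (e _ (conj_mem hx.2 hy)).2 (by convert e' using 1; group))) ?_
    · convert iN _ (conj_mem (inv_mem hx.2) hy) using 1; group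
    · rw [← hs, mul_inv_rev, show n⁻¹ * x⁻¹ * s * (x * n) = n⁻¹ * (x⁻¹ * s * x⁻¹⁻¹) * n by group,
        cz (mem_C1.1 hx.1.2).symm.inv_right, hs]
      convert zL using 1; group
  have sw := k.Tsw s (hP sP) sL
  have cU : ∀ a b : U, Commute (a : G) (s * b * s⁻¹) := fun a b =>
    k.idp.2.2.1 _ a.2 _ (sw.1 ▸ conj_mem_conj_smul.2 b.2)
  let f : U →* G := (U.subtype.noncommCoprod ((MulAut.conj s).toMonoidHom.comp U.subtype) cU).comp
    ((MonoidHom.id U).prod (MonoidHom.id U))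
  have hf : ∀ a : U, f a = a * (s * a * s⁻¹) := fun a => rfl
  have fP : (⊤ : Subgroup U).map f ≤ P := by
    rintro _ ⟨a, -, rfl⟩
    refine sc' (mem_inf.2 ⟨hf a ▸ mul_mem (c.UT a.2)
      (mul_mem (mul_mem (hP sP) (c.UT a.2)) (inv_mem (hP sP))), mem_C1.2 ?_⟩)
    change f a * s = s * f a
    rw [hf, show s * (a * (s * a * s⁻¹)) = s * a * s⁻¹ * (s * s) * a * s⁻¹ by group, ss, mul_one,
      ← (cU a a).eq, inv_eq_of_mul_eq_one_left ss]
  have wc := c.wl.zc c.wZ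
  rw [← map_subgroupOf_eq_of_le (le_refl U), subgroupOf_self, ← map_commutator] at wc
  obtain ⟨a, ha, rfl⟩ := wc
  have h1 : f a ∈ ⁅P, P⁆ := commutator_mono fP fP (map_commutator _ _ f ▸ mem_map_of_mem f ha)
  have h2 : ⁅P, P⁆ ≤ cj n N[L] := commutator_le.2 fun x hx y hy => mem_cj.2 (by
    have := comm_mem c k (c.syl.le (iN x hx)) (c.syl.le (iN y hy))
    convert this using 1
    simp only [commutatorElement_def]; group)
  refine W n iN ne ?_
  have := mem_cj.1 (h2 h1)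
  rwa [hf, show s * (a : G) * s⁻¹ = _ from sw.2.2.1, show (a : G) * _ = z from hz.symm] at this

theorem good (c : WC L U T t w) (k : WK L U T t w) (sy : IsSylowIn 2 T ⊤) (ab : AB L T t w)
    (fx : Fix1 N[L ⊔ cj t L] {t}) (hr : NR L T w) (P : Subgroup G) : Good L T P := by
  induction h : Nat.card G - Nat.card P using Nat.strong_induction_on generalizing P with
  | _ m ih =>
  intro g h hg hh
  have ih' : ∀ Q : Subgroup G, cj g⁻¹ P < Q → Good L T Q := fun Q hQ => ih _ (by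
    have a : Nat.card P < Nat.card Q := by
      rw [← card_conj_smul P g⁻¹]
      exact lt_of_le_of_ne (card_le_of_le hQ.le) fun e => hQ.ne (eq_of_le_of_card_ge hQ.le e.ge)
    have b := Q.card_le_card_group
    omega) Q rfl
  have m : ∀ {x}, x ∈ cj g⁻¹ P ↔ g * x * g⁻¹ ∈ P := fun {x} => by rw [mem_cj, inv_inv]
  have l : cj g⁻¹ P ≤ T := fun x hx => by simpa [mul_assoc] using hg _ (m.1 hx)
  have i1 : Ins T 1 (cj g⁻¹ P) := fun x hx => by simpa using l hx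
  have i2 : Ins T (g⁻¹ * h) (cj g⁻¹ P) := fun x hx => by
    convert hh _ (m.1 hx) using 1; group
  suffices s : Same L 1 (g⁻¹ * h) (cj g⁻¹ P) from fun x hx => by
    convert s (g⁻¹ * x * g) (m.2 (by simpa [mul_assoc] using hx)) using 2 <;> group
  by_contra ne
  obtain ⟨y, hy, s⟩ := key (L := L) sy ih' le_rfl
    (lt_of_not c i2 fun e => ne fun x hx => (same_of_t c k fx i2 i1 e x hx).symm)
    (lt_of_not c i1 fun e => ne (same_of_t c k fx i1 i2 e))
  rw [mul_one] at s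
  exact ne fun x hx => (core c k sy ab fx hr ih' l (inv_mem hy) x hx).trans (s x hx).symm

end NS

theorem ns (hk : WKStmt.{u}) : NSStmt.{u} := by
  rintro G _ _ L U T t w c sy ab fx hr
  refine ⟨inf_le_left, fun x hx g h => mem_inf.2 ⟨h, ?_⟩⟩
  have := (good c (hk L U T t w c) sy ab fx hr (zpowers (g * x * g⁻¹)) g 1 (fun y hy => by
    have : zpowers (g * x * g⁻¹) ≤ cj g T := zpowers_le.2 (conj_mem_conj_smul.2 hx.1)
    exact mem_cj.1 (this hy)) (fun y hy => by simpa using zpowers_le.2 h hy) _ (mem_zpowers _)).1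
    (by simpa [mul_assoc] using hx.2)
  simpa using this

end NS

namespace F


open Cfsg Cfsg.Agent.H63 Cfsg.Agent.H63.SL Subgroup Cfsg.Agent.H8 Cfsg.Agent.H27.End
open Cfsg.Agent.H83 Cfsg.Agent.H45.Spl Cfsg.Agent.H87
open Cfsg.Agent.H63.WR (cc FixC Ne2 WX ClsI Hat WF AB NR)
open Cfsg.Agent.H63.A8 (Side')
open scoped commutatorElement Pointwise


variable {G : Type u} [Group G]

theorem side {H S₁ S₂ Y : Subgroup G} (l : S₁ ≤ H) (i : Indec S₁) (zc : Z[S₁] ≤ ⁅S₁, S₁⁆)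
    (bc : ∀ a ∈ S₁ ⊓ C[⁅S₁, S₁⁆], ∀ b ∈ S₁ ⊓ C[⁅S₁, S₁⁆], Commute a b)
    (y1 : S₁ ≤ Y) (y2 : Y ≤ H ⊓ C[S₂]) (y3 : ⁅Y, Y⁆ = Y) :
    Side' (S₁.subgroupOf H) (S₂.subgroupOf H) := by
  have inj := H.subtype_injective
  have m : ∀ {A D : Subgroup G}, A ≤ H → D ≤ H → ∀ x : H,
      x ∈ ⁅A.subgroupOf H, D.subgroupOf H⁆ ↔ x.1 ∈ ⁅A, D⁆ :=
    fun {A D} h h' x => by
      rw [← mem_map_iff_mem inj, map_commutator, map_subgroupOf_eq_of_le h,
        map_subgroupOf_eq_of_le h']; rfl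
  have cH : ⁅S₁, S₁⁆ ≤ H := (commutator_mono l l).trans (comm_self_le H)
  have up : ∀ x : H, x ∈ S₁.subgroupOf H ⊓ C[⁅S₁.subgroupOf H, S₁.subgroupOf H⁆] →
      x.1 ∈ S₁ ⊓ C[⁅S₁, S₁⁆] := fun x hx => mem_inf.2 ⟨hx.1, fun y hy =>
        congrArg Subtype.val (hx.2 ⟨y, cH hy⟩ ((m l l _).2 hy))⟩
  refine ⟨fun A D h => ?_, fun x hx => (m l l x).2 (zc (mem_inf.2 ⟨hx.1, fun y hy =>
      congrArg Subtype.val (hx.2 ⟨y, l hy⟩ hy)⟩)),
    fun a ha b hb => Subtype.ext (bc _ (up a ha) _ (up b hb)),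
    Y.subgroupOf H, fun a ha b hb => Subtype.ext ((mem_inf.1 (y2 ha)).2 _ hb),
    fun x hx => (m (y2.trans inf_le_left) (y2.trans inf_le_left) x).2 (y3.ge (y1 hx))⟩
  have e := map_subgroupOf_eq_of_le l
  refine (i (A.map H.subtype) (D.map H.subtype) ⟨(map_mono h.1).trans e.le,
    (map_mono h.2.1).trans e.le, ?_,
    by rw [← map_inf _ _ _ inj, h.2.2.2.1, Subgroup.map_bot],
    by rw [← Subgroup.map_sup, h.2.2.2.2, e]⟩).imp
    (map_eq_bot_iff_of_injective _ inj).1 (map_eq_bot_iff_of_injective _ inj).1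
  rintro _ ⟨a, ha, rfl⟩ _ ⟨b, hb, rfl⟩
  exact congrArg Subtype.val (h.2.2.1 a ha b hb)

theorem fin (hk : WKStmt.{u}) : FinStmt.{u} := by
  intro G _ _ L U T t w c X hn hs gen LX hT sc
  have k := hk L U T t w c
  have pf : ⁅L, L⁆ = L := isPerfect_iff.1 c.wl.qs.1
  have pf2 : ⁅H63.cj t L, H63.cj t L⁆ = H63.cj t L := isPerfect_iff.1 k.swap.wl.qs.1
  have UL := c.wl.syl.le
  have UL2 := k.swap.wl.syl.le
  have L2X : H63.cj t L ≤ X := by
    rintro _ ⟨a, ha, rfl⟩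
    exact hn.conj_mem a (LX ha) t
  have wX : w ∈ X := LX (UL c.wZ.1)
  have XX : ⁅X, X⁆ = X := by
    have hN : ((⁅X, X⁆ : Subgroup G).subgroupOf X).Normal := Normal.subgroupOf inferInstance X
    rcases hN.eq_bot_or_eq_top with h | h
    · exfalso
      have : (⟨w, wX⟩ : X) ∈ (⁅X, X⁆ : Subgroup G).subgroupOf X :=
        commutator_mono LX LX (pf.ge (UL c.wZ.1))
      rw [h, mem_bot] at this
      exact c.w1 (congrArg Subtype.val this)
    · exact le_antisymm (comm_self_le X) (subgroupOf_eq_top.1 h)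
  have two : ∀ x ∈ T, ∀ y ∈ T, x ∉ N[L] → y ∉ N[L] → x * y ∈ N[L] := by
    intro x hx y hy h1 h2
    have := (mul_mem_iff_of_index_two (H := (T ⊓ N[L]).subgroupOf T) k.idx
      (a := ⟨x, hx⟩) (b := ⟨y, hy⟩)).2 (iff_of_false (fun h => h1 h.2) (fun h => h2 h.2))
    exact this.2
  have le1 : T ⊓ X ≤ T ⊓ N[L] := by
    have e := commutator_inf_eq_focalSubgroup hT.toSylowTop
    have h1 : T ⊓ X ≤ T.focalSubgroup := by
      intro x hx
      have : x ∈ _root_.commutator G ⊓ (hT.toSylowTop : Subgroup G) :=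
        mem_inf.2 ⟨commutator_mono le_top le_top (XX.ge hx.2), hx.1⟩
      rwa [e] at this
    refine h1.trans ?_
    rw [focalSubgroup_def, closure_le]
    rintro g ⟨hg, x, hx, v, rfl⟩
    refine mem_inf.2 ⟨hg, ?_⟩
    have hy : v * x⁻¹ * v⁻¹ ∈ T := by
      have := mul_mem (inv_mem hx) hg
      rwa [show x⁻¹ * ⁅x, v⁆ = v * x⁻¹ * v⁻¹ by rw [commutatorElement_def]; group] at this
    rw [show ⁅x, v⁆ = x * (v * x⁻¹ * v⁻¹) by rw [commutatorElement_def]; group]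
    by_cases h : x ∈ N[L]
    · exact mul_mem h (sc.2 x⁻¹ (inv_mem (mem_inf.2 ⟨hx, h⟩)) v hy).2
    · refine two _ hx _ hy h fun h' => h ?_
      have := sc.2 _ (mem_inf.2 ⟨hy, h'⟩) v⁻¹ (by
        rw [show v⁻¹ * (v * x⁻¹ * v⁻¹) * v⁻¹⁻¹ = x⁻¹ by group]; exact inv_mem hx)
      rw [show v⁻¹ * (v * x⁻¹ * v⁻¹) * v⁻¹⁻¹ = x⁻¹ by group] at this
      exact inv_mem_iff.1 this.2
  have dec : ∀ g : G, g ∈ X ∨ g * t ∈ X := by
    intro g
    have : g ∈ X ⊔ zpowers t := gen ▸ mem_top g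
    obtain ⟨x, hx, _, ⟨n, rfl⟩, rfl⟩ := mem_sup_of_normal_left.1 this
    have t2 : t ^ (2 : ℤ) = 1 := by rw [zpow_two, c.t2]
    rcases Int.even_or_odd' n with ⟨m, rfl | rfl⟩
    · left; simpa [zpow_mul, t2] using hx
    · right
      simp only [zpow_add, zpow_mul, t2, one_zpow, one_mul, zpow_one, mul_assoc, c.t2, mul_one]
      exact hx
  have eq1 : T ⊓ X = T ⊓ N[L] := by
    refine le_antisymm le1 fun x hx => mem_inf.2 ⟨hx.1, (dec x).resolve_right fun h => k.tn ?_⟩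
    have := (le1 (mem_inf.2 ⟨mul_mem hx.1 c.tT, h⟩)).2
    exact (mul_mem_cancel_left (mem_inf.1 hx).2).1 this
  refine ⟨eq1, XX, fun e => ?_⟩
  have hS : H8.IsSylowIn 2 (U ⊔ H63.cj t U) X := by
    have := hT.inf_of_le_normalizer (N := X) (by rw [normalizer_eq_top])
    rwa [top_inf_eq, eq1, e] at this
  have l1 : U ≤ X := UL.trans LX
  have l2 : H63.cj t U ≤ X := UL2.trans L2X
  have c1 : L ≤ C[H63.cj t L] := fun a ha => mem_C (by
    rintro _ ⟨b, hb, rfl⟩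
    exact c.com a ha b hb)
  have c2 : H63.cj t L ≤ C[L] := le_centralizer_iff.1 c1
  have hp : IsInternalDirectProduct (U.subgroupOf X) ((H63.cj t U).subgroupOf X) hS.toSylow :=
    ⟨comap_mono le_sup_left, comap_mono le_sup_right,
      fun a ha b hb => Subtype.ext (k.idp.2.2.1 _ ha _ hb),
      eq_bot_iff.2 fun x hx => Subtype.ext (idp_one k.idp hx.1 hx.2), (subgroupOf_sup l1 l2).symm⟩
  have hc : Nat.card (U.subgroupOf X) = Nat.card ((H63.cj t U).subgroupOf X) := by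
    rw [Nat.card_congr (subgroupOfEquivOfLe l1).toEquiv,
      Nat.card_congr (subgroupOfEquivOfLe l2).toEquiv]
    exact (card_conj_smul U t).symm
  have s1 := side (S₂ := H63.cj t U) l1 c.wl.ind c.wl.zc c.wl.bc
    UL (le_inf LX (c1.trans (H83.cent_anti UL2))) pf
  have s2 := side (S₂ := U) l2 k.swap.wl.ind k.swap.wl.zc k.swap.wl.bc
    UL2 (le_inf L2X (c2.trans (H83.cent_anti UL))) pf2
  have h := S2767.result _ _ _ (H32.A8Spl.spl _ _ _ hp hc s1 s2)
    (H32.A8Spl.spl _ _ _ (idp_symm hp) hc.symm s2 s1)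
    hp.2.2.1
  rw [hp.2.2.2.1, show normalClosure ((⊥ : Subgroup X) : Set X) = ⊥ from normalClosure_eq_self ⊥,
    bot_sup_eq] at h
  have nc : ∀ {A : Subgroup G} {a : G} (ha : a ∈ A) (hX : a ∈ X), a ≠ 1 →
      normalClosure ((A.subgroupOf X : Subgroup X) : Set X) = ⊤ := by
    intro A a ha hX h1
    refine (normalClosure_normal.eq_bot_or_eq_top).resolve_left fun h0 => h1 ?_
    have : (⟨a, hX⟩ : X) ∈ normalClosure ((A.subgroupOf X : Subgroup X) : Set X) :=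
      subset_normalClosure ha
    rw [h0, mem_bot] at this
    exact congrArg Subtype.val this
  rw [nc c.wZ.1 wX c.w1, nc k.swap.wZ.1 (l2 k.swap.wZ.1) k.swap.w1] at h
  have hpf : Group.IsPerfect X := isPerfect_iff.2 XX
  have hw : (⟨w, wX⟩ : X) ∈ pPrimeCore 2 X := h Group.IsPerfect.mem_commutator
  have ho := odd_orderOf_of_mem (Nat.coprime_two_right.1 (H3.pPrimeCore_coprime 2 X)) hw
  exact c.w1 (congrArg Subtype.val (eq_one_of_is2 (is2_of_sq (Subtype.ext c.w2)) ho))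

end F

open Cfsg.Agent.H63 in
/-- **WR3** -/
theorem wr3 : Wr3Stmt.{u} := by
  intro G _ _ X L U t wl cl t2 com hat odd e n s gen le
  obtain ⟨T, w, h⟩ := K.w0 L U t wl t2 com hat odd
  obtain ⟨a, b, c⟩ := H72.T.sylStmt K.wk L U T t w h
  have nr := NS.nr K.wk L U T t w h cl b e
  obtain ⟨-, -, k3⟩ := F.fin K.wk L U T t w h X n s gen le a
    (NS.ns K.wk L U T t w h a (c nr) e nr)
  have k := K.wk L U T t w h
  exact k3 (le_antisymm (fun x hx => k.TG x hx.1 (wl.nLK hx.2)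
    (k.swap.wl.nLK (k.nn ⟨h.syl.le hx.1, hx.2⟩))) (H72.T.U_0 h k))

end Cfsg.Agent.H66.T6.H72
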