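import Cfsg.Agent.H72.VBChS
import Cfsg.Agent.H72.VBRig

/-! Project VB (S5262), piece AQ2: the automizer of `Q`. -/

set_option autoImplicit false
set_option linter.unusedSimpArgs false
set_option linter.unnecessarySeqFocus false

namespace Cfsg.Agent.H72.VB

open Cfsg.Agent.H39 Cfsg.Agent.H15.O8 Cfsg.Agent.H97 Cfsg.Agent.H96.VB Cfsg.Agent.H92.UL Subgroup
open Cfsg.Agent.H72.O8T hiding tor
open scoped commutatorElement

universe u

variable {K : Type u} [Field K] {T : Tits K}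

variable (T) in
/-- Restriction to `Q`. -/
def rQ : MulAut (U T) →* MulAut (Q T) where
  toFun β :=
    { toFun := fun x => ⟨β x, chrQ β x x.2⟩
      invFun := fun x => ⟨β⁻¹ x, chrQ β⁻¹ x x.2⟩
      left_inv := fun x => Subtype.ext (β.symm_apply_apply _)
      right_inv := fun x => Subtype.ext (β.apply_symm_apply _)
      map_mul' := fun x y => Subtype.ext (map_mul β _ _) }
  map_one' := rfl
  map_mul' _ _ := rfl

theorem ext_rQ (β : MulAut (U T)) {x : U T} (hx : x ∈ Q T) : ext (rQ T β) x = β x := by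
  rw [ext_apply _ hx]; rfl

variable (T) in
/-- Conjugation on `Q`. -/
def cQ' : U T →* MulAut (Q T) := (rQ T).comp MulAut.conj

theorem ext_cQ (s : U T) {x : U T} (hx : x ∈ Q T) : ext (cQ' T s) x = s * x * s⁻¹ :=
  ext_rQ _ hx

theorem rQ_cQ (l : MulAut (U T)) (s : U T) : rQ T l * cQ' T s = cQ' T (l s) * rQ T l :=
  MulEquiv.ext fun x => Subtype.ext (by
    change l (s * x * s⁻¹) = l s * l x * (l s)⁻¹
    simp)

variable (T) in
/-- The reflection on `Q`. -/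
def wQ : MulAut (Q T) where
  toFun x := ⟨w8 x, w8_mem _⟩
  invFun x := ⟨w8 x, w8_mem _⟩
  left_inv x := Subtype.ext (w8_w8 x.2)
  right_inv x := Subtype.ext (w8_w8 x.2)
  map_mul' x y := Subtype.ext (w8_mul x.2 y.2)

theorem ext_wQ {x : U T} (hx : x ∈ Q T) : ext (wQ T) x = w8 x := by
  rw [ext_apply _ hx]; rfl

theorem wQ_wQ : wQ T * wQ T = 1 := MulEquiv.ext fun x => Subtype.ext (w8_w8 x.2)

theorem wQ_tor (c : Kˣ × Kˣ) : wQ T * rQ T (tor T (swQ T c)) = rQ T (tor T c) * wQ T :=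
  MulEquiv.ext fun x => Subtype.ext (w8_tor c x.2)

theorem D_le_Q : D T ≤ Q T := fun _ h => ⟨h.2.2.2.2.1, h.2.2.2.2.2⟩

theorem V_le_D : V T ≤ D T := fun _ ⟨h1, h2, _, h4, h5, h6, h7⟩ => ⟨h1, h2, h4, h5, h6, h7⟩

theorem Y_le_Q : Y T ≤ Q T := fun _ h => ⟨h.2.2.2.2.2.1, h.2.2.2.2.2.2⟩

theorem conj_Q (s : U T) {x : U T} (hx : x ∈ Q T) : s * x * s⁻¹ ∈ Q T := nQ.conj_mem x hx s

theorem sz_rel {x : U T} (hx : x ∈ Q T) :
    Eqv (w8 (y8 T 1 * w8 x * (y8 T 1)⁻¹))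
      (y8 T 1 * w8 (x8 T 1 * x * (x8 T 1)⁻¹) * (y8 T 1)⁻¹) := by
  obtain ⟨h1, h2⟩ := hx
  unfold Eqv
  o8s
  o8ring T

theorem not_comm {y z : U T} (hy : y ∈ Y T) (hyD : y ∉ D T) (hz : z ∈ Q T) (hzY : w8 z ∈ Y T)
    (hzD : z ∉ D T) : y * z ≠ z * y := by
  intro e
  obtain ⟨h1, h2, h3, h4, h5, h6, h7⟩ := hy
  obtain ⟨k1, k2⟩ := hz
  obtain ⟨l1, l2, -, l4, l5, -, -⟩ := hzY
  change z.a7 = 0 at l1
  change z.b6 = 0 at l2
  change z.b4 = 0 at l4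
  change z.b2 = 0 at l5
  have e3 := congrArg U.a3 e
  o8s at e3
  simp only [h1, h2, h3, h4, h5, h6, h7, k1, k2, l1, l2, l4, l5, map_zero, mul_zero, zero_mul,
    add_zero] at e3
  have e4 : T.θ z.a1 * y.a7 = 0 := by o8g T
  rcases mul_eq_zero.1 e4 with e5 | e5
  · exact hzD ⟨by simpa using e5, l5, l2, l1, k1, k2⟩
  · exact hyD ⟨h1, h2, h5, e5, h6, h7⟩

theorem inv_cases {y : U T} (hy : y ∈ Q T) (h2 : y * y = 1) (hD : y ∉ D T) :
    y ∈ Y T ∨ ∃ u, w8 (u * y * u⁻¹) ∈ Y T := by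
  by_cases hE : y ∈ E T
  · exact Or.inl ((invQ y hE hy h2).resolve_left fun h => hD (V_le_D h))
  · obtain ⟨u, -, -, h, -⟩ := invS y h2 hE
    exact Or.inr ⟨u, h⟩

theorem eqv_x7 {y : U T} (hy : y ∈ Y T) : Eqv (x7 T y.a7) y :=
  ⟨hy.1.symm, hy.2.1.symm, hy.2.2.2.2.1.symm, rfl⟩

theorem eqv_x1 {y : U T} (hy : w8 y ∈ Y T) : Eqv (x1 T y.a1) y :=
  ⟨rfl, hy.2.2.2.2.1.symm, hy.2.1.symm, hy.1.symm⟩

variable (T) in
/-- The automorphisms of `Q` which are trivial on `Q / D`. -/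
def Kr : Subgroup (MulAut (Q T)) where
  carrier := {α | ∀ x ∈ Q T, Eqv (ext α x) x}
  one_mem' := fun x _ => by rw [ext_one]; exact ⟨rfl, rfl, rfl, rfl⟩
  mul_mem' := fun {a b} ha hb x hx => by
    rw [ext_mul]; exact (ha _ (ext_mem _ hx)).trans (hb x hx)
  inv_mem' := fun {a} ha x hx => by
    have := ha _ (ext_mem a⁻¹ hx)
    rw [ext_ext_inv] at this
    exact this.symm

theorem mem_Kr {α : MulAut (Q T)} : α ∈ Kr T ↔ ∀ x ∈ Q T, x⁻¹ * ext α x ∈ D T :=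
  forall₂_congr fun _ hx => ⟨fun e => (modD hx (ext_mem _ hx)).2 e.symm,
    fun e => ((modD hx (ext_mem _ hx)).1 e).symm⟩

section

variable [Finite K] (h : AQ1 T)
include h

theorem Eqv.ext (α : MulAut (Q T)) {x y : U T} (hx : x ∈ Q T) (hy : y ∈ Q T) (e : Eqv x y) :
    Eqv (ext α x) (ext α y) := by
  have h1 := (modD hx hy).2 e
  have h2 := h.chD.2 α _ (D_le_Q h1) h1
  rw [ext_map_mul α (inv_mem hx) hy, ext_map_inv α hx] at h2
  exact (modD (ext_mem _ hx) (ext_mem _ hy)).1 h2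

theorem Kr_normal : (Kr T).Normal := ⟨fun b hb a x hx => by
  rw [ext_mul, ext_mul]
  have := Eqv.ext h a (ext_mem _ (ext_mem a⁻¹ hx)) (ext_mem a⁻¹ hx) (hb _ (ext_mem a⁻¹ hx))
  rwa [ext_ext_inv] at this⟩

theorem inv_mul_mem_Kr {α γ : MulAut (Q T)} :
    γ⁻¹ * α ∈ Kr T ↔ ∀ x ∈ Q T, Eqv (ext α x) (ext γ x) := by
  refine forall₂_congr fun x hx => ⟨fun e => ?_, fun e => ?_⟩
  · have := Eqv.ext h γ (ext_mem _ hx) hx e
    rwa [ext_mul, ext_ext_inv] at this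
  · have := Eqv.ext h γ⁻¹ (ext_mem _ hx) (ext_mem _ hx) e
    rwa [ext_inv_ext, ← ext_mul] at this

theorem notD (α : MulAut (Q T)) {x : U T} (hx : x ∈ Q T) (hD : x ∉ D T) : ext α x ∉ D T :=
  fun e => hD (by simpa using h.chD.2 α⁻¹ _ (ext_mem α hx) e)

theorem kerQ {A : Subgroup (MulAut (Q T))} (hA : LA (Q T) A) : KerQ A := by
  intro α hα hk
  haveI := Kr_normal h
  obtain ⟨s, hs⟩ := hA.two (A ⊓ Kr T) inf_le_left
    (fun a ha => mem_normalizer_iff.2 fun b => ⟨fun hb =>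
      ⟨A.mul_mem (A.mul_mem ha hb.1) (A.inv_mem ha), (Kr_normal h).conj_mem _ hb.2 a⟩, fun hb => by
        have e : b = a⁻¹ * (a * b * a⁻¹) * a⁻¹⁻¹ := by group
        rw [e]
        exact ⟨A.mul_mem (A.mul_mem (A.inv_mem ha) hb.1) (A.inv_mem (A.inv_mem ha)),
          (Kr_normal h).conj_mem _ hb.2 a⁻¹⟩⟩)
    (fun a => by
      obtain ⟨k, hk⟩ := (h.ker a (mem_Kr.1 a.2.2)).2.2
      exact ⟨k, Subtype.ext hk⟩) α ⟨hα, mem_Kr.2 hk⟩
  refine ⟨s, ?_, hs⟩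
  have e := mem_Kr.2 hk (x1 T 1) ⟨rfl, rfl⟩
  rw [hs _ ⟨rfl, rfl⟩] at e
  obtain ⟨-, e1, e2, -⟩ := e
  o8s at e1 e2
  have b8 : s.b8 = 0 := by o8g T
  simp only [b8] at e2
  exact ⟨b8, by o8g T⟩

/-- an automorphism fixing the point at infinity -/
theorem semY (γ : MulAut (Q T)) (hγ : ext γ (x7 T 1) ∈ Y T) :
    ∃ u l, (cQ' T u * rQ T l)⁻¹ * γ ∈ Kr T := by
  have q1 : x1 T 1 ∈ Q T := ⟨rfl, rfl⟩
  have q7 : x7 T 1 ∈ Q T := ⟨rfl, rfl⟩
  have d1 : x1 T 1 ∉ D T := fun e => one_ne_zero (α := K) e.1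
  have d7 : x7 T 1 ∉ D T := fun e => one_ne_zero (α := K) e.2.2.2.1
  have s1 : ext γ (x1 T 1) * ext γ (x1 T 1) = 1 := by
    rw [← ext_map_mul γ q1 q1, show x1 T 1 * x1 T 1 = 1 by ext <;> o8s <;> o8ring T, ext_map_one]
  rcases inv_cases (ext_mem γ q1) s1 (notD h γ q1 d1) with e | ⟨u, e⟩
  · exfalso
    refine not_comm (y := x7 T 1) (z := x1 T 1) (by o8s) d7 q1 (by o8s) d1 (ext_injective γ ?_)
    rw [ext_map_mul γ q7 q1, ext_map_mul γ q1 q7]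
    have a := sqY _ (mul_mem hγ e)
    have b := sqY _ hγ
    have c := sqY _ e
    generalize ext γ (x7 T 1) = p at *
    generalize ext γ (x1 T 1) = r at *
    calc p * r = p * (p * r * (p * r)) * r := by rw [a, mul_one]
      _ = (p * p) * r * p * (r * r) := by group
      _ = r * p := by rw [b, c, one_mul, mul_one]
  · obtain ⟨c, φ, hc⟩ := h.sem (cQ' T u * γ)
      ⟨_, (modD ⟨rfl, rfl⟩ (ext_mem _ q1)).2 (eqv_x1 (by
        rwa [ext_mul, ext_cQ _ (ext_mem _ q1)]))⟩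
      ⟨_, (modD ⟨rfl, rfl⟩ (ext_mem _ q7)).2 (eqv_x7 (by
        rw [ext_mul, ext_cQ _ (ext_mem _ q7)]; exact nY.conj_mem _ hγ u))⟩
    refine ⟨u⁻¹, tor T c * fld T φ, ?_⟩
    rw [mul_inv_rev, map_inv, inv_inv, mul_assoc, inv_mul_mem_Kr h]
    intro x hx
    rw [ext_rQ _ hx]
    exact ((modD (chrQ (tor T c * fld T φ) x hx) (ext_mem _ hx)).1 (hc x hx)).symm

theorem nm_of {A : Subgroup (MulAut (Q T))} (hA : LA (Q T) A) {α : MulAut (Q T)} (hα : α ∈ A)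
    {u : U T} {l : MulAut (U T)} (e : (cQ' T u * rQ T l)⁻¹ * α ∈ Kr T) : Nm α := by
  intro s
  haveI := Kr_normal h
  have cA : ∀ s, cQ' T s ∈ A := fun s => hA.cj s _ fun x hx => ext_cQ s hx
  have e1 : (QuotientGroup.mk' (Kr T)) (cQ' T u * rQ T l) = QuotientGroup.mk' (Kr T) α :=
    QuotientGroup.eq.2 e
  have e2 : α * cQ' T s * α⁻¹ * (cQ' T (u * l s * u⁻¹))⁻¹ ∈ Kr T := by
    rw [← QuotientGroup.eq_one_iff]
    change QuotientGroup.mk' (Kr T) _ = 1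
    rw [map_mul, map_mul, map_mul, map_inv, ← e1, ← map_inv, ← map_mul, ← map_mul, ← map_mul,
      mul_assoc (cQ' T u), rQ_cQ, map_mul (cQ' T), map_mul (cQ' T), map_inv (cQ' T)]
    generalize cQ' T u = a
    generalize cQ' T (l s) = b
    generalize rQ T l = c
    rw [show a * (b * c) * (a * c)⁻¹ * (a * b * a⁻¹)⁻¹ = 1 by group, map_one]
  obtain ⟨r, -, hr⟩ := kerQ h hA _ (A.mul_mem (A.mul_mem (A.mul_mem hα (cA s)) (A.inv_mem hα))
    (A.inv_mem (cA _))) (mem_Kr.1 e2)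
  refine ⟨r * (u * l s * u⁻¹), fun x hx => ?_⟩
  have e3 := hr _ (ext_mem (cQ' T (u * l s * u⁻¹)) (ext_mem α hx))
  rw [ext_mul, ext_mul, ext_mul, ext_inv_ext, ext_inv_ext, ext_cQ _ hx,
    ext_cQ _ (ext_mem α hx)] at e3
  rw [e3]
  generalize u * l s * u⁻¹ = t
  group

theorem aq2 : AQStmt T := by
  intro A hA
  haveI := Kr_normal h
  have cA : ∀ s, cQ' T s ∈ A := fun s => hA.cj s _ fun x hx => ext_cQ s hx
  have q7 : x7 T 1 ∈ Q T := ⟨rfl, rfl⟩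
  have d7 : x7 T 1 ∉ D T := fun e => one_ne_zero (α := K) e.2.2.2.1
  have nmY : ∀ α ∈ A, ext α (x7 T 1) ∈ Y T → Nm α := fun α hα e => by
    obtain ⟨u, l, e⟩ := semY h α e
    exact nm_of h hA hα e
  have s7 : ∀ α : MulAut (Q T), ext α (x7 T 1) * ext α (x7 T 1) = 1 := fun α => by
    rw [← ext_map_mul α q7 q7, sqY _ (by o8s), ext_map_one]
  have cs : ∀ α : MulAut (Q T), ext α (x7 T 1) ∈ Y T ∨
      ∃ u, w8 (ext (cQ' T u * α) (x7 T 1)) ∈ Y T := fun α =>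
    (inv_cases (ext_mem α q7) (s7 α) (notD h α q7 d7)).imp_right fun ⟨u, e⟩ =>
      ⟨u, by rwa [ext_mul, ext_cQ _ (ext_mem _ q7)]⟩
  refine ⟨kerQ h hA, fun n hn sn α hα => ?_, fun ⟨α, hα, hN⟩ => ?_⟩
  · rcases cs α with e | ⟨u, e⟩
    · exact Or.inl (nmY α hα e)
    · refine Or.inr ⟨u, cQ' T u, fun x hx => ext_cQ u hx,
        nmY _ (A.mul_mem (A.mul_mem hn (cA u)) hα) ?_⟩
      refine (invQ _ ?_ (ext_mem _ q7) (s7 _)).resolve_left fun e => notD h _ q7 d7 (V_le_D e)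
      have e1 := (modD (w8_mem _) (ext_mem _ (ext_mem (cQ' T u * α) q7))).1
        (sn _ (ext_mem (cQ' T u * α) q7))
      rw [mul_assoc, ext_mul]
      exact e1.1.symm.trans e.1
  obtain ⟨u, e⟩ := (cs α).resolve_left fun e => hN (nmY α hα e)
  obtain ⟨v, l, e1⟩ := semY h (wQ T * (cQ' T u * α)) (by
    rwa [ext_mul, ext_wQ (ext_mem _ q7)])
  -- computation modulo `Kr`
  let π := QuotientGroup.mk' (Kr T)
  let B := A.map π
  have cB : ∀ s, π (cQ' T s) ∈ B := fun s => ⟨_, cA s, rfl⟩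
  have ww : π (wQ T) * π (wQ T) = 1 := by rw [← map_mul, wQ_wQ, map_one]
  have wi : (π (wQ T))⁻¹ = π (wQ T) := inv_eq_of_mul_eq_one_right ww
  have b1 : π (wQ T) * π (rQ T l) ∈ B := by
    have e2 : π (cQ' T v * rQ T l) = π (wQ T * (cQ' T u * α)) := QuotientGroup.eq.2 e1
    have e3 : cQ' T v * rQ T l = rQ T l * cQ' T (l⁻¹ v) := by
      rw [rQ_cQ]
      exact congrArg (fun s => cQ' T s * rQ T l) (l.apply_symm_apply v).symm
    rw [e3, map_mul, map_mul] at e2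
    have e4 : π (wQ T) * π (rQ T l) = π (cQ' T u * α) * (π (cQ' T (l⁻¹ v)))⁻¹ := by
      rw [eq_mul_inv_iff_mul_eq, mul_assoc, e2, ← mul_assoc, ww, one_mul]
    rw [e4]
    exact B.mul_mem ⟨_, A.mul_mem (cA u) hα, rfl⟩ (B.inv_mem (cB _))
  have b2 : ∀ s, π (wQ T) * π (cQ' T s) * π (wQ T) ∈ B := fun s => by
    have e2 := B.mul_mem (B.mul_mem b1 (cB (l⁻¹ s))) (B.inv_mem b1)
    have e3 : l (l⁻¹ s) = s := l.apply_symm_apply s
    rwa [mul_assoc (π (wQ T)), ← map_mul, rQ_cQ, e3, map_mul, mul_inv_rev, wi, ← mul_assoc,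
      ← mul_assoc, mul_inv_cancel_right] at e2
  have sz : π (cQ' T (y8 T 1) * wQ T * cQ' T (x8 T 1)) = π (wQ T * cQ' T (y8 T 1) * wQ T) := by
    refine QuotientGroup.eq.2 ((inv_mul_mem_Kr h).2 fun x hx => ?_)
    rw [ext_mul, ext_mul, ext_mul, ext_mul, ext_wQ hx, ext_cQ _ (w8_mem _),
      ext_wQ (conj_Q _ (w8_mem _)), ext_cQ _ hx, ext_wQ (conj_Q _ hx), ext_cQ _ (w8_mem _)]
    exact sz_rel hx
  have b3 : ∀ e : Kˣ, π (rQ T (tor T (1, e ^ 2))) * π (wQ T) ∈ B := fun e => by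
    have t1 : ∀ (c : Kˣ × Kˣ) s, π (rQ T (tor T c)) * π (cQ' T s) =
        π (cQ' T (tor T c s)) * π (rQ T (tor T c)) := fun c s => by
      rw [← map_mul, rQ_cQ, map_mul]
    have t2 : ∀ e : Kˣ, π (rQ T (tor T (1, e))) * π (wQ T) =
        π (wQ T) * (π (rQ T (tor T (1, e))))⁻¹ := fun e => by
      rw [← map_inv, ← map_inv, ← map_inv, ← map_mul, ← map_mul, ← wQ_tor]
      congr 4
      exact Prod.ext (by simp [swQ]) (by simp [swQ])
    have t3 : π (rQ T (tor T (1, e ^ 2))) =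
        π (rQ T (tor T (1, e))) * π (rQ T (tor T (1, e))) := by
      rw [← map_mul, ← map_mul, ← map_mul, pow_two, Prod.mk_mul_mk, one_mul]
    have t4 := t1 (1, e) (y8 T 1)
    have t5 := t1 (1, e) (x8 T 1)
    have t7 := t1 (1, e)⁻¹ (y8 T 1)
    have hi : π (rQ T (tor T (1, e)⁻¹)) = (π (rQ T (tor T (1, e))))⁻¹ :=
      map_inv (π.comp ((rQ T).comp (tor T))) (1, e)
    rw [hi] at t7
    have m1 := b2 (tor T (1, e)⁻¹ (y8 T 1))
    have m2 := cB (tor T (1, e) (y8 T 1))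
    have m3 := cB (tor T (1, e) (x8 T 1))
    rw [map_mul, map_mul, map_mul, map_mul] at sz
    rw [t3]
    replace t2 := t2 e
    generalize π (rQ T (tor T (1, e))) = t at *
    generalize π (wQ T) = w at *
    generalize π (cQ' T (y8 T 1)) = y at *
    generalize π (cQ' T (x8 T 1)) = x at *
    generalize π (cQ' T (tor T (1, e) (y8 T 1))) = y1 at *
    generalize π (cQ' T (tor T (1, e) (x8 T 1))) = x' at *
    generalize π (cQ' T (tor T (1, e)⁻¹ (y8 T 1))) = y2 at *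
    have k : t * t * w = y1⁻¹ * (w * y2 * w) * x'⁻¹ := by
      have k1 : y1 = t * y * t⁻¹ := by rw [t4]; group
      have k2 : x' = t * x * t⁻¹ := by rw [t5]; group
      have k3 : y2 = t⁻¹ * y * t := by rw [t7]; group
      have k4 : w * t⁻¹ = t * w := t2.symm
      have k5 : t * w = w * t⁻¹ := t2
      rw [k1, k2, k3]
      calc t * t * w = t * (w * t⁻¹) := by rw [mul_assoc, k5]
        _ = t * y⁻¹ * (y * w * x) * x⁻¹ * t⁻¹ := by group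
        _ = t * y⁻¹ * (t⁻¹ * (t * w) * y * (w * t⁻¹) * t) * x⁻¹ * t⁻¹ := by rw [sz]; group
        _ = t * y⁻¹ * (t⁻¹ * (w * t⁻¹) * y * (t * w) * t) * x⁻¹ * t⁻¹ := by
          rw [k5]
        _ = _ := by group
    rw [k]
    exact B.mul_mem (B.mul_mem (B.inv_mem m2) m1) (B.inv_mem m3)
  have b4 : π (wQ T) ∈ B := by
    have := b3 1
    rwa [one_pow, show ((1 : Kˣ), (1 : Kˣ)) = 1 from rfl, map_one, map_one, map_one,
      one_mul] at this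
  refine ⟨?_, fun c => ?_⟩
  · obtain ⟨n, hn, en⟩ := b4
    refine ⟨n, hn, fun x hx => (modD (w8_mem _) (ext_mem _ hx)).2 ?_⟩
    have := (inv_mul_mem_Kr h).1 (QuotientGroup.eq.1 en) x hx
    rwa [ext_wQ hx] at this
  · obtain ⟨b, hb⟩ := nrm_surj (T := T) (c : K)
    obtain ⟨e', he'⟩ := θ_surj (T := T) b
    obtain ⟨e, he⟩ := θ_surj (T := T) e'
    have hbe : e ^ 2 = b := by rw [← he', ← he, T.θθ]
    have e0 : e ≠ 0 := by
      rintro rfl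
      exact c.ne_zero (by rw [← hb, ← hbe]; simp)
    have m := B.mul_mem (b3 (Units.mk0 e e0)) (B.inv_mem b4)
    rw [mul_inv_cancel_right] at m
    obtain ⟨δ, hδ, eδ⟩ := m
    have k1 : (rQ T (tor T (1, Units.mk0 e e0 ^ 2)))⁻¹ * δ ∈ Kr T := QuotientGroup.eq.1 eδ.symm
    refine ⟨δ, hδ, nm_of h hA hδ (u := 1) (by rwa [map_one, one_mul]), fun t => ?_⟩
    obtain ⟨k2, k3, -⟩ := h.ker _ (mem_Kr.1 k1)
    have k4 : ∀ x ∈ Q T, ext δ x = tor T (1, Units.mk0 e e0 ^ 2)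
        (ext ((rQ T (tor T (1, Units.mk0 e e0 ^ 2)))⁻¹ * δ) x) := fun x hx => by
      rw [← ext_rQ _ (ext_mem _ hx), ← ext_mul, mul_inv_cancel_left]
    have z4 : x4 T t ∈ Z T := by o8s
    refine ⟨by rw [k4 _ ⟨rfl, rfl⟩, k3 _ z4, tor_Z_eq _ z4], ?_⟩
    have k5 := tor_Z (1, Units.mk0 e e0 ^ 2) (k2 (x6 T t) (by o8s))
    rw [map_mul, map_inv, ← k4 _ ⟨rfl, rfl⟩] at k5
    rwa [show x6 T (c * t) = tor T (1, Units.mk0 e e0 ^ 2) (x6 T t) by
      ext <;> simp [tor_apply, sc, x6, hbe, hb]]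

end

end Cfsg.Agent.H72.VB
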