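import Cfsg.Agent.H96.VbDefs
import Cfsg.Agent.H92.UL2

/-! Project VB (S5262), piece CHS: characteristic subgroups of `U T`. -/

set_option autoImplicit false
set_option linter.unusedSimpArgs false
set_option linter.unnecessarySeqFocus false

namespace Cfsg.Agent.H72.VB

open Cfsg.Agent.H39 Cfsg.Agent.H15.O8 Cfsg.Agent.H96.VB Cfsg.Agent.H92.UL Subgroup
open scoped commutatorElement

universe u

section

variable {G : Type*} [Group G]

/-- invariant under all automorphisms -/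
def Chr (A : G → Prop) : Prop := ∀ β : MulAut G, ∀ g, A g → A (β g)

theorem Chr.of_iff {A B : G → Prop} (h : Chr A) (e : ∀ g, B g ↔ A g) : Chr B :=
  fun β g hg => (e _).2 (h β g ((e g).1 hg))

theorem Chr.and {A B : G → Prop} (h : Chr A) (k : Chr B) : Chr fun g => A g ∧ B g :=
  fun β g hg => ⟨h β g hg.1, k β g hg.2⟩

theorem Chr.not {A : G → Prop} (h : Chr A) : Chr fun g => ¬ A g :=
  fun β g hg e => hg (by simpa using h β⁻¹ _ e)

theorem Chr.comm {A B : G → Prop} (h : Chr A) (k : Chr B) :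
    Chr fun g : G => ∀ x : G, A x → B ⁅g, x⁆ :=
  fun β g hg x hx => by
    have := k β _ (hg _ (h β⁻¹ x hx))
    rwa [map_commutatorElement, MulAut.apply_inv_self] at this

theorem chr_true : Chr fun _ : G => True := fun _ _ _ => trivial

theorem chr_one : Chr fun g : G => g = 1 := fun β _ h => by rw [h, map_one]

theorem chr_inv : Chr fun g : G => g * g = 1 := fun β g h => by
  change β g * β g = 1
  rw [← map_mul, h, map_one]

end

variable {K : Type u} [Field K] {T : Tits K}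

theorem chrZ : Chr fun g : U T => g ∈ Z T :=
  (chr_true.comm chr_one).of_iff fun g =>
    ⟨fun h x _ => commutatorElement_eq_one_iff_mul_comm.2 (cZ g h x).symm,
      fun h => cQ g fun x _ => commutatorElement_eq_one_iff_mul_comm.1 (h x trivial)⟩

theorem chrW : Chr fun g : U T => g ∈ W T :=
  (chr_true.comm chrZ).of_iff fun g => (z2 g).trans ⟨fun h x _ => h x, fun h x => h x trivial⟩

theorem chrE : Chr fun g : U T => g ∈ E T :=
  (chrW.comm chr_one).of_iff fun g => (cW g).trans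
    (forall₂_congr fun _ _ => commutatorElement_eq_one_iff_mul_comm.symm)

theorem chrR : Chr fun g : U T => g ∈ R T :=
  (chrE.and (chrE.comm chrW)).of_iff fun g =>
    ⟨fun h => ⟨h.1, (charR g h.1).1 h⟩, fun h => (charR g h.1).2 h.2⟩

theorem chrY : Chr fun g : U T => g ∈ Y T :=
  (chrE.and (chrE.comm chrR)).of_iff fun g =>
    ⟨fun h => ⟨h.1, (charY g h.1).1 h⟩, fun h => (charY g h.1).2 h.2⟩

theorem commZ4 {g : U T} (h : g ∈ Z4 T) (k : U T) : ⁅g, k⁆ ∈ R T := by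
  obtain ⟨h1, h2, h3, h4, h5, h6, h7, h8⟩ := mem_Z4.1 h
  o8s
  simp only [h1, h2, h3, h4, h5, h6, h7, h8]
  refine ⟨?_, ?_, ?_, ?_, ?_, ?_, ?_, ?_, ?_⟩ <;> o8ring T

theorem chrZ4 : Chr fun g : U T => g ∈ Z4 T :=
  (chrY.and (chr_true.comm chrR)).of_iff fun g =>
    ⟨fun h => ⟨h.2, fun x _ => commZ4 h x⟩, fun ⟨⟨h1, h2, h3, h4, h5, h6, h7⟩, h⟩ => by
      have e := (h (x1 T 1) trivial).2.2.2.1
      o8s at e
      simp only [h1, h2, h3, h4, h5, h6, h7] at e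
      exact mem_Z4.2 ⟨h1, h2, h3, h4, h5, by o8g T, h6, h7⟩⟩

theorem commV4 {g : U T} (h : g ∈ V T) (k : U T) : ⁅g, k⁆ ∈ Z4 T := by
  obtain ⟨h1, h2, h3, h4, h5, h6, h7⟩ := h
  rw [mem_Z4]
  o8s
  simp only [h1, h2, h3, h4, h5, h6, h7]
  refine ⟨?_, ?_, ?_, ?_, ?_, ?_, ?_, ?_⟩ <;> o8ring T

theorem memV_of {g : U T} (h2 : g * g = 1) (h : ∀ k, ⁅g, k⁆ ∈ Z4 T) (hY : g ∉ Y T) : g ∈ V T := by
  obtain ⟨-, e1, -, -, e2, -⟩ := mem_Z4.1 (h (x1 T 1))
  obtain ⟨-, e3, -⟩ := mem_Z4.1 (h (y8 T 1))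
  o8s at e1 e2 e3
  have b8 : g.b8 = 0 := by o8g T
  have a8 : g.a8 = 0 := by
    simp only [b8] at e2
    o8g T
  have a1 : g.a1 = 0 := by o8g T
  exact (invQ g a1 ⟨b8, a8⟩ h2).resolve_right hY

theorem chrV : Chr fun g : U T => g ∈ V T := by
  have key : ∀ (β : MulAut (U T)) (g : U T), g ∈ V T → g ∉ Y T → β g ∈ V T := fun β g hg hY => by
    have h1 : β g * β g = 1 := chr_inv β g (sqV g hg)
    refine memV_of h1 (fun k => ?_) (chrY.not β g hY)
    obtain ⟨k, rfl⟩ := β.surjective k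
    rw [← map_commutatorElement]
    exact chrZ4 β _ (commV4 hg k)
  intro β g hg
  by_cases hY : g ∈ Y T
  · have h1 : x2 T 1 ∈ V T := by o8s
    have h2 : x2 T 1 ∉ Y T := fun h => one_ne_zero (α := K) h.2.2.1
    have h3 := key β (g * x2 T 1) (mul_mem hg h1) fun h => h2 ((mul_mem_cancel_left hY).1 h)
    rw [map_mul] at h3
    exact (mul_mem_cancel_right (key β _ h1 h2)).1 h3
  · exact key β g hg hY

theorem commQV {g v : U T} (hg : g ∈ Q T) (hv : v ∈ V T) : ⁅g, v⁆ ∈ Z T := by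
  obtain ⟨h1, h2, h3, h4, h5, h6, h7⟩ := hv
  obtain ⟨k1, k2⟩ := hg
  o8s
  simp only [h1, h2, h3, h4, h5, h6, h7, k1, k2]
  refine ⟨?_, ?_, ?_, ?_, ?_, ?_, ?_, ?_, ?_, ?_, ?_⟩ <;> o8ring T

theorem chrQ : Chr fun g : U T => g ∈ Q T :=
  (chrV.comm chrZ).of_iff fun g => ⟨fun h _ hv => commQV h hv, fun h => by
    obtain ⟨-, -, -, e1, -, e2, -⟩ := h (x2 T 1) (by o8s)
    o8s at e1 e2
    have b8 : g.b8 = 0 := by o8g T
    simp only [b8] at e2
    exact ⟨b8, by o8g T⟩⟩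

theorem chS : ChSStmt T := fun β => ⟨chrQ β, chrE β, chrV β, chrW β, chrZ β⟩

end Cfsg.Agent.H72.VB
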